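import Mathlib

set_option autoImplicit false

namespace Cfsg.Agent.Helper14.AltOrders

open Equiv Equiv.Perm

theorem prime_dvd_lcm {p : ℕ} (hp : p.Prime) :
    ∀ m : Multiset ℕ, p ∣ m.lcm → ∃ a ∈ m, p ∣ a := by
  intro m
  induction m using Multiset.induction_on with
  | empty =>
    intro h
    simp only [Multiset.lcm_zero] at h
    exact absurd (Nat.le_of_dvd one_pos h) (by have := hp.two_le; omega)
  | cons a s ih =>
    intro h
    rw [Multiset.lcm_cons, lcm_eq_nat_lcm] at h
    have h' : p ∣ a * s.lcm := dvd_trans h (Nat.lcm_dvd_mul a s.lcm)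
    rcases (hp.dvd_mul).1 h' with h1 | h1
    · exact ⟨a, Multiset.mem_cons_self a s, h1⟩
    · obtain ⟨b, hb, hpb⟩ := ih h1
      exact ⟨b, Multiset.mem_cons_of_mem hb, hpb⟩

theorem sign_eq_one_iff {α : Type*} [Fintype α] [DecidableEq α] (g : Perm α) :
    sign g = 1 ↔ Even (g.cycleType.sum + Multiset.card g.cycleType) := by
  rw [sign_of_cycleType]
  exact neg_one_pow_eq_one_iff_even (by decide)

theorem mem_range_orderOf_iff (n k : ℕ) :
    k ∈ Set.range (orderOf : alternatingGroup (Fin n) → ℕ) ↔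
      ∃ m : Multiset ℕ, m.sum ≤ n ∧ (∀ a ∈ m, 2 ≤ a) ∧ Even (m.sum + Multiset.card m) ∧
        m.lcm = k := by
  constructor
  · rintro ⟨⟨g, hg⟩, rfl⟩
    refine ⟨g.cycleType, ?_, fun a ha => two_le_of_mem_cycleType ha, ?_, ?_⟩
    · simpa using g.sum_cycleType_le
    · exact (sign_eq_one_iff g).1 (mem_alternatingGroup.1 hg)
    · rw [lcm_cycleType]
      exact (Subgroup.orderOf_mk g hg).symm
  · rintro ⟨m, hs, h2, hev, rfl⟩
    obtain ⟨g, hg⟩ := (exists_with_cycleType_iff (Fin n)).2 ⟨by simpa using hs, h2⟩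
    refine ⟨⟨g, mem_alternatingGroup.2 ((sign_eq_one_iff g).2 (hg ▸ hev))⟩, ?_⟩
    rw [Subgroup.orderOf_mk, ← lcm_cycleType, hg]

theorem parity_filter (m : Multiset ℕ) :
    (m.sum + Multiset.card m) % 2 = (Multiset.card (m.filter (fun x => x % 2 = 0))) % 2 := by
  induction m using Multiset.induction_on with
  | empty => simp
  | cons a s ih =>
    rw [Multiset.sum_cons, Multiset.card_cons, Multiset.filter_cons]
    split_ifs with h
    · simp only [Multiset.card_add, Multiset.card_singleton]
      omega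
    · simp only [zero_add]
      omega

theorem add_le_sum_of_mem_of_ne {m : Multiset ℕ} {a b : ℕ} (ha : a ∈ m) (hb : b ∈ m)
    (hab : b ≠ a) : a + b ≤ m.sum := by
  have hb' : b ∈ m.erase a := (Multiset.mem_erase_of_ne hab).2 hb
  have h1 := Multiset.sum_erase ha
  have h2 := Multiset.le_sum_of_mem hb'
  omega

/-- achievable (lcm, odd-parity flag) pairs for multisets with at most `f` parts, all at
least 2, of sum at most `b`. -/
def achv : ℕ → ℕ → List (ℕ × Bool)
  | 0, _ => [(1, false)]
  | f + 1, b => (1, false) :: (List.range (b + 1)).flatMap (fun a =>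
      if 2 ≤ a then (achv f (b - a)).map (fun x => (Nat.lcm a x.1, xor x.2 (a % 2 == 0)))
      else [])

theorem mem_achv : ∀ (m : Multiset ℕ) (f b : ℕ), Multiset.card m ≤ f → m.sum ≤ b →
    (∀ a ∈ m, 2 ≤ a) → (m.lcm, decide ((m.sum + Multiset.card m) % 2 = 1)) ∈ achv f b := by
  intro m
  induction m using Multiset.induction_on with
  | empty =>
    intro f b _ _ _
    cases f <;> simp [achv]
  | cons a s ih =>
    intro f b hf hb h2
    rw [Multiset.card_cons] at hf
    rw [Multiset.sum_cons] at hb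
    obtain ⟨f', rfl⟩ : ∃ f', f = f' + 1 := ⟨f - 1, by omega⟩
    have ha2 : 2 ≤ a := h2 a (Multiset.mem_cons_self a s)
    have ih' := ih f' (b - a) (by omega) (by omega)
      (fun x hx => h2 x (Multiset.mem_cons_of_mem hx))
    simp only [achv, List.mem_cons, List.mem_flatMap, List.mem_range]
    right
    refine ⟨a, by omega, ?_⟩
    rw [if_pos ha2, List.mem_map]
    refine ⟨_, ih', ?_⟩
    rw [Multiset.lcm_cons, Multiset.sum_cons, Multiset.card_cons, lcm_eq_nat_lcm]
    refine Prod.ext rfl ?_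
    simp only
    rcases Nat.mod_two_eq_zero_or_one a with h | h <;>
      rcases Nat.mod_two_eq_zero_or_one (s.sum + Multiset.card s) with h' | h' <;>
      simp [h, h'] <;> omega

end Cfsg.Agent.Helper14.AltOrders
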