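import Mathlib

set_option autoImplicit false

namespace Cfsg.Agent.Helper14.CE2

open Classical

variable {K : Type*} [Group K]

/-- hypotheses of the class equation -/
structure Hyp1 (z : K) : Prop where
  cen : ∀ g : K, Commute g z
  ne1 : z ≠ 1
  a1 : ∀ x : K, x ≠ 1 → x ≠ z → ∀ g h : K, Commute g x → Commute h x → Commute g h

/-- non-central elements -/
def Good (z x : K) : Prop := x ≠ 1 ∧ x ≠ z

theorem good_conj {z : K} (H : Hyp1 z) {x : K} (hx : Good z x) (g : K) :
    Good z (g * x * g⁻¹) := by
  constructor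
  · intro h
    apply hx.1
    have : x = g⁻¹ * (g * x * g⁻¹) * g := by group
    rw [this, h]
    group
  · intro h
    apply hx.2
    have e : x = g⁻¹ * (g * x * g⁻¹) * g := by group
    rw [e, h]
    have := (H.cen g⁻¹).eq
    rw [this]
    group

/-- the relation -/
def Rel (x y : K) : Prop := ∃ g : K, Commute (g * x * g⁻¹) y

theorem rel_iff {z : K} (H : Hyp1 z) {x y : K} (hx : Good z x) (hy : Good z y) (hxy : Rel x y)
    (w : K) : Rel y w ↔ Rel x w := by
  obtain ⟨g, hg⟩ := hxy
  constructor
  · rintro ⟨h, hc⟩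
    have h1 : Commute (h * (g * x * g⁻¹) * h⁻¹) (h * y * h⁻¹) := (Commute.conj_iff h).mpr hg
    have hgood := good_conj H hy h
    have h2 := H.a1 _ hgood.1 hgood.2 _ _ h1 hc.symm
    refine ⟨h * g, ?_⟩
    have e : h * g * x * (h * g)⁻¹ = h * (g * x * g⁻¹) * h⁻¹ := by group
    rw [e]
    exact h2
  · rintro ⟨h', hc⟩
    refine ⟨h' * g⁻¹, ?_⟩
    have h1 : Commute (h' * g⁻¹ * (g * x * g⁻¹) * (h' * g⁻¹)⁻¹) (h' * g⁻¹ * y * (h' * g⁻¹)⁻¹) :=
      (Commute.conj_iff (h' * g⁻¹)).mpr hg
    have e : h' * g⁻¹ * (g * x * g⁻¹) * (h' * g⁻¹)⁻¹ = h' * x * h'⁻¹ := by group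
    rw [e] at h1
    have hgood := good_conj H hx h'
    exact H.a1 _ hgood.1 hgood.2 _ _ h1.symm hc.symm

variable [Fintype K]

/-- the class of `x` -/
noncomputable def cls (z x : K) : Finset K := Finset.univ.filter (fun y => Good z y ∧ Rel x y)

theorem mem_cls (z x y : K) : y ∈ cls z x ↔ Good z y ∧ Rel x y := by
  simp [cls]

theorem self_mem_cls {z x : K} (hx : Good z x) : x ∈ cls z x := by
  rw [mem_cls]
  refine ⟨hx, 1, ?_⟩
  simp

theorem cls_eq {z : K} (H : Hyp1 z) {x y : K} (hx : Good z x) (hy : y ∈ cls z x) :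
    cls z y = cls z x := by
  rw [mem_cls] at hy
  ext w
  rw [mem_cls, mem_cls, rel_iff H hx hy.1 hy.2 w]

theorem cls_disjoint {z : K} (H : Hyp1 z) {x y : K} (hx : Good z x) (hy : Good z y)
    (hyx : y ∉ cls z x) : Disjoint (cls z x) (cls z y) := by
  rw [Finset.disjoint_left]
  intro w hwx hwy
  apply hyx
  have e1 := cls_eq H hx hwx
  have e2 := cls_eq H hy hwy
  rw [← e1, e2]
  exact self_mem_cls hy

theorem card_cent (y : K) :
    (Finset.univ.filter (fun w : K => Commute w y)).card = Nat.card (Subgroup.centralizer {y}) := by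
  symm
  apply Nat.subtype_card
  intro w
  rw [Finset.mem_filter, Subgroup.mem_centralizer_singleton_iff]
  simp [Commute, SemiconjBy]

theorem card_cent_conj (x g : K) :
    (Finset.univ.filter (fun w : K => Commute w (g * x * g⁻¹))).card =
      (Finset.univ.filter (fun w : K => Commute w x)).card := by
  apply Finset.card_nbij' (fun w => g⁻¹ * w * g) (fun w => g * w * g⁻¹)
  · intro w hw
    simp only [Finset.coe_filter, Finset.mem_univ, true_and, Set.mem_ofPred_eq] at hw ⊢
    have := (Commute.conj_iff g⁻¹).mpr hw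
    have e : g⁻¹ * (g * x * g⁻¹) * g⁻¹⁻¹ = x := by group
    rw [e, inv_inv] at this
    exact this
  · intro w hw
    simp only [Finset.coe_filter, Finset.mem_univ, true_and, Set.mem_ofPred_eq] at hw ⊢
    exact (Commute.conj_iff g).mpr hw
  · intro w _
    show g * (g⁻¹ * w * g) * g⁻¹ = w
    group
  · intro w _
    show g⁻¹ * (g * w * g⁻¹) * g = w
    group

theorem card_good_cent {z : K} (H : Hyp1 z) (y : K) :
    (Finset.univ.filter (fun w : K => Good z w ∧ Commute w y)).card =
      Nat.card (Subgroup.centralizer {y}) - 2 := by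
  rw [← card_cent]
  have e : Finset.univ.filter (fun w : K => Good z w ∧ Commute w y) =
      Finset.univ.filter (fun w : K => Commute w y) \ {1, z} := by
    ext w
    rw [Finset.mem_filter, Finset.mem_sdiff, Finset.mem_filter, Finset.mem_insert,
      Finset.mem_singleton]
    unfold Good
    tauto
  rw [e, Finset.card_sdiff]
  have e2 : ({1, z} : Finset K) ∩ Finset.univ.filter (fun w : K => Commute w y) = {1, z} := by
    rw [Finset.inter_eq_left]
    intro w hw
    simp only [Finset.mem_insert, Finset.mem_singleton] at hw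
    simp only [Finset.mem_filter, Finset.mem_univ, true_and]
    rcases hw with rfl | rfl
    · exact Commute.one_left y
    · exact (H.cen y).symm
  rw [e2, Finset.card_pair H.ne1.symm]

omit [Fintype K] in
theorem mem_norm_iff {z : K} (H : Hyp1 z) {x : K} (hx : Good z x) (n : K) :
    n ∈ Subgroup.normalizer ((Subgroup.centralizer {x} : Subgroup K) : Set K) ↔
      Commute (n * x * n⁻¹) x := by
  rw [Subgroup.mem_normalizer_iff]
  have hgood := good_conj H hx n
  constructor
  · intro h
    have h1 := (h x).mp (by rw [Subgroup.mem_centralizer_singleton_iff])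
    rw [Subgroup.mem_centralizer_singleton_iff] at h1
    exact h1
  · intro hc h
    rw [Subgroup.mem_centralizer_singleton_iff, Subgroup.mem_centralizer_singleton_iff]
    constructor
    · intro hh
      have h1 : Commute (n * h * n⁻¹) (n * x * n⁻¹) := (Commute.conj_iff n).mpr hh
      exact H.a1 _ hgood.1 hgood.2 _ _ h1 hc.symm
    · intro hh
      have h1 : Commute (n * h * n⁻¹) (n * x * n⁻¹) :=
        H.a1 _ hx.1 hx.2 _ _ hh hc
      exact (Commute.conj_iff n).mp h1

theorem double_count {z : K} (H : Hyp1 z) {x : K} (hx : Good z x) :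
    Fintype.card K * (Nat.card (Subgroup.centralizer {x}) - 2) =
      (cls z x).card *
        Nat.card (Subgroup.normalizer ((Subgroup.centralizer {x} : Subgroup K) : Set K)) := by
  have hL : ∀ g : K, (Finset.univ.filter
      (fun w : K => Good z w ∧ Commute w (g * x * g⁻¹))).card =
      Nat.card (Subgroup.centralizer {x}) - 2 := by
    intro g
    rw [card_good_cent H, ← card_cent, card_cent_conj, card_cent]
  have hR : ∀ w : K, (Finset.univ.filter
      (fun g : K => Good z w ∧ Commute w (g * x * g⁻¹))).card =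
      if w ∈ cls z x then
        Nat.card (Subgroup.normalizer ((Subgroup.centralizer {x} : Subgroup K) : Set K))
      else 0 := by
    intro w
    by_cases hw : w ∈ cls z x
    · rw [if_pos hw]
      rw [mem_cls] at hw
      obtain ⟨hgw, g₀, hg₀⟩ := hw
      have hN : Nat.card (Subgroup.normalizer ((Subgroup.centralizer {x} : Subgroup K) : Set K)) =
          (Finset.univ.filter (fun n : K =>
            n ∈ Subgroup.normalizer ((Subgroup.centralizer {x} : Subgroup K) : Set K))).card :=
        Nat.subtype_card _ (by simp)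
      rw [hN]
      apply Finset.card_nbij' (fun g => g₀⁻¹ * g) (fun n => g₀ * n)
      · intro g hg
        simp only [Finset.coe_filter, Finset.mem_univ, true_and, Set.mem_ofPred_eq] at hg ⊢
        rw [mem_norm_iff H hx]
        have h1 : Commute (g * x * g⁻¹) (g₀ * x * g₀⁻¹) :=
          H.a1 w hgw.1 hgw.2 _ _ hg.2.symm hg₀
        have h2 := (Commute.conj_iff g₀⁻¹).mpr h1
        have e1 : g₀⁻¹ * (g * x * g⁻¹) * g₀⁻¹⁻¹ = g₀⁻¹ * g * x * (g₀⁻¹ * g)⁻¹ := by group
        have e2 : g₀⁻¹ * (g₀ * x * g₀⁻¹) * g₀⁻¹⁻¹ = x := by group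
        rw [e1, e2] at h2
        exact h2
      · intro n hn
        simp only [Finset.coe_filter, Finset.mem_univ, true_and, Set.mem_ofPred_eq] at hn ⊢
        rw [mem_norm_iff H hx] at hn
        refine ⟨hgw, ?_⟩
        have h2 := (Commute.conj_iff g₀).mpr hn
        have e1 : g₀ * (n * x * n⁻¹) * g₀⁻¹ = g₀ * n * x * (g₀ * n)⁻¹ := by group
        rw [e1] at h2
        have hgood := good_conj H hx g₀
        exact H.a1 _ hgood.1 hgood.2 _ _ hg₀.symm h2
      · intro g _
        show g₀ * (g₀⁻¹ * g) = g
        group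
      · intro n _
        show g₀⁻¹ * (g₀ * n) = n
        group
    · rw [if_neg hw, Finset.card_eq_zero, Finset.filter_eq_empty_iff]
      intro g _ hg
      apply hw
      rw [mem_cls]
      exact ⟨hg.1, g, hg.2.symm⟩
  have h1 : ∑ g : K, (Finset.univ.filter
      (fun w : K => Good z w ∧ Commute w (g * x * g⁻¹))).card =
      ∑ w : K, (Finset.univ.filter
      (fun g : K => Good z w ∧ Commute w (g * x * g⁻¹))).card := by
    simp only [Finset.card_filter]
    exact Finset.sum_comm
  rw [Finset.sum_congr rfl (fun g _ => hL g), Finset.sum_congr rfl (fun w _ => hR w),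
    Finset.sum_const, Finset.card_univ, smul_eq_mul, Finset.sum_ite_mem, Finset.univ_inter,
    Finset.sum_const, smul_eq_mul] at h1
  exact h1

theorem norm_card_le {z : K} (H : Hyp1 z) {x : K} (hx : Good z x)
    (ha2 : ∀ g : K, Commute (g * x * g⁻¹) x → g * x * g⁻¹ = x ∨ g * x * g⁻¹ = x⁻¹) :
    Nat.card (Subgroup.normalizer ((Subgroup.centralizer {x} : Subgroup K) : Set K)) ≤
      2 * Nat.card (Subgroup.centralizer {x}) := by
  have hN : Nat.card (Subgroup.normalizer ((Subgroup.centralizer {x} : Subgroup K) : Set K)) =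
      (Finset.univ.filter (fun n : K =>
        n ∈ Subgroup.normalizer ((Subgroup.centralizer {x} : Subgroup K) : Set K))).card :=
    Nat.subtype_card _ (by simp)
  have hA : Nat.card (Subgroup.centralizer {x}) =
      (Finset.univ.filter (fun n : K => n ∈ Subgroup.centralizer {x})).card :=
    Nat.subtype_card _ (by simp)
  by_cases hex : ∃ n₀, n₀ ∈ Subgroup.normalizer ((Subgroup.centralizer {x} : Subgroup K) : Set K) ∧
      n₀ ∉ Subgroup.centralizer {x}
  · obtain ⟨n₀, hn₀N, hn₀A⟩ := hex
    rw [hN, hA]
    have hsub : Finset.univ.filter (fun n : K =>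
        n ∈ Subgroup.normalizer ((Subgroup.centralizer {x} : Subgroup K) : Set K)) ⊆
        Finset.univ.filter (fun n : K => n ∈ Subgroup.centralizer {x}) ∪
        (Finset.univ.filter (fun n : K => n ∈ Subgroup.centralizer {x})).image
          (fun a => n₀ * a) := by
      intro n hn
      rw [Finset.mem_filter] at hn
      rw [Finset.mem_union, Finset.mem_filter, Finset.mem_image]
      by_cases hnA : n ∈ Subgroup.centralizer {x}
      · left
        exact ⟨Finset.mem_univ _, hnA⟩
      · right
        refine ⟨n₀⁻¹ * n, ?_, by group⟩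
        rw [Finset.mem_filter]
        refine ⟨Finset.mem_univ _, ?_⟩
        have c1 := (mem_norm_iff H hx n).mp hn.2
        have c2 := (mem_norm_iff H hx n₀).mp hn₀N
        rcases ha2 n c1 with e1 | e1
        · exfalso
          apply hnA
          rw [Subgroup.mem_centralizer_singleton_iff]
          calc n * x = (n * x * n⁻¹) * n := by group
            _ = x * n := by rw [e1]
        rcases ha2 n₀ c2 with e2 | e2
        · exfalso
          apply hn₀A
          rw [Subgroup.mem_centralizer_singleton_iff]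
          calc n₀ * x = (n₀ * x * n₀⁻¹) * n₀ := by group
            _ = x * n₀ := by rw [e2]
        rw [Subgroup.mem_centralizer_singleton_iff]
        have e3 : n * x * n⁻¹ = n₀ * x * n₀⁻¹ := e1.trans e2.symm
        calc n₀⁻¹ * n * x = n₀⁻¹ * (n * x * n⁻¹) * n := by group
          _ = n₀⁻¹ * (n₀ * x * n₀⁻¹) * n := by rw [e3]
          _ = x * (n₀⁻¹ * n) := by group
    calc (Finset.univ.filter (fun n : K =>
        n ∈ Subgroup.normalizer ((Subgroup.centralizer {x} : Subgroup K) : Set K))).card
        ≤ (Finset.univ.filter (fun n : K => n ∈ Subgroup.centralizer {x}) ∪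
        (Finset.univ.filter (fun n : K => n ∈ Subgroup.centralizer {x})).image
          (fun a => n₀ * a)).card := Finset.card_le_card hsub
      _ ≤ (Finset.univ.filter (fun n : K => n ∈ Subgroup.centralizer {x})).card +
          ((Finset.univ.filter (fun n : K => n ∈ Subgroup.centralizer {x})).image
          (fun a => n₀ * a)).card := Finset.card_union_le _ _
      _ ≤ (Finset.univ.filter (fun n : K => n ∈ Subgroup.centralizer {x})).card +
          (Finset.univ.filter (fun n : K => n ∈ Subgroup.centralizer {x})).card :=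
        Nat.add_le_add_left Finset.card_image_le _
      _ = 2 * (Finset.univ.filter (fun n : K => n ∈ Subgroup.centralizer {x})).card := by ring
  · push Not at hex
    have h1 : Subgroup.normalizer ((Subgroup.centralizer {x} : Subgroup K) : Set K) ≤
        Subgroup.centralizer {x} := fun n hn => hex n hn
    have h2 := Subgroup.card_le_of_le h1
    omega

theorem cls_subset {z : K} (x : K) : cls z x ⊆ Finset.univ \ {1, z} := by
  intro w hw
  rw [mem_cls] at hw
  rw [Finset.mem_sdiff, Finset.mem_insert, Finset.mem_singleton]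
  refine ⟨Finset.mem_univ _, ?_⟩
  rintro (h | h)
  · exact hw.1.1 h
  · exact hw.1.2 h

theorem sum_le {z : K} (H : Hyp1 z) (S : Finset K) (hS : ∀ x ∈ S, Good z x)
    (hpw : ∀ x ∈ S, ∀ y ∈ S, x ≠ y → ¬ Rel x y) :
    ∑ x ∈ S, (cls z x).card + 2 ≤ Fintype.card K := by
  have hdis : ∀ x ∈ S, ∀ y ∈ S, x ≠ y → Disjoint (cls z x) (cls z y) := by
    intro x hx y hy hxy
    apply cls_disjoint H (hS x hx) (hS y hy)
    intro hmem
    rw [mem_cls] at hmem
    exact hpw x hx y hy hxy hmem.2
  have hcard := Finset.card_biUnion hdis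
  rw [← hcard]
  have hsub : S.biUnion (cls z) ⊆ Finset.univ \ {1, z} := by
    intro w hw
    rw [Finset.mem_biUnion] at hw
    obtain ⟨x, -, hwx⟩ := hw
    exact cls_subset x hwx
  have h1 := Finset.card_le_card hsub
  have h2 : (Finset.univ \ ({1, z} : Finset K)).card = Fintype.card K - 2 := by
    rw [Finset.card_sdiff, Finset.inter_univ, Finset.card_pair H.ne1.symm, Finset.card_univ]
  have h3 : 2 ≤ Fintype.card K := by
    have : ({1, z} : Finset K).card ≤ Fintype.card K := Finset.card_le_univ _
    rw [Finset.card_pair H.ne1.symm] at this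
    exact this
  omega

theorem sum_eq {z : K} (H : Hyp1 z) (S : Finset K) (hS : ∀ x ∈ S, Good z x)
    (hpw : ∀ x ∈ S, ∀ y ∈ S, x ≠ y → ¬ Rel x y)
    (hall : ∀ w : K, Good z w → ∃ x ∈ S, Rel x w) :
    ∑ x ∈ S, (cls z x).card + 2 = Fintype.card K := by
  have hdis : ∀ x ∈ S, ∀ y ∈ S, x ≠ y → Disjoint (cls z x) (cls z y) := by
    intro x hx y hy hxy
    apply cls_disjoint H (hS x hx) (hS y hy)
    intro hmem
    rw [mem_cls] at hmem
    exact hpw x hx y hy hxy hmem.2
  have hcard := Finset.card_biUnion hdis
  rw [← hcard]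
  have hsub : S.biUnion (cls z) = Finset.univ \ {1, z} := by
    apply Finset.Subset.antisymm
    · intro w hw
      rw [Finset.mem_biUnion] at hw
      obtain ⟨x, -, hwx⟩ := hw
      exact cls_subset x hwx
    · intro w hw
      rw [Finset.mem_sdiff, Finset.mem_insert, Finset.mem_singleton] at hw
      push Not at hw
      have hg : Good z w := ⟨hw.2.1, hw.2.2⟩
      obtain ⟨x, hx, hr⟩ := hall w hg
      rw [Finset.mem_biUnion]
      exact ⟨x, hx, by rw [mem_cls]; exact ⟨hg, hr⟩⟩
  rw [hsub]
  have h2 : (Finset.univ \ ({1, z} : Finset K)).card = Fintype.card K - 2 := by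
    rw [Finset.card_sdiff, Finset.inter_univ, Finset.card_pair H.ne1.symm, Finset.card_univ]
  have h3 : 2 ≤ Fintype.card K := by
    have : ({1, z} : Finset K).card ≤ Fintype.card K := Finset.card_le_univ _
    rw [Finset.card_pair H.ne1.symm] at this
    exact this
  omega

end Cfsg.Agent.Helper14.CE2
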