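import Mathlib

set_option autoImplicit false

namespace Cfsg.Agent.Helper14.ClassEq

open Classical

variable {K : Type*} [Group K]

/-- hypotheses of the class equation -/
structure Hyp (z : K) : Prop where
  cen : ∀ g : K, Commute g z
  ne1 : z ≠ 1
  sq : z * z = 1
  a1 : ∀ x : K, x ≠ 1 → x ≠ z → ∀ g h : K, Commute g x → Commute h x → Commute g h
  a2 : ∀ x : K, x ≠ 1 → x ≠ z → ∀ g : K, Commute (g * x * g⁻¹) x →
    g * x * g⁻¹ = x ∨ g * x * g⁻¹ = x⁻¹

/-- non-central elements -/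
def Good (z x : K) : Prop := x ≠ 1 ∧ x ≠ z

theorem good_conj {z : K} (H : Hyp z) {x : K} (hx : Good z x) (g : K) :
    Good z (g * x * g⁻¹) := by
  constructor
  · intro h
    apply hx.1
    have : x = g⁻¹ * (g * x * g⁻¹) * g := by group
    rw [this, h]
    group
  · intro h
    apply hx.2
    have e : x = g⁻¹ * (g * x * g⁻¹) * g := by group
    rw [e, h]
    have := (H.cen g⁻¹).eq
    rw [this]
    group

/-- the relation -/
def Rel (x y : K) : Prop := ∃ g : K, Commute (g * x * g⁻¹) y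

theorem rel_iff {z : K} (H : Hyp z) {x y : K} (hx : Good z x) (hy : Good z y) (hxy : Rel x y)
    (w : K) : Rel y w ↔ Rel x w := by
  obtain ⟨g, hg⟩ := hxy
  constructor
  · rintro ⟨h, hc⟩
    have h1 : Commute (h * (g * x * g⁻¹) * h⁻¹) (h * y * h⁻¹) := (Commute.conj_iff h).mpr hg
    have hgood := good_conj H hy h
    have h2 := H.a1 _ hgood.1 hgood.2 _ _ h1 hc.symm
    refine ⟨h * g, ?_⟩
    have e : h * g * x * (h * g)⁻¹ = h * (g * x * g⁻¹) * h⁻¹ := by group
    rw [e]
    exact h2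
  · rintro ⟨h', hc⟩
    refine ⟨h' * g⁻¹, ?_⟩
    have h1 : Commute (h' * g⁻¹ * (g * x * g⁻¹) * (h' * g⁻¹)⁻¹) (h' * g⁻¹ * y * (h' * g⁻¹)⁻¹) :=
      (Commute.conj_iff (h' * g⁻¹)).mpr hg
    have e : h' * g⁻¹ * (g * x * g⁻¹) * (h' * g⁻¹)⁻¹ = h' * x * h'⁻¹ := by group
    rw [e] at h1
    have hgood := good_conj H hx h'
    exact H.a1 _ hgood.1 hgood.2 _ _ h1.symm hc.symm

variable [Fintype K]

/-- the class of `x` -/
noncomputable def cls (z x : K) : Finset K := Finset.univ.filter (fun y => Good z y ∧ Rel x y)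

theorem mem_cls (z x y : K) : y ∈ cls z x ↔ Good z y ∧ Rel x y := by
  simp [cls]

theorem self_mem_cls {z x : K} (hx : Good z x) : x ∈ cls z x := by
  rw [mem_cls]
  refine ⟨hx, 1, ?_⟩
  simp

theorem cls_eq {z : K} (H : Hyp z) {x y : K} (hx : Good z x) (hy : y ∈ cls z x) :
    cls z y = cls z x := by
  rw [mem_cls] at hy
  ext w
  rw [mem_cls, mem_cls, rel_iff H hx hy.1 hy.2 w]

theorem cls_disjoint {z : K} (H : Hyp z) {x y : K} (hx : Good z x) (hy : Good z y)
    (hyx : y ∉ cls z x) : Disjoint (cls z x) (cls z y) := by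
  rw [Finset.disjoint_left]
  intro w hwx hwy
  apply hyx
  have e1 := cls_eq H hx hwx
  have e2 := cls_eq H hy hwy
  rw [← e1, e2]
  exact self_mem_cls hy

theorem card_cent (y : K) :
    (Finset.univ.filter (fun w : K => Commute w y)).card = Nat.card (Subgroup.centralizer {y}) := by
  symm
  apply Nat.subtype_card
  intro w
  rw [Finset.mem_filter, Subgroup.mem_centralizer_singleton_iff]
  simp [Commute, SemiconjBy]

theorem card_cent_conj (x g : K) :
    (Finset.univ.filter (fun w : K => Commute w (g * x * g⁻¹))).card =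
      (Finset.univ.filter (fun w : K => Commute w x)).card := by
  apply Finset.card_nbij' (fun w => g⁻¹ * w * g) (fun w => g * w * g⁻¹)
  · intro w hw
    simp only [Finset.coe_filter, Finset.mem_univ, true_and, Set.mem_ofPred_eq] at hw ⊢
    have := (Commute.conj_iff g⁻¹).mpr hw
    have e : g⁻¹ * (g * x * g⁻¹) * g⁻¹⁻¹ = x := by group
    rw [e, inv_inv] at this
    exact this
  · intro w hw
    simp only [Finset.coe_filter, Finset.mem_univ, true_and, Set.mem_ofPred_eq] at hw ⊢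
    exact (Commute.conj_iff g).mpr hw
  · intro w _
    show g * (g⁻¹ * w * g) * g⁻¹ = w
    group
  · intro w _
    show g⁻¹ * (g * w * g⁻¹) * g = w
    group

theorem card_good_cent {z : K} (H : Hyp z) (y : K) :
    (Finset.univ.filter (fun w : K => Good z w ∧ Commute w y)).card =
      Nat.card (Subgroup.centralizer {y}) - 2 := by
  rw [← card_cent]
  have e : Finset.univ.filter (fun w : K => Good z w ∧ Commute w y) =
      Finset.univ.filter (fun w : K => Commute w y) \ {1, z} := by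
    ext w
    rw [Finset.mem_filter, Finset.mem_sdiff, Finset.mem_filter, Finset.mem_insert,
      Finset.mem_singleton]
    unfold Good
    tauto
  rw [e, Finset.card_sdiff]
  have e2 : ({1, z} : Finset K) ∩ Finset.univ.filter (fun w : K => Commute w y) = {1, z} := by
    rw [Finset.inter_eq_left]
    intro w hw
    simp only [Finset.mem_insert, Finset.mem_singleton] at hw
    simp only [Finset.mem_filter, Finset.mem_univ, true_and]
    rcases hw with rfl | rfl
    · exact Commute.one_left y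
    · exact (H.cen y).symm
  rw [e2, Finset.card_pair H.ne1.symm]

omit [Fintype K] in
theorem mem_norm_iff {z : K} (H : Hyp z) {x : K} (hx : Good z x) (n : K) :
    n ∈ Subgroup.normalizer ((Subgroup.centralizer {x} : Subgroup K) : Set K) ↔
      Commute (n * x * n⁻¹) x := by
  rw [Subgroup.mem_normalizer_iff]
  have hgood := good_conj H hx n
  constructor
  · intro h
    have h1 := (h x).mp (by rw [Subgroup.mem_centralizer_singleton_iff])
    rw [Subgroup.mem_centralizer_singleton_iff] at h1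
    exact h1
  · intro hc h
    rw [Subgroup.mem_centralizer_singleton_iff, Subgroup.mem_centralizer_singleton_iff]
    constructor
    · intro hh
      have h1 : Commute (n * h * n⁻¹) (n * x * n⁻¹) := (Commute.conj_iff n).mpr hh
      exact H.a1 _ hgood.1 hgood.2 _ _ h1 hc.symm
    · intro hh
      have h1 : Commute (n * h * n⁻¹) (n * x * n⁻¹) :=
        H.a1 _ hx.1 hx.2 _ _ hh hc
      exact (Commute.conj_iff n).mp h1

theorem double_count {z : K} (H : Hyp z) {x : K} (hx : Good z x) :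
    Fintype.card K * (Nat.card (Subgroup.centralizer {x}) - 2) =
      (cls z x).card *
        Nat.card (Subgroup.normalizer ((Subgroup.centralizer {x} : Subgroup K) : Set K)) := by
  have hL : ∀ g : K, (Finset.univ.filter
      (fun w : K => Good z w ∧ Commute w (g * x * g⁻¹))).card =
      Nat.card (Subgroup.centralizer {x}) - 2 := by
    intro g
    rw [card_good_cent H, ← card_cent, card_cent_conj, card_cent]
  have hR : ∀ w : K, (Finset.univ.filter
      (fun g : K => Good z w ∧ Commute w (g * x * g⁻¹))).card =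
      if w ∈ cls z x then
        Nat.card (Subgroup.normalizer ((Subgroup.centralizer {x} : Subgroup K) : Set K))
      else 0 := by
    intro w
    by_cases hw : w ∈ cls z x
    · rw [if_pos hw]
      rw [mem_cls] at hw
      obtain ⟨hgw, g₀, hg₀⟩ := hw
      have hN : Nat.card (Subgroup.normalizer ((Subgroup.centralizer {x} : Subgroup K) : Set K)) =
          (Finset.univ.filter (fun n : K =>
            n ∈ Subgroup.normalizer ((Subgroup.centralizer {x} : Subgroup K) : Set K))).card :=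
        Nat.subtype_card _ (by simp)
      rw [hN]
      apply Finset.card_nbij' (fun g => g₀⁻¹ * g) (fun n => g₀ * n)
      · intro g hg
        simp only [Finset.coe_filter, Finset.mem_univ, true_and, Set.mem_ofPred_eq] at hg ⊢
        rw [mem_norm_iff H hx]
        have h1 : Commute (g * x * g⁻¹) (g₀ * x * g₀⁻¹) :=
          H.a1 w hgw.1 hgw.2 _ _ hg.2.symm hg₀
        have h2 := (Commute.conj_iff g₀⁻¹).mpr h1
        have e1 : g₀⁻¹ * (g * x * g⁻¹) * g₀⁻¹⁻¹ = g₀⁻¹ * g * x * (g₀⁻¹ * g)⁻¹ := by group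
        have e2 : g₀⁻¹ * (g₀ * x * g₀⁻¹) * g₀⁻¹⁻¹ = x := by group
        rw [e1, e2] at h2
        exact h2
      · intro n hn
        simp only [Finset.coe_filter, Finset.mem_univ, true_and, Set.mem_ofPred_eq] at hn ⊢
        rw [mem_norm_iff H hx] at hn
        refine ⟨hgw, ?_⟩
        have h2 := (Commute.conj_iff g₀).mpr hn
        have e1 : g₀ * (n * x * n⁻¹) * g₀⁻¹ = g₀ * n * x * (g₀ * n)⁻¹ := by group
        rw [e1] at h2
        have hgood := good_conj H hx g₀
        exact H.a1 _ hgood.1 hgood.2 _ _ hg₀.symm h2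
      · intro g _
        show g₀ * (g₀⁻¹ * g) = g
        group
      · intro n _
        show g₀⁻¹ * (g₀ * n) = n
        group
    · rw [if_neg hw, Finset.card_eq_zero, Finset.filter_eq_empty_iff]
      intro g _ hg
      apply hw
      rw [mem_cls]
      exact ⟨hg.1, g, hg.2.symm⟩
  have h1 : ∑ g : K, (Finset.univ.filter
      (fun w : K => Good z w ∧ Commute w (g * x * g⁻¹))).card =
      ∑ w : K, (Finset.univ.filter
      (fun g : K => Good z w ∧ Commute w (g * x * g⁻¹))).card := by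
    simp only [Finset.card_filter]
    exact Finset.sum_comm
  rw [Finset.sum_congr rfl (fun g _ => hL g), Finset.sum_congr rfl (fun w _ => hR w),
    Finset.sum_const, Finset.card_univ, smul_eq_mul, Finset.sum_ite_mem, Finset.univ_inter,
    Finset.sum_const, smul_eq_mul] at h1
  exact h1

theorem norm_card_le {z : K} (H : Hyp z) {x : K} (hx : Good z x) :
    Nat.card (Subgroup.normalizer ((Subgroup.centralizer {x} : Subgroup K) : Set K)) ≤
      2 * Nat.card (Subgroup.centralizer {x}) := by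
  have hN : Nat.card (Subgroup.normalizer ((Subgroup.centralizer {x} : Subgroup K) : Set K)) =
      (Finset.univ.filter (fun n : K =>
        n ∈ Subgroup.normalizer ((Subgroup.centralizer {x} : Subgroup K) : Set K))).card :=
    Nat.subtype_card _ (by simp)
  have hA : Nat.card (Subgroup.centralizer {x}) =
      (Finset.univ.filter (fun n : K => n ∈ Subgroup.centralizer {x})).card :=
    Nat.subtype_card _ (by simp)
  by_cases hex : ∃ n₀, n₀ ∈ Subgroup.normalizer ((Subgroup.centralizer {x} : Subgroup K) : Set K) ∧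
      n₀ ∉ Subgroup.centralizer {x}
  · obtain ⟨n₀, hn₀N, hn₀A⟩ := hex
    rw [hN, hA]
    have hsub : Finset.univ.filter (fun n : K =>
        n ∈ Subgroup.normalizer ((Subgroup.centralizer {x} : Subgroup K) : Set K)) ⊆
        Finset.univ.filter (fun n : K => n ∈ Subgroup.centralizer {x}) ∪
        (Finset.univ.filter (fun n : K => n ∈ Subgroup.centralizer {x})).image
          (fun a => n₀ * a) := by
      intro n hn
      rw [Finset.mem_filter] at hn
      rw [Finset.mem_union, Finset.mem_filter, Finset.mem_image]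
      by_cases hnA : n ∈ Subgroup.centralizer {x}
      · left
        exact ⟨Finset.mem_univ _, hnA⟩
      · right
        refine ⟨n₀⁻¹ * n, ?_, by group⟩
        rw [Finset.mem_filter]
        refine ⟨Finset.mem_univ _, ?_⟩
        have c1 := (mem_norm_iff H hx n).mp hn.2
        have c2 := (mem_norm_iff H hx n₀).mp hn₀N
        rcases H.a2 x hx.1 hx.2 n c1 with e1 | e1
        · exfalso
          apply hnA
          rw [Subgroup.mem_centralizer_singleton_iff]
          calc n * x = (n * x * n⁻¹) * n := by group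
            _ = x * n := by rw [e1]
        rcases H.a2 x hx.1 hx.2 n₀ c2 with e2 | e2
        · exfalso
          apply hn₀A
          rw [Subgroup.mem_centralizer_singleton_iff]
          calc n₀ * x = (n₀ * x * n₀⁻¹) * n₀ := by group
            _ = x * n₀ := by rw [e2]
        rw [Subgroup.mem_centralizer_singleton_iff]
        have e3 : n * x * n⁻¹ = n₀ * x * n₀⁻¹ := e1.trans e2.symm
        calc n₀⁻¹ * n * x = n₀⁻¹ * (n * x * n⁻¹) * n := by group
          _ = n₀⁻¹ * (n₀ * x * n₀⁻¹) * n := by rw [e3]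
          _ = x * (n₀⁻¹ * n) := by group
    calc (Finset.univ.filter (fun n : K =>
        n ∈ Subgroup.normalizer ((Subgroup.centralizer {x} : Subgroup K) : Set K))).card
        ≤ (Finset.univ.filter (fun n : K => n ∈ Subgroup.centralizer {x}) ∪
        (Finset.univ.filter (fun n : K => n ∈ Subgroup.centralizer {x})).image
          (fun a => n₀ * a)).card := Finset.card_le_card hsub
      _ ≤ (Finset.univ.filter (fun n : K => n ∈ Subgroup.centralizer {x})).card +
          ((Finset.univ.filter (fun n : K => n ∈ Subgroup.centralizer {x})).image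
          (fun a => n₀ * a)).card := Finset.card_union_le _ _
      _ ≤ (Finset.univ.filter (fun n : K => n ∈ Subgroup.centralizer {x})).card +
          (Finset.univ.filter (fun n : K => n ∈ Subgroup.centralizer {x})).card :=
        Nat.add_le_add_left Finset.card_image_le _
      _ = 2 * (Finset.univ.filter (fun n : K => n ∈ Subgroup.centralizer {x})).card := by ring
  · push Not at hex
    have h1 : Subgroup.normalizer ((Subgroup.centralizer {x} : Subgroup K) : Set K) ≤
        Subgroup.centralizer {x} := fun n hn => hex n hn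
    have h2 := Subgroup.card_le_of_le h1
    omega

theorem cls_card {z : K} (H : Hyp z) {x : K} (hx : Good z x) (k : ℕ)
    (hk : Fintype.card K = 2 * k) :
    ∃ a ε n : ℕ, 2 ≤ a ∧ (ε = 1 ∨ ε = 2) ∧ 1 ≤ n ∧ k = ε * a * n ∧
      (cls z x).card = 2 * n * (a - 1) ∧ (Subgroup.centralizer {x}).index = ε * n := by
  have hzA : z ∈ Subgroup.centralizer {x} := by
    rw [Subgroup.mem_centralizer_singleton_iff]
    exact (H.cen x).eq.symm
  have hxA : x ∈ Subgroup.centralizer {x} := by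
    rw [Subgroup.mem_centralizer_singleton_iff]
  have h2A : 2 ∣ Nat.card (Subgroup.centralizer {x}) := by
    have ho : orderOf (⟨z, hzA⟩ : Subgroup.centralizer {x}) = 2 := by
      apply orderOf_eq_prime
      · apply Subtype.ext
        simp [pow_two, H.sq]
      · intro h
        apply H.ne1
        exact congrArg Subtype.val h
    rw [← ho]
    exact orderOf_dvd_natCard _
  obtain ⟨a, ha⟩ := h2A
  have h3A : 3 ≤ Nat.card (Subgroup.centralizer {x}) := by
    have hA : Nat.card (Subgroup.centralizer {x}) =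
        (Finset.univ.filter (fun n : K => n ∈ Subgroup.centralizer {x})).card :=
      Nat.subtype_card _ (by simp)
    rw [hA]
    have hsub : ({1, z, x} : Finset K) ⊆
        Finset.univ.filter (fun n : K => n ∈ Subgroup.centralizer {x}) := by
      intro w hw
      rw [Finset.mem_insert, Finset.mem_insert, Finset.mem_singleton] at hw
      rw [Finset.mem_filter]
      refine ⟨Finset.mem_univ _, ?_⟩
      rcases hw with rfl | rfl | rfl
      · exact one_mem _
      · exact hzA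
      · exact hxA
    have hc : ({1, z, x} : Finset K).card = 3 := by
      rw [Finset.card_insert_of_notMem, Finset.card_insert_of_notMem, Finset.card_singleton]
      · rw [Finset.mem_singleton]
        exact hx.2.symm
      · rw [Finset.mem_insert, Finset.mem_singleton]
        push Not
        exact ⟨H.ne1.symm, hx.1.symm⟩
    calc 3 = ({1, z, x} : Finset K).card := hc.symm
      _ ≤ _ := Finset.card_le_card hsub
  have ha2 : 2 ≤ a := by omega
  have hAN : Subgroup.centralizer {x} ≤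
      Subgroup.normalizer ((Subgroup.centralizer {x} : Subgroup K) : Set K) :=
    Subgroup.le_normalizer
  obtain ⟨ε, hε⟩ := Subgroup.card_dvd_of_le hAN
  have hle := norm_card_le H hx
  have hε12 : ε = 1 ∨ ε = 2 := by
    have hApos : 0 < Nat.card (Subgroup.centralizer {x}) := Nat.card_pos
    have hNpos : 0 < Nat.card (Subgroup.normalizer
      ((Subgroup.centralizer {x} : Subgroup K) : Set K)) := Nat.card_pos
    rw [hε] at hle hNpos
    have h1 : ε ≤ 2 := by
      by_contra hgt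
      push Not at hgt
      have : Nat.card (Subgroup.centralizer {x}) * 3 ≤ Nat.card (Subgroup.centralizer {x}) * ε :=
        Nat.mul_le_mul_left _ hgt
      omega
    have h0 : ε ≠ 0 := by
      rintro rfl
      rw [mul_zero] at hNpos
      omega
    omega
  have hKN := Subgroup.card_mul_index
    (Subgroup.normalizer ((Subgroup.centralizer {x} : Subgroup K) : Set K))
  have hn1 : 1 ≤ (Subgroup.normalizer ((Subgroup.centralizer {x} : Subgroup K) : Set K)).index :=
    Nat.pos_of_ne_zero Subgroup.index_ne_zero_of_finite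
  have hcardK : Nat.card K = 2 * k := by rw [Nat.card_eq_fintype_card, hk]
  have hkeq : k = ε * a *
      (Subgroup.normalizer ((Subgroup.centralizer {x} : Subgroup K) : Set K)).index := by
    rw [hε, ha, hcardK] at hKN
    have : 2 * (ε * a *
      (Subgroup.normalizer ((Subgroup.centralizer {x} : Subgroup K) : Set K)).index) = 2 * k := by
      rw [← hKN]
      ring
    omega
  have hdc := double_count H hx
  rw [hk, hε, ha] at hdc
  refine ⟨a, ε, _, ha2, hε12, hn1, hkeq, ?_, ?_⟩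
  · have h2a : 2 * a - 2 = 2 * (a - 1) := by omega
    rw [h2a] at hdc
    have hpos : 0 < 2 * a * ε := by
      rcases hε12 with rfl | rfl <;> omega
    apply Nat.eq_of_mul_eq_mul_right hpos
    rw [← hdc]
    nth_rewrite 1 [hkeq]
    ring
  · have hAK := Subgroup.card_mul_index (Subgroup.centralizer {x} : Subgroup K)
    rw [ha, hcardK] at hAK
    have hpos : 0 < 2 * a := by omega
    apply Nat.eq_of_mul_eq_mul_left hpos
    rw [hAK]
    nth_rewrite 1 [hkeq]
    ring

/-- linear facts about a class -/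
def CF (k ε n σ : ℕ) : Prop :=
  (ε = 1 ∨ ε = 2) ∧ 1 ≤ n ∧ ε * σ + 2 * ε * n = 2 * k ∧
    (k = ε * 2 * n ∨ k = ε * 3 * n ∨ k = ε * 4 * n ∨ k = ε * 5 * n ∨ 6 * ε * n ≤ k)

theorem cf_of (a ε n k σ : ℕ) (hε : ε = 1 ∨ ε = 2) (ha : 2 ≤ a) (hn : 1 ≤ n)
    (hk : k = ε * a * n) (hσ : σ = 2 * n * (a - 1)) : CF k ε n σ := by
  obtain ⟨b, rfl⟩ : ∃ b, a = b + 1 := ⟨a - 1, by omega⟩
  rw [Nat.add_sub_cancel] at hσ
  refine ⟨hε, hn, ?_, ?_⟩
  · rw [hk, hσ]
    ring
  · have h5 : b = 1 ∨ b = 2 ∨ b = 3 ∨ b = 4 ∨ 5 ≤ b := by omega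
    rcases h5 with rfl | rfl | rfl | rfl | h
    · left
      rw [hk]
    · right; left
      rw [hk]
    · right; right; left
      rw [hk]
    · right; right; right; left
      rw [hk]
    · right; right; right; right
      rw [hk]
      have h6 : 6 ≤ b + 1 := by omega
      calc 6 * ε * n = ε * 6 * n := by ring
        _ ≤ ε * (b + 1) * n := Nat.mul_le_mul_right _ (Nat.mul_le_mul_left _ h6)

theorem dio1 (k ε n σ : ℕ) (h : CF k ε n σ) (hs : σ + 2 = 2 * k) : ε * n ≤ 2 := by
  obtain ⟨hε, hn, h1, h2⟩ := h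
  rcases hε with rfl | rfl <;> rcases h2 with h2 | h2 | h2 | h2 | h2 <;> omega

theorem dio2 (k ε₁ n₁ σ₁ ε₂ n₂ σ₂ : ℕ) (h1 : CF k ε₁ n₁ σ₁) (h2 : CF k ε₂ n₂ σ₂)
    (hs : σ₁ + σ₂ + 2 = 2 * k) :
    ε₁ * n₁ ≤ 2 ∨ ε₂ * n₂ ≤ 2 ∨ k = 12 ∨ k = 24 ∨ k = 60 := by
  obtain ⟨hε1, hn1, h11, h12⟩ := h1
  obtain ⟨hε2, hn2, h21, h22⟩ := h2
  rcases hε1 with rfl | rfl <;> rcases hε2 with rfl | rfl <;>
    rcases h12 with h12 | h12 | h12 | h12 | h12 <;>
    rcases h22 with h22 | h22 | h22 | h22 | h22 <;> omega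

theorem dio4 (k ε₁ n₁ σ₁ ε₂ n₂ σ₂ ε₃ n₃ σ₃ ε₄ n₄ σ₄ : ℕ) (h1 : CF k ε₁ n₁ σ₁)
    (h2 : CF k ε₂ n₂ σ₂) (h3 : CF k ε₃ n₃ σ₃) (h4 : CF k ε₄ n₄ σ₄)
    (hs : σ₁ + σ₂ + σ₃ + σ₄ + 2 ≤ 2 * k) : False := by
  have key : ∀ ε n σ, CF k ε n σ → k ≤ 2 * σ := by
    intro ε n σ h
    obtain ⟨hε, hn, h1, h2⟩ := h
    rcases hε with rfl | rfl <;> rcases h2 with h2 | h2 | h2 | h2 | h2 <;> omega
  have := key _ _ _ h1
  have := key _ _ _ h2
  have := key _ _ _ h3
  have := key _ _ _ h4
  omega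

theorem cf_half (k ε n σ : ℕ) (h : CF k ε n σ) : k ≤ 2 * σ := by
  obtain ⟨hε, hn, h1, h2⟩ := h
  rcases hε with rfl | rfl <;> rcases h2 with h2 | h2 | h2 | h2 | h2 <;> omega

theorem cf_one (k n σ : ℕ) (h : CF k 1 n σ) : k ≤ σ := by
  obtain ⟨hε, hn, h1, h2⟩ := h
  rcases h2 with h2 | h2 | h2 | h2 | h2 <;> omega

set_option maxHeartbeats 1000000 in
theorem dio3_two (k n₁ σ₁ n₂ σ₂ n₃ σ₃ : ℕ) (h1 : CF k 2 n₁ σ₁) (h2 : CF k 2 n₂ σ₂)
    (h3 : CF k 2 n₃ σ₃) (hs : σ₁ + σ₂ + σ₃ + 2 = 2 * k) :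
    2 * n₁ ≤ 2 ∨ 2 * n₂ ≤ 2 ∨ 2 * n₃ ≤ 2 ∨ k = 12 ∨ k = 24 ∨ k = 60 := by
  obtain ⟨hε1, hn1, h11, h12⟩ := h1
  obtain ⟨hε2, hn2, h21, h22⟩ := h2
  obtain ⟨hε3, hn3, h31, h32⟩ := h3
  rcases h12 with h12 | h12 | h12 | h12 | h12 <;>
    rcases h22 with h22 | h22 | h22 | h22 | h22 <;>
    rcases h32 with h32 | h32 | h32 | h32 | h32 <;> omega

theorem dio3 (k ε₁ n₁ σ₁ ε₂ n₂ σ₂ ε₃ n₃ σ₃ : ℕ) (h1 : CF k ε₁ n₁ σ₁) (h2 : CF k ε₂ n₂ σ₂)
    (h3 : CF k ε₃ n₃ σ₃) (hs : σ₁ + σ₂ + σ₃ + 2 = 2 * k) :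
    ε₁ * n₁ ≤ 2 ∨ ε₂ * n₂ ≤ 2 ∨ ε₃ * n₃ ≤ 2 ∨ k = 12 ∨ k = 24 ∨ k = 60 := by
  have b1 := cf_half _ _ _ _ h1
  have b2 := cf_half _ _ _ _ h2
  have b3 := cf_half _ _ _ _ h3
  have e1 := h1.1
  have e2 := h2.1
  have e3 := h3.1
  rcases e1 with rfl | rfl
  · have := cf_one _ _ _ h1
    omega
  rcases e2 with rfl | rfl
  · have := cf_one _ _ _ h2
    omega
  rcases e3 with rfl | rfl
  · have := cf_one _ _ _ h3
    omega
  exact dio3_two k n₁ σ₁ n₂ σ₂ n₃ σ₃ h1 h2 h3 hs

omit [Fintype K] in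
theorem main_abs [Finite K] {z : K} (H : Hyp z) :
    (∃ B : Subgroup K, B.index ≤ 2 ∧ ∀ a ∈ B, ∀ b ∈ B, a * b = b * a) ∨
      Nat.card K = 24 ∨ Nat.card K = 48 ∨ Nat.card K = 120 := by
  haveI : Fintype K := Fintype.ofFinite K
  have h2K : 2 ∣ Nat.card K := by
    have ho : orderOf z = 2 := orderOf_eq_prime (by rw [pow_two]; exact H.sq) H.ne1
    rw [← ho]
    exact orderOf_dvd_natCard z
  obtain ⟨k, hk⟩ := h2K
  have hkF : Fintype.card K = 2 * k := by rw [← Nat.card_eq_fintype_card, hk]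
  have hkpos : 1 ≤ k := by
    have : 0 < Nat.card K := Nat.card_pos
    omega
  obtain ⟨X, hX⟩ : ∃ X : Finset K, X = Finset.univ.filter (fun w => Good z w) := ⟨_, rfl⟩
  have hXmem : ∀ w, w ∈ X ↔ Good z w := by
    intro w
    rw [hX, Finset.mem_filter]
    simp
  have hXcard : X.card + 2 = 2 * k := by
    have e : X = Finset.univ \ {1, z} := by
      ext w
      rw [hXmem, Finset.mem_sdiff, Finset.mem_insert, Finset.mem_singleton]
      unfold Good
      simp
    rw [e, Finset.card_sdiff, Finset.inter_univ, Finset.card_pair H.ne1.symm, Finset.card_univ,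
      hkF]
    omega
  have hcls_sub : ∀ x, cls z x ⊆ X := by
    intro x w hw
    rw [mem_cls] at hw
    rw [hXmem]
    exact hw.1
  have hdone : ∀ x, Good z x → ∀ ε n, (Subgroup.centralizer {x}).index = ε * n → ε * n ≤ 2 →
      (∃ B : Subgroup K, B.index ≤ 2 ∧ ∀ a ∈ B, ∀ b ∈ B, a * b = b * a) := by
    intro x hx ε n hi hle
    refine ⟨Subgroup.centralizer {x}, by rw [hi]; exact hle, ?_⟩
    intro a ha b hb
    rw [Subgroup.mem_centralizer_singleton_iff] at ha hb
    exact (H.a1 x hx.1 hx.2 a b ha hb).eq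
  by_cases hX0 : X = ∅
  · left
    refine ⟨⊤, by simp, ?_⟩
    have hall : ∀ a : K, a = 1 ∨ a = z := by
      intro a
      by_contra h
      push Not at h
      have : a ∈ X := by
        rw [hXmem]
        exact h
      rw [hX0] at this
      simp at this
    intro a _ b _
    rcases hall a with rfl | rfl <;> rcases hall b with rfl | rfl <;> simp
  obtain ⟨x₁, hx₁⟩ := Finset.nonempty_iff_ne_empty.mpr hX0
  have hg₁ : Good z x₁ := (hXmem x₁).mp hx₁
  obtain ⟨a₁, ε₁, n₁, ha₁, hε₁, hn₁, hk₁, hσ₁, hi₁⟩ := cls_card H hg₁ k hkF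
  have cf₁ := cf_of a₁ ε₁ n₁ k _ hε₁ ha₁ hn₁ hk₁ hσ₁
  by_cases hc₁ : cls z x₁ = X
  · left
    have := dio1 k ε₁ n₁ _ cf₁ (by rw [hc₁]; exact hXcard)
    exact hdone x₁ hg₁ ε₁ n₁ hi₁ this
  obtain ⟨x₂, hx₂, hx₂n⟩ : ∃ x₂ ∈ X, x₂ ∉ cls z x₁ := by
    by_contra hcon
    push Not at hcon
    exact hc₁ (Finset.Subset.antisymm (hcls_sub x₁) hcon)
  have hg₂ : Good z x₂ := (hXmem x₂).mp hx₂
  obtain ⟨a₂, ε₂, n₂, ha₂, hε₂, hn₂, hk₂, hσ₂, hi₂⟩ := cls_card H hg₂ k hkF
  have cf₂ := cf_of a₂ ε₂ n₂ k _ hε₂ ha₂ hn₂ hk₂ hσ₂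
  have hd₁₂ := cls_disjoint H hg₁ hg₂ hx₂n
  by_cases hc₂ : cls z x₁ ∪ cls z x₂ = X
  · have hs : (cls z x₁).card + (cls z x₂).card + 2 = 2 * k := by
      rw [← Finset.card_union_of_disjoint hd₁₂, hc₂]
      exact hXcard
    rcases dio2 k _ _ _ _ _ _ cf₁ cf₂ hs with h | h | h | h | h
    · left
      exact hdone x₁ hg₁ _ _ hi₁ h
    · left
      exact hdone x₂ hg₂ _ _ hi₂ h
    · right; left
      rw [hk, h]
    · right; right; left
      rw [hk, h]
    · right; right; right
      rw [hk, h]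
  obtain ⟨x₃, hx₃, hx₃n⟩ : ∃ x₃ ∈ X, x₃ ∉ cls z x₁ ∪ cls z x₂ := by
    by_contra hcon
    push Not at hcon
    exact hc₂ (Finset.Subset.antisymm (Finset.union_subset (hcls_sub x₁) (hcls_sub x₂)) hcon)
  have hg₃ : Good z x₃ := (hXmem x₃).mp hx₃
  rw [Finset.mem_union, not_or] at hx₃n
  obtain ⟨a₃, ε₃, n₃, ha₃, hε₃, hn₃, hk₃, hσ₃, hi₃⟩ := cls_card H hg₃ k hkF
  have cf₃ := cf_of a₃ ε₃ n₃ k _ hε₃ ha₃ hn₃ hk₃ hσ₃
  have hd₁₃ := cls_disjoint H hg₁ hg₃ hx₃n.1
  have hd₂₃ := cls_disjoint H hg₂ hg₃ hx₃n.2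
  have hcard3 : (cls z x₁ ∪ cls z x₂ ∪ cls z x₃).card =
      (cls z x₁).card + (cls z x₂).card + (cls z x₃).card := by
    rw [Finset.card_union_of_disjoint (Finset.disjoint_union_left.mpr ⟨hd₁₃, hd₂₃⟩),
      Finset.card_union_of_disjoint hd₁₂]
  by_cases hc₃ : cls z x₁ ∪ cls z x₂ ∪ cls z x₃ = X
  · have hs : (cls z x₁).card + (cls z x₂).card + (cls z x₃).card + 2 = 2 * k := by
      rw [← hcard3, hc₃]
      exact hXcard
    rcases dio3 k _ _ _ _ _ _ _ _ _ cf₁ cf₂ cf₃ hs with h | h | h | h | h | h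
    · left
      exact hdone x₁ hg₁ _ _ hi₁ h
    · left
      exact hdone x₂ hg₂ _ _ hi₂ h
    · left
      exact hdone x₃ hg₃ _ _ hi₃ h
    · right; left
      rw [hk, h]
    · right; right; left
      rw [hk, h]
    · right; right; right
      rw [hk, h]
  exfalso
  obtain ⟨x₄, hx₄, hx₄n⟩ : ∃ x₄ ∈ X, x₄ ∉ cls z x₁ ∪ cls z x₂ ∪ cls z x₃ := by
    by_contra hcon
    push Not at hcon
    exact hc₃ (Finset.Subset.antisymm (Finset.union_subset
      (Finset.union_subset (hcls_sub x₁) (hcls_sub x₂)) (hcls_sub x₃)) hcon)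
  have hg₄ : Good z x₄ := (hXmem x₄).mp hx₄
  rw [Finset.mem_union, Finset.mem_union, not_or, not_or] at hx₄n
  obtain ⟨a₄, ε₄, n₄, ha₄, hε₄, hn₄, hk₄, hσ₄, hi₄⟩ := cls_card H hg₄ k hkF
  have cf₄ := cf_of a₄ ε₄ n₄ k _ hε₄ ha₄ hn₄ hk₄ hσ₄
  have hd₁₄ := cls_disjoint H hg₁ hg₄ hx₄n.1.1
  have hd₂₄ := cls_disjoint H hg₂ hg₄ hx₄n.1.2
  have hd₃₄ := cls_disjoint H hg₃ hg₄ hx₄n.2
  have hcard4 : (cls z x₁ ∪ cls z x₂ ∪ cls z x₃ ∪ cls z x₄).card =
      (cls z x₁).card + (cls z x₂).card + (cls z x₃).card + (cls z x₄).card := by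
    rw [Finset.card_union_of_disjoint (Finset.disjoint_union_left.mpr
      ⟨Finset.disjoint_union_left.mpr ⟨hd₁₄, hd₂₄⟩, hd₃₄⟩), hcard3]
  have hle : (cls z x₁ ∪ cls z x₂ ∪ cls z x₃ ∪ cls z x₄).card ≤ X.card :=
    Finset.card_le_card (Finset.union_subset (Finset.union_subset
      (Finset.union_subset (hcls_sub x₁) (hcls_sub x₂)) (hcls_sub x₃)) (hcls_sub x₄))
  rw [hcard4] at hle
  exact dio4 k _ _ _ _ _ _ _ _ _ _ _ _ cf₁ cf₂ cf₃ cf₄ (by omega)

end Cfsg.Agent.Helper14.ClassEq
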