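import Mathlib
import Cfsg.Agent.Helper14.ClassEq
import Cfsg.Agent.Helper14.TorusE
import Cfsg.Agent.Helper14.A4Sub

set_option autoImplicit false

namespace Cfsg.Agent.Helper14.SL2T

open Cfsg.Agent.Helper14.Mat2 Cfsg.Agent.Helper14.SL2Odd Cfsg.Agent.Helper14.PSL2
  Cfsg.Agent.Helper14.SL2Conj Cfsg.Agent.Helper14.Torus Cfsg.Agent.Helper14.TorusB
  Cfsg.Agent.Helper14.TorusC Cfsg.Agent.Helper14.TorusD Cfsg.Agent.Helper14.TorusE
  Cfsg.Agent.Helper14.ClassEq

variable {F : Type*} [Field F]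

local notation "SL2" => Matrix.SpecialLinearGroup (Fin 2) F
local notation "M2" => Matrix (Fin 2) (Fin 2) F

theorem trace_conj (g x : SL2) : ((g * x * g⁻¹ : SL2) : M2).trace = (x : M2).trace := by
  rw [Matrix.SpecialLinearGroup.coe_mul, Matrix.SpecialLinearGroup.coe_mul,
    Matrix.trace_mul_comm, ← mul_assoc, ← Matrix.SpecialLinearGroup.coe_mul, inv_mul_cancel,
    Matrix.SpecialLinearGroup.coe_one, one_mul]

theorem hyp_of [Fintype F] (hodd : Odd (Fintype.card F)) (Mt : Subgroup SL2)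
    (hneg : negOne ∈ Mt)
    (h1 : ∀ x ∈ Mt, (x : M2).trace ^ 2 = 4 → x = 1 ∨ x = negOne) :
    Hyp (⟨negOne, hneg⟩ : Mt) := by
  have h2 := two_ne_zero_of_odd hodd
  have hns : ∀ x : Mt, x ≠ 1 → x ≠ ⟨negOne, hneg⟩ → NS ((x : SL2) : M2) := by
    intro x hx1 hxz
    by_contra hcon
    rcases scalar_of_not_NS (x : SL2) hcon with h | h
    · exact hx1 (Subtype.ext h)
    · exact hxz (Subtype.ext h)
  refine ⟨?_, ?_, ?_, ?_, ?_⟩
  · intro g
    apply Subtype.ext
    exact (negOne_comm (g : SL2)).symm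
  · intro h
    exact negOne_ne_one h2 (congrArg Subtype.val h)
  · apply Subtype.ext
    exact negOne_mul_self
  · intro x hx1 hxz g h hg hh
    apply Subtype.ext
    exact cent_comm (x : SL2) (g : SL2) (h : SL2) (hns x hx1 hxz)
      (congrArg Subtype.val hg.eq) (congrArg Subtype.val hh.eq)
  · intro x hx1 hxz g hc
    have hτ : ((x : SL2) : M2).trace ^ 2 ≠ 4 := by
      intro h
      rcases h1 (x : SL2) x.2 h with h' | h'
      · exact hx1 (Subtype.ext h')
      · exact hxz (Subtype.ext h')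
    have := conj_mem_pair hodd (x : SL2) ((g : SL2) * (x : SL2) * (g : SL2)⁻¹) hτ
      (congrArg Subtype.val hc.eq) (trace_conj _ _)
    rcases this with h | h
    · left
      exact Subtype.ext h
    · right
      exact Subtype.ext h

theorem h1_of_coprime [Fintype F] (hodd : Odd (Fintype.card F)) (p : ℕ) [Fact p.Prime]
    [CharP F p] (Mt : Subgroup SL2) (hp : ¬ p ∣ Nat.card Mt) :
    ∀ x ∈ Mt, (x : M2).trace ^ 2 = 4 → x = 1 ∨ x = negOne := by
  intro x hx htr
  have h2 := two_ne_zero_of_odd hodd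
  have hpow := pow_two_mul_char p x htr
  have ho1 : orderOf x ∣ 2 * p := orderOf_dvd_of_pow_eq_one hpow
  have ho2 : orderOf x ∣ Nat.card Mt := by
    have := orderOf_dvd_natCard (⟨x, hx⟩ : Mt)
    rwa [Subgroup.orderOf_mk] at this
  have hcop : Nat.Coprime (orderOf x) p := by
    apply Nat.Coprime.symm
    rw [Nat.Prime.coprime_iff_not_dvd Fact.out]
    intro h
    exact hp (dvd_trans h ho2)
  have ho3 : orderOf x ∣ 2 := hcop.dvd_of_dvd_mul_right ho1
  have hxx : x * x = 1 := by
    rw [← pow_two]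
    exact orderOf_dvd_iff_pow_eq_one.mp ho3
  exact sq_one h2 x hxx

theorem main_sl2 [Fintype F] (hodd : Odd (Fintype.card F)) (p : ℕ) [Fact p.Prime]
    [CharP F p] (Mt : Subgroup SL2) (hneg : negOne ∈ Mt) (hp : ¬ p ∣ Nat.card Mt) :
    (∀ g ∈ Mt, ∀ h ∈ Mt, g * g * (h * h) = h * h * (g * g)) ∨
      Nat.card Mt = 24 ∨ Nat.card Mt = 48 ∨ Nat.card Mt = 120 := by
  have H := hyp_of hodd Mt hneg (h1_of_coprime hodd p Mt hp)
  rcases main_abs H with ⟨B, hB, hcomm⟩ | h | h | h
  · left
    have hsq : ∀ g : Mt, g * g ∈ B := by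
      intro g
      have hi : B.index = 1 ∨ B.index = 2 := by
        have : B.index ≠ 0 := Subgroup.index_ne_zero_of_finite
        omega
      rcases hi with hi | hi
      · rw [Subgroup.index_eq_one] at hi
        rw [hi]
        exact Subgroup.mem_top _
      · have := Subgroup.sq_mem_of_index_two hi g
        rwa [pow_two] at this
    intro g hg h hh
    have := hcomm _ (hsq ⟨g, hg⟩) _ (hsq ⟨h, hh⟩)
    exact congrArg Subtype.val this
  · right; left
    exact h
  · right; right; left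
    exact h
  · right; right; right
    exact h

end Cfsg.Agent.Helper14.SL2T
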