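import Mathlib
import Cfsg.Agent.Helper25.SL2

set_option autoImplicit false

namespace Cfsg.Agent.Helper14.SubA

variable {F : Type*} [Field F]

local notation "SL2" => Matrix.SpecialLinearGroup (Fin 2) F
local notation "M2" => Matrix (Fin 2) (Fin 2) F

/-- explicit constructor of an element of `SL₂`. -/
def mk2 (a b c d : F) (h : a * d - b * c = 1) : SL2 :=
  ⟨!![a, b; c, d], by rw [Matrix.det_fin_two_of]; exact h⟩

theorem mk2_coe (a b c d : F) (h : a * d - b * c = 1) :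
    ((mk2 a b c d h : SL2) : M2) = !![a, b; c, d] := rfl

theorem conj_eq (g u v : SL2) (h : (g : M2) * (u : M2) = (v : M2) * (g : M2)) :
    g * u * g⁻¹ = v := by
  have e : g * u = v * g := by
    apply Subtype.ext
    rw [Matrix.SpecialLinearGroup.coe_mul, Matrix.SpecialLinearGroup.coe_mul]
    exact h
  rw [e, mul_inv_cancel_right]

theorem mem_of_conj (M : Subgroup SL2) (g u v : SL2) (hg : g ∈ M) (hu : u ∈ M)
    (h : (g : M2) * (u : M2) = (v : M2) * (g : M2)) : v ∈ M := by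
  rw [← conj_eq g u v h]
  exact M.mul_mem (M.mul_mem hg hu) (M.inv_mem hg)

/-- upper unitriangular element -/
def xe (μ : F) : SL2 := mk2 1 μ 0 1 (by ring)

/-- lower unitriangular element -/
def ye (ν : F) : SL2 := mk2 1 0 ν 1 (by ring)

/-- unipotent element fixing the point `s`. -/
def nel (s μ : F) : SL2 := mk2 (1 + μ * s) (-(μ * s ^ 2)) μ (1 - μ * s) (by ring)

theorem xe_coe (μ : F) : ((xe μ : SL2) : M2) = !![1, μ; 0, 1] := rfl
theorem ye_coe (ν : F) : ((ye ν : SL2) : M2) = !![1, 0; ν, 1] := rfl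
theorem nel_coe (s μ : F) :
    ((nel s μ : SL2) : M2) = !![1 + μ * s, -(μ * s ^ 2); μ, 1 - μ * s] := rfl

theorem mul_eq (g h k : SL2) (e : (g : M2) * (h : M2) = (k : M2)) : g * h = k := by
  apply Subtype.ext
  rw [Matrix.SpecialLinearGroup.coe_mul]
  exact e

theorem ye_add (a b : F) : ye a * ye b = ye (a + b) := by
  apply mul_eq
  rw [ye_coe, ye_coe, ye_coe, Matrix.mul_fin_two]
  congr 1
  ext i j
  fin_cases i <;> fin_cases j <;> simp

theorem ye_zero : ye (0 : F) = 1 := by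
  apply Subtype.ext
  rw [ye_coe, Matrix.SpecialLinearGroup.coe_one, Matrix.one_fin_two]

theorem ye_neg (a : F) : (ye a)⁻¹ = ye (-a) := by
  rw [inv_eq_iff_mul_eq_one, ye_add, add_neg_cancel, ye_zero]

theorem nel_add (s a b : F) : nel s a * nel s b = nel s (a + b) := by
  apply mul_eq
  rw [nel_coe, nel_coe, nel_coe, Matrix.mul_fin_two]
  congr 1
  ext i j
  fin_cases i <;> fin_cases j <;> simp <;> ring

theorem nel_zero (s : F) : nel s (0 : F) = 1 := by
  apply Subtype.ext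
  rw [nel_coe, Matrix.SpecialLinearGroup.coe_one, Matrix.one_fin_two]
  congr 1
  ext i j
  fin_cases i <;> fin_cases j <;> simp

theorem nel_neg (s a : F) : (nel s a)⁻¹ = nel s (-a) := by
  rw [inv_eq_iff_mul_eq_one, nel_add, add_neg_cancel, nel_zero]

/-- A subgroup containing all upper unitriangular elements and one lower one is everything. -/
theorem top_of_upper (M : Subgroup SL2) (hx : ∀ μ : F, xe μ ∈ M) (hy : ye (-1 : F) ∈ M) :
    M = ⊤ := by
  obtain ⟨w, hw⟩ : ∃ w : SL2, w = mk2 0 1 (-1) 0 (by ring) := ⟨_, rfl⟩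
  have hwM : w ∈ M := by
    have e : xe (1 : F) * ye (-1 : F) * xe (1 : F) = w := by
      apply mul_eq
      rw [Matrix.SpecialLinearGroup.coe_mul, xe_coe, ye_coe, hw, mk2_coe, Matrix.mul_fin_two,
        Matrix.mul_fin_two]
      congr 1
      ext i j
      fin_cases i <;> fin_cases j <;> simp
    rw [← e]
    exact M.mul_mem (M.mul_mem (hx 1) hy) (hx 1)
  have hyall : ∀ ν : F, ye ν ∈ M := by
    intro ν
    apply mem_of_conj M w (xe (-ν)) (ye ν) hwM (hx _)
    rw [hw, mk2_coe, xe_coe, ye_coe, Matrix.mul_fin_two, Matrix.mul_fin_two]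
    congr 1
    ext i j
    fin_cases i <;> fin_cases j <;> simp
  rw [eq_top_iff, ← Cfsg.Agent.Helper25.sl2_gen F]
  apply sup_le
  · intro g hg
    rw [Cfsg.Agent.Helper25.eq_lowerElt hg]
    exact hyall _
  · intro g hg
    rw [Cfsg.Agent.Helper25.eq_upperElt hg]
    exact hx _

/-- Frobenius-like data for the exponent `q`. -/
structure QF (F : Type*) [Field F] (q : ℕ) : Prop where
  add : ∀ x y : F, (x + y) ^ q = x ^ q + y ^ q
  invol : ∀ x : F, (x ^ q) ^ q = x
  odd : Odd q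
  two : (2 : F) ≠ 0

namespace QF

variable {q : ℕ} (hQ : QF F q)
include hQ

theorem ne_zero : q ≠ 0 := by
  obtain ⟨m, hm⟩ := hQ.odd
  omega

theorem zero : (0 : F) ^ q = 0 := zero_pow hQ.ne_zero

theorem neg (x : F) : (-x) ^ q = -(x ^ q) := hQ.odd.neg_pow x

theorem sub (x y : F) : (x - y) ^ q = x ^ q - y ^ q := by
  rw [sub_eq_add_neg, hQ.add, hQ.neg, ← sub_eq_add_neg]

theorem kadd {x y : F} (hx : x ^ q = x) (hy : y ^ q = y) : (x + y) ^ q = x + y := by
  rw [hQ.add, hx, hy]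

theorem ksub {x y : F} (hx : x ^ q = x) (hy : y ^ q = y) : (x - y) ^ q = x - y := by
  rw [hQ.sub, hx, hy]

theorem kneg {x : F} (hx : x ^ q = x) : (-x) ^ q = -x := by
  rw [hQ.neg, hx]

omit hQ in
theorem kmul {x y : F} (hx : x ^ q = x) (hy : y ^ q = y) : (x * y) ^ q = x * y := by
  rw [mul_pow, hx, hy]

omit hQ in
theorem kdiv {x y : F} (hx : x ^ q = x) (hy : y ^ q = y) : (x / y) ^ q = x / y := by
  rw [div_pow, hx, hy]

omit hQ in
theorem kinv {x : F} (hx : x ^ q = x) : (x⁻¹) ^ q = x⁻¹ := by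
  rw [inv_pow, hx]

omit hQ in
theorem kone : (1 : F) ^ q = 1 := one_pow q

theorem ktwo : (2 : F) ^ q = 2 := by
  have : (2 : F) = 1 + 1 := by norm_num
  rw [this, hQ.add, one_pow]

/-- decomposition of an arbitrary element along `1, θ` with coefficients fixed by `x ↦ x ^ q`. -/
theorem decomp (θ : F) (hθ : θ ^ q ≠ θ) (z : F) :
    ∃ α β : F, α ^ q = α ∧ β ^ q = β ∧ z = α + β * θ := by
  have hd : θ - θ ^ q ≠ 0 := fun h => hθ (sub_eq_zero.mp h).symm
  have hd' : θ ^ q - θ ≠ 0 := fun h => hθ (sub_eq_zero.mp h)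
  obtain ⟨β, hβ⟩ : ∃ β : F, β = (z - z ^ q) / (θ - θ ^ q) := ⟨_, rfl⟩
  have hβq : β ^ q = β := by
    rw [hβ, div_pow, hQ.sub, hQ.sub, hQ.invol, hQ.invol]
    field_simp
    ring
  refine ⟨z - β * θ, β, ?_, hβq, by ring⟩
  rw [hQ.sub, mul_pow, hβq, hβ]
  field_simp
  ring

end QF

end Cfsg.Agent.Helper14.SubA
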