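import Mathlib
import Cfsg.Agent.Helper14.CE2
import Cfsg.Agent.Helper14.SL2T
import Cfsg.Agent.Helper14.SubA

set_option autoImplicit false

namespace Cfsg.Agent.Helper14.SLc

open Cfsg.Agent.Helper14.Mat2 Cfsg.Agent.Helper14.SL2Odd Cfsg.Agent.Helper14.PSL2
  Cfsg.Agent.Helper14.SL2Conj Cfsg.Agent.Helper14.Torus Cfsg.Agent.Helper14.TorusB
  Cfsg.Agent.Helper14.TorusC Cfsg.Agent.Helper14.TorusD Cfsg.Agent.Helper14.TorusE
  Cfsg.Agent.Helper14.SL2T Cfsg.Agent.Helper14.SubA Cfsg.Agent.Helper14.CE2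

variable {F : Type*} [Field F]

local notation "SL2" => Matrix.SpecialLinearGroup (Fin 2) F
local notation "M2" => Matrix (Fin 2) (Fin 2) F

/-- the discriminant of an element -/
def chi (x : SL2) : F := (x : M2).trace ^ 2 - 4

theorem chi_conj (g x : SL2) : chi (g * x * g⁻¹) = chi x := by
  unfold chi
  rw [trace_conj]

theorem hyp1_of [Fintype F] (hodd : Odd (Fintype.card F)) (M : Subgroup SL2)
    (hneg : negOne ∈ M) : Hyp1 (⟨negOne, hneg⟩ : M) := by
  have h2 := two_ne_zero_of_odd hodd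
  refine ⟨?_, ?_, ?_⟩
  · intro g
    apply Subtype.ext
    exact (negOne_comm (g : SL2)).symm
  · intro h
    exact negOne_ne_one h2 (congrArg Subtype.val h)
  · intro x hx1 hxz g h hg hh
    have hns : NS ((x : SL2) : M2) := by
      by_contra hcon
      rcases scalar_of_not_NS (x : SL2) hcon with h | h
      · exact hx1 (Subtype.ext h)
      · exact hxz (Subtype.ext h)
    apply Subtype.ext
    exact cent_comm (x : SL2) (g : SL2) (h : SL2) hns
      (congrArg Subtype.val hg.eq) (congrArg Subtype.val hh.eq)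

theorem ns_of_good (M : Subgroup SL2) (hneg : negOne ∈ M) (x : M)
    (hx : Good (⟨negOne, hneg⟩ : M) x) : NS ((x : SL2) : M2) := by
  by_contra hcon
  rcases scalar_of_not_NS (x : SL2) hcon with h | h
  · exact hx.1 (Subtype.ext h)
  · exact hx.2 (Subtype.ext h)

theorem good_of_ns (M : Subgroup SL2)
    (hneg : negOne ∈ M) (x : M) (hx : NS ((x : SL2) : M2)) :
    Good (⟨negOne, hneg⟩ : M) x := by
  constructor
  · rintro rfl
    exact not_NS_one hx
  · rintro rfl
    unfold NS at hx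
    simp [coe_negOne] at hx

theorem chi_commute (x y : SL2) (hx : NS (x : M2)) (hy : NS (y : M2)) (h : y * x = x * y) :
    ∃ β : F, β ≠ 0 ∧ chi y = β ^ 2 * chi x := by
  have h' : (y : M2) * (x : M2) = (x : M2) * (y : M2) := by
    rw [← Matrix.SpecialLinearGroup.coe_mul, ← Matrix.SpecialLinearGroup.coe_mul, h]
  obtain ⟨α, β, hy2⟩ := cent_mat _ _ hx h'
  have e00 : (y : M2) 0 0 = α + β * (x : M2) 0 0 := by rw [hy2]; simp
  have e01 : (y : M2) 0 1 = β * (x : M2) 0 1 := by rw [hy2]; simp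
  have e10 : (y : M2) 1 0 = β * (x : M2) 1 0 := by rw [hy2]; simp
  have e11 : (y : M2) 1 1 = α + β * (x : M2) 1 1 := by rw [hy2]; simp
  refine ⟨β, ?_, ?_⟩
  · rintro rfl
    unfold NS at hy
    rw [e00, e01, e10, e11] at hy
    simp at hy
  · have hdx := x.det_coe
    have hdy := y.det_coe
    rw [Matrix.det_fin_two] at hdx hdy
    unfold chi
    rw [Matrix.trace_fin_two, Matrix.trace_fin_two]
    rw [e00, e01, e10, e11] at hdy
    rw [e00, e11]
    linear_combination 4 * hdy - 4 * β ^ 2 * hdx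

theorem rel_chi (M : Subgroup SL2) (hneg : negOne ∈ M) (x y : M)
    (hx : Good (⟨negOne, hneg⟩ : M) x) (hy : Good (⟨negOne, hneg⟩ : M) y) (h : Rel x y) :
    ∃ β : F, β ≠ 0 ∧ chi (y : SL2) = β ^ 2 * chi (x : SL2) := by
  obtain ⟨g, hg⟩ := h
  have hns1 := ns_of_good M hneg y hy
  have hgood : Good (⟨negOne, hneg⟩ : M) (g * x * g⁻¹) := by
    constructor
    · intro h1
      apply hx.1
      have : x = g⁻¹ * (g * x * g⁻¹) * g := by group
      rw [this, h1]
      group
    · intro h1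
      apply hx.2
      have e : x = g⁻¹ * (g * x * g⁻¹) * g := by group
      rw [e, h1]
      apply Subtype.ext
      show (g : SL2)⁻¹ * negOne * (g : SL2) = negOne
      rw [mul_assoc, negOne_comm, ← mul_assoc, inv_mul_cancel, one_mul]
  have hns2 := ns_of_good M hneg _ hgood
  have hc : (y : SL2) * ((g : SL2) * (x : SL2) * (g : SL2)⁻¹) =
      ((g : SL2) * (x : SL2) * (g : SL2)⁻¹) * (y : SL2) := (congrArg Subtype.val hg.eq).symm
  obtain ⟨β, hβ, e⟩ := chi_commute _ _ hns2 hns1 hc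
  refine ⟨β, hβ, ?_⟩
  have e' : ((g * x * g⁻¹ : M) : SL2) = (g : SL2) * (x : SL2) * (g : SL2)⁻¹ := rfl
  rw [e, e', chi_conj]

theorem a2_of [Fintype F] (hodd : Odd (Fintype.card F)) (M : Subgroup SL2) (x : M)
    (hτ : chi (x : SL2) ≠ 0) :
    ∀ g : M, Commute (g * x * g⁻¹) x → g * x * g⁻¹ = x ∨ g * x * g⁻¹ = x⁻¹ := by
  intro g hc
  have hτ' : ((x : SL2) : M2).trace ^ 2 ≠ 4 := by
    intro h
    apply hτ
    unfold chi
    rw [h]
    ring
  have := conj_mem_pair hodd (x : SL2) ((g : SL2) * (x : SL2) * (g : SL2)⁻¹) hτ'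
    (congrArg Subtype.val hc.eq) (trace_conj _ _)
  rcases this with h | h
  · left
    exact Subtype.ext h
  · right
    exact Subtype.ext h

theorem pow_of_split [Fintype F] (h2 : (2 : F) ≠ 0) (g : SL2) (δ : F) (hδ : δ ≠ 0)
    (h : chi g = δ ^ 2) : g ^ (Fintype.card F - 1) = 1 := by
  obtain ⟨τ, hτ⟩ : ∃ τ : F, τ = (g : M2).trace := ⟨_, rfl⟩
  obtain ⟨l, hl⟩ : ∃ l : F, l = (τ + δ) / 2 := ⟨_, rfl⟩
  obtain ⟨m, hm⟩ : ∃ m : F, m = (τ - δ) / 2 := ⟨_, rfl⟩
  unfold chi at h
  rw [← hτ] at h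
  have hlm : l * m = 1 := by
    rw [hl, hm]
    field_simp
    linear_combination h
  have hl0 : l ≠ 0 := left_ne_zero_of_mul_eq_one hlm
  have hm0 : m ≠ 0 := right_ne_zero_of_mul_eq_one hlm
  have hsum : l + m = τ := by
    rw [hl, hm]
    field_simp
    ring
  have hdiff : l - m = δ := by
    rw [hl, hm]
    field_simp
    ring
  have hG : (g : M2) * (g : M2) = τ • (g : M2) - 1 := by
    rw [← pow_two, sq_eq, hτ]
  have hN1 : (g : M2) * ((g : M2) - m • (1 : M2)) = l • ((g : M2) - m • (1 : M2)) := by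
    rw [Matrix.mul_sub, hG, Matrix.mul_smul, Matrix.mul_one, smul_sub, smul_smul, hlm, ← hsum]
    module
  have hN2 : (g : M2) * ((g : M2) - l • (1 : M2)) = m • ((g : M2) - l • (1 : M2)) := by
    rw [Matrix.mul_sub, hG, Matrix.mul_smul, Matrix.mul_one, smul_sub, smul_smul, mul_comm m l, hlm,
      ← hsum]
    module
  have hp1 : ∀ n : ℕ, (g : M2) ^ n * ((g : M2) - m • (1 : M2)) =
      l ^ n • ((g : M2) - m • (1 : M2)) := by
    intro n
    induction n with
    | zero => simp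
    | succ n ih =>
      rw [pow_succ, mul_assoc, hN1, Matrix.mul_smul, ih, smul_smul, pow_succ, mul_comm]
  have hp2 : ∀ n : ℕ, (g : M2) ^ n * ((g : M2) - l • (1 : M2)) =
      m ^ n • ((g : M2) - l • (1 : M2)) := by
    intro n
    induction n with
    | zero => simp
    | succ n ih =>
      rw [pow_succ, mul_assoc, hN2, Matrix.mul_smul, ih, smul_smul, pow_succ, mul_comm]
  have e1 := hp1 (Fintype.card F - 1)
  have e2 := hp2 (Fintype.card F - 1)
  rw [FiniteField.pow_card_sub_one_eq_one l hl0, one_smul] at e1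
  rw [FiniteField.pow_card_sub_one_eq_one m hm0, one_smul] at e2
  have e3 : (g : M2) ^ (Fintype.card F - 1) * (δ • (1 : M2)) = δ • (1 : M2) := by
    have e4 : δ • (1 : M2) = ((g : M2) - m • (1 : M2)) - ((g : M2) - l • (1 : M2)) := by
      rw [← hdiff]
      module
    rw [e4, Matrix.mul_sub, e1, e2]
  rw [Matrix.mul_smul, Matrix.mul_one] at e3
  apply Subtype.ext
  rw [Matrix.SpecialLinearGroup.coe_pow, Matrix.SpecialLinearGroup.coe_one]
  have e5 := congrArg (fun X : M2 => δ⁻¹ • X) e3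
  simp only [smul_smul, inv_mul_cancel₀ hδ, one_smul] at e5
  exact e5

theorem pow_char_of_trace_two (p : ℕ) [CharP F p] (g : SL2) (h : (g : M2).trace = 2) :
    g ^ p = 1 := by
  have hG : (g : M2) * (g : M2) = (2 : F) • (g : M2) - 1 := by
    rw [← pow_two, sq_eq, h]
  obtain ⟨N, hNdef⟩ : ∃ N : M2, N = (g : M2) - 1 := ⟨_, rfl⟩
  have hGN : (g : M2) = 1 + N := by
    rw [hNdef]
    abel
  have hN : N * N = 0 := by
    rw [hNdef, Matrix.sub_mul, Matrix.mul_sub, Matrix.mul_sub, hG, Matrix.mul_one, Matrix.one_mul,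
      Matrix.one_mul]
    module
  have hp : ∀ n : ℕ, (g : M2) ^ n = 1 + (n : F) • N := by
    intro n
    induction n with
    | zero => simp
    | succ n ih =>
      rw [pow_succ, ih, hGN, Matrix.add_mul, Matrix.mul_add, Matrix.mul_add, Matrix.smul_mul,
        Matrix.smul_mul, hN, Matrix.one_mul, Matrix.mul_one, Matrix.one_mul]
      push_cast
      module
  apply Subtype.ext
  rw [Matrix.SpecialLinearGroup.coe_pow, Matrix.SpecialLinearGroup.coe_one, hp p,
    CharP.cast_eq_zero, zero_smul, add_zero]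

end Cfsg.Agent.Helper14.SLc
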