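import Mathlib
import Cfsg.Agent.Helper14.SubA

set_option autoImplicit false

namespace Cfsg.Agent.Helper14.SubB

open Cfsg.Agent.Helper14.SubA

variable {F : Type*} [Field F]

local notation "SL2" => Matrix.SpecialLinearGroup (Fin 2) F
local notation "M2" => Matrix (Fin 2) (Fin 2) F

/-- a norm-one element whose square is moved by `x ↦ x ^ q`. -/
theorem exists_rho [Fintype F] (q : ℕ) (hodd : Odd q) (hq5 : 5 ≤ q)
    (hcard : Fintype.card F = q ^ 2) :
    ∃ ρ : F, ρ * ρ ^ q = 1 ∧ (ρ ^ 2) ^ q ≠ ρ ^ 2 ∧ orderOf (ρ ^ 2) = (q + 1) / 2 := by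
  classical
  obtain ⟨m, hm⟩ := hodd
  have hm2 : 2 ≤ m := by omega
  obtain ⟨ζ, hζ⟩ := IsCyclic.exists_generator (α := Fˣ)
  have hordζ : orderOf ζ = q ^ 2 - 1 := by
    rw [orderOf_eq_card_of_forall_mem_zpowers hζ, Nat.card_eq_fintype_card, Fintype.card_units,
      hcard]
  have hq2 : q ^ 2 - 1 = 4 * m * (m + 1) := by
    have : q ^ 2 = 4 * m * (m + 1) + 1 := by rw [hm]; ring
    omega
  obtain ⟨r, hr⟩ : ∃ r : Fˣ, r = ζ ^ (q - 1) := ⟨_, rfl⟩
  have hq1 : q - 1 = 2 * m := by omega
  have hr2 : r ^ 2 = ζ ^ (4 * m) := by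
    rw [hr, ← pow_mul, hq1]
    congr 1
    ring
  have hord : orderOf (r ^ 2) = m + 1 := by
    rw [hr2, orderOf_pow_of_dvd (by omega) (by rw [hordζ, hq2]; exact dvd_mul_right _ _), hordζ,
      hq2]
    exact Nat.mul_div_cancel_left _ (by omega)
  have hnorm : r ^ (q + 1) = 1 := by
    rw [hr, ← pow_mul]
    have : (q - 1) * (q + 1) = orderOf ζ := by
      rw [hordζ, hq2, hq1, hm]
      ring
    rw [this]
    exact pow_orderOf_eq_one ζ
  have hhalf : (q + 1) / 2 = m + 1 := by omega
  refine ⟨(r : F), ?_, ?_, ?_⟩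
  · rw [← pow_succ', ← Units.val_pow_eq_pow_val, hnorm, Units.val_one]
  · intro h
    have h1 : (r ^ 2) ^ q = r ^ 2 := by
      apply Units.ext
      rw [Units.val_pow_eq_pow_val, Units.val_pow_eq_pow_val]
      exact h
    have h2 : (r ^ 2) ^ (q - 1) = 1 := by
      have : (r ^ 2) ^ q = (r ^ 2) ^ (q - 1) * r ^ 2 := by
        rw [← pow_succ]
        congr 1
        omega
      rw [this] at h1
      exact mul_eq_right.mp h1
    have h3 := orderOf_dvd_of_pow_eq_one h2
    rw [hord, hq1] at h3
    have h4 : m + 1 ∣ 2 := by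
      have : m + 1 ∣ 2 * (m + 1) := dvd_mul_left _ _
      have h5 : 2 * (m + 1) = 2 * m + 2 := by ring
      rw [h5] at this
      exact (Nat.dvd_add_right h3).mp this
    have := Nat.le_of_dvd (by norm_num) h4
    omega
  · rw [← Units.val_pow_eq_pow_val, orderOf_units, hord, hhalf]

/-- a subfield containing such an element is everything. -/
theorem subfield_top [Fintype F] (q : ℕ) (hodd : Odd q) (hq5 : 5 ≤ q)
    (hcard : Fintype.card F = q ^ 2) (E : Subfield F) (θ : F) (hθE : θ ∈ E) (hθ : θ ^ q ≠ θ)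
    (hord : orderOf θ = (q + 1) / 2) : E = ⊤ := by
  classical
  have : Fintype E := Fintype.ofFinite E
  obtain ⟨m, hm⟩ := hodd
  have hhalf : (q + 1) / 2 = m + 1 := by omega
  obtain ⟨e, he⟩ : ∃ e : ℕ, e = Fintype.card E := ⟨_, rfl⟩
  have hpow := Module.card_eq_pow_finrank (K := E) (V := F)
  rw [hcard, ← he] at hpow
  have he1 : 1 < e := by
    rw [he]
    exact Fintype.one_lt_card
  have hθ0 : (⟨θ, hθE⟩ : E) ≠ 0 := by
    intro h
    have h0 : θ = 0 := congrArg Subtype.val h
    apply hθ
    rw [h0]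
    exact zero_pow (by omega)
  have h1 := FiniteField.pow_card_sub_one_eq_one (⟨θ, hθE⟩ : E) hθ0
  rw [← he] at h1
  have h1' : θ ^ (e - 1) = 1 := by
    have := congrArg Subtype.val h1
    simpa using this
  have h2 := FiniteField.pow_card (⟨θ, hθE⟩ : E)
  rw [← he] at h2
  have h2' : θ ^ e = θ := by
    have := congrArg Subtype.val h2
    simpa using this
  have hdvd := orderOf_dvd_of_pow_eq_one h1'
  rw [hord, hhalf] at hdvd
  have hle : m + 1 ≤ e - 1 := Nat.le_of_dvd (by omega) hdvd
  obtain ⟨d, hd⟩ : ∃ d : ℕ, d = Module.finrank E F := ⟨_, rfl⟩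
  rw [← hd] at hpow
  have hd0 : d ≠ 0 := by
    intro h
    rw [h, pow_zero] at hpow
    have : 25 ≤ q ^ 2 := by nlinarith
    omega
  by_cases hd1 : d = 1
  · rw [hd1, pow_one] at hpow
    have hadd : E.toSubring.toAddSubgroup = ⊤ := by
      apply AddSubgroup.eq_top_of_card_eq
      show Nat.card E = Nat.card F
      rw [Nat.card_eq_fintype_card, Nat.card_eq_fintype_card, hcard, hpow, he]
    rw [eq_top_iff]
    intro x _
    have : x ∈ E.toSubring.toAddSubgroup := by
      rw [hadd]
      exact AddSubgroup.mem_top x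
    exact this
  · exfalso
    by_cases hd2 : d = 2
    · rw [hd2] at hpow
      have heq : e = q := by
        have := Nat.pow_left_injective (n := 2) (by norm_num) hpow.symm
        exact this
      rw [heq] at h2'
      exact hθ h2'
    · have hd3 : 3 ≤ d := by omega
      have h3 : e ^ 3 ≤ q ^ 2 := by
        rw [hpow]
        exact Nat.pow_le_pow_right (by omega) hd3
      have h4 : q + 3 ≤ 2 * e := by omega
      nlinarith [Nat.pow_le_pow_left h4 3]

/-- the multiplier subfield of an additive subgroup of a finite field. -/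
def multField [Fintype F] (P : AddSubgroup F) : Subfield F where
  carrier := {e | ∀ μ ∈ P, e * μ ∈ P}
  mul_mem' := by
    intro a b ha hb μ hμ
    rw [mul_assoc]
    exact ha _ (hb _ hμ)
  one_mem' := by
    intro μ hμ
    rw [one_mul]
    exact hμ
  add_mem' := by
    intro a b ha hb μ hμ
    rw [add_mul]
    exact P.add_mem (ha _ hμ) (hb _ hμ)
  zero_mem' := by
    intro μ hμ
    rw [zero_mul]
    exact P.zero_mem
  neg_mem' := by
    intro a ha μ hμ
    rw [neg_mul]
    exact P.neg_mem (ha _ hμ)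
  inv_mem' := by
    intro x hx
    by_cases h0 : x = 0
    · rw [h0, inv_zero]
      intro μ hμ
      rw [zero_mul]
      exact P.zero_mem
    · have hpow : ∀ n : ℕ, ∀ μ ∈ P, x ^ n * μ ∈ P := by
        intro n
        induction n with
        | zero =>
          intro μ hμ
          rw [pow_zero, one_mul]
          exact hμ
        | succ k ih =>
          intro μ hμ
          rw [pow_succ, mul_assoc]
          exact ih _ (hx _ hμ)
      have h1 := FiniteField.pow_card_sub_one_eq_one x h0
      have hinv : x⁻¹ = x ^ (Fintype.card F - 2) := by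
        have hc : 2 ≤ Fintype.card F := Fintype.one_lt_card
        have h3 : x * x ^ (Fintype.card F - 2) = 1 := by
          rw [← pow_succ']
          have h4 : Fintype.card F - 2 + 1 = Fintype.card F - 1 := by omega
          rw [h4]
          exact h1
        exact inv_eq_of_mul_eq_one_right h3
      rw [hinv]
      exact hpow _

theorem mem_multField [Fintype F] (P : AddSubgroup F) (e : F) :
    e ∈ multField P ↔ ∀ μ ∈ P, e * μ ∈ P := Iff.rfl

/-- A unipotent element with non-rational lower-left entry forces the whole group. -/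
theorem e1 [Fintype F] (q : ℕ) (hQ : QF F q) (hq5 : 5 ≤ q) (hcard : Fintype.card F = q ^ 2)
    (M : Subgroup SL2)
    (hK : ∀ g : SL2, (∀ i j, ((g : M2) i j) ^ q = (g : M2) i j) → g ∈ M)
    (u : SL2) (hu : u ∈ M) (a b c : F) (huc : (u : M2) = !![1 + a, b; c, 1 - a])
    (habc : a * a + b * c = 0) (hc : c ^ q ≠ c) : M = ⊤ := by
  have hc0 : c ≠ 0 := by
    intro h
    apply hc
    rw [h]
    exact hQ.zero
  obtain ⟨s, hs⟩ : ∃ s : F, s = a / c := ⟨_, rfl⟩
  have ha : a = c * s := by
    rw [hs]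
    field_simp
  have hb : b = -(c * s ^ 2) := by
    rw [hs]
    field_simp
    linear_combination habc
  have hun : u = nel s c := by
    apply Subtype.ext
    rw [huc, nel_coe, ha, hb]
  have hrat : ∀ (a' b' c' d' : F) (h : a' * d' - b' * c' = 1), a' ^ q = a' → b' ^ q = b' →
      c' ^ q = c' → d' ^ q = d' → mk2 a' b' c' d' h ∈ M := by
    intro a' b' c' d' h h1 h2 h3 h4
    apply hK
    intro i j
    rw [mk2_coe]
    fin_cases i <;> fin_cases j <;> simp <;> assumption
  by_cases hsq : s ^ q = s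
  · have hX : mk2 1 (-s) 0 1 (by ring) ∈ M :=
      hrat _ _ _ _ _ (one_pow q) (hQ.kneg hsq) hQ.zero (one_pow q)
    have hyc : ye c ∈ M := by
      apply mem_of_conj M _ u (ye c) hX hu
      rw [mk2_coe, hun, nel_coe, ye_coe, Matrix.mul_fin_two, Matrix.mul_fin_two]
      congr 1
      ext i j
      fin_cases i <;> fin_cases j <;> simp <;> ring
    have hsqr : ∀ r : F, r ^ q = r → ye (r ^ 2 * c) ∈ M := by
      intro r hr
      by_cases hr0 : r = 0
      · have e0 : r ^ 2 * c = 0 := by rw [hr0]; ring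
        rw [e0, ye_zero]
        exact M.one_mem
      · have hD : mk2 r⁻¹ 0 0 r (by rw [inv_mul_cancel₀ hr0]; ring) ∈ M :=
          hrat _ _ _ _ _ (QF.kinv hr) hQ.zero hQ.zero hr
        apply mem_of_conj M _ (ye c) (ye (r ^ 2 * c)) hD hyc
        rw [mk2_coe, ye_coe, ye_coe, Matrix.mul_fin_two, Matrix.mul_fin_two]
        congr 1
        ext i j
        fin_cases i <;> fin_cases j <;> simp <;> field_simp
    have hkc : ∀ β : F, β ^ q = β → ye (β * c) ∈ M := by
      intro β hβ
      have h1 := hsqr ((β + 1) / 2) (QF.kdiv (hQ.kadd hβ (one_pow q)) hQ.ktwo)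
      have h2 := hsqr ((β - 1) / 2) (QF.kdiv (hQ.ksub hβ (one_pow q)) hQ.ktwo)
      have e : ye (β * c) = ye (((β + 1) / 2) ^ 2 * c) * (ye (((β - 1) / 2) ^ 2 * c))⁻¹ := by
        rw [ye_neg, ye_add]
        congr 1
        have h2' := hQ.two
        field_simp
        ring
      rw [e]
      exact M.mul_mem h1 (M.inv_mem h2)
    have hyall : ∀ ν : F, ye ν ∈ M := by
      intro ν
      obtain ⟨α, β, hα, hβ, hν⟩ := hQ.decomp c hc ν
      rw [hν, ← ye_add]
      exact M.mul_mem (hrat 1 0 α 1 _ (one_pow q) hQ.zero hα (one_pow q)) (hkc β hβ)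
    have hw : mk2 0 1 (-1) 0 (by ring) ∈ M :=
      hrat _ _ _ _ _ hQ.zero (one_pow q) (hQ.kneg (one_pow q)) hQ.zero
    apply top_of_upper M
    · intro μ
      apply mem_of_conj M _ (ye (-μ)) (xe μ) hw (hyall _)
      rw [mk2_coe, ye_coe, xe_coe, Matrix.mul_fin_two, Matrix.mul_fin_two]
      congr 1
      ext i j
      fin_cases i <;> fin_cases j <;> simp
    · exact hyall _
  · obtain ⟨ρ, hρn, hρ2, hρord⟩ := exists_rho q hQ.odd hq5 hcard
    obtain ⟨sb, hsb⟩ : ∃ sb : F, sb = s ^ q := ⟨_, rfl⟩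
    obtain ⟨ρb, hρb⟩ : ∃ ρb : F, ρb = ρ ^ q := ⟨_, rfl⟩
    have hsbq : sb ^ q = s := by
      rw [hsb]
      exact hQ.invol s
    have hρbq : ρb ^ q = ρ := by
      rw [hρb]
      exact hQ.invol ρ
    have hd : s - sb ≠ 0 := fun h => hsq (by rw [← hsb]; exact (sub_eq_zero.mp h).symm)
    have hd' : sb - s ≠ 0 := fun h => hsq (by rw [← hsb]; exact sub_eq_zero.mp h)
    obtain ⟨B, hB⟩ : ∃ B : F, B = (ρ - ρb) / (s - sb) := ⟨_, rfl⟩
    obtain ⟨A, hA⟩ : ∃ A : F, A = ρ - B * s := ⟨_, rfl⟩
    have hBq : B ^ q = B := by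
      rw [hB, div_pow, hQ.sub, hQ.sub, hρbq, hsbq, ← hsb, ← hρb]
      field_simp
      ring
    have hAq : A ^ q = A := by
      rw [hA, hQ.sub, mul_pow, hBq, ← hsb, ← hρb, hB]
      field_simp
      ring
    have hρA : A + B * s = ρ := by
      rw [hA]
      ring
    have hρbA : A + B * sb = ρb := by
      rw [hA, hB]
      field_simp
      ring
    have hdet : (A + B * s) * (A + B * sb) = 1 := by
      rw [hρA, hρbA, hρb]
      exact hρn
    have hτ : (s + sb) ^ q = s + sb := by
      rw [hQ.add, hsbq, ← hsb]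
      ring
    have hδ : (s * sb) ^ q = s * sb := by
      rw [mul_pow, hsbq, ← hsb]
      ring
    obtain ⟨g, hg⟩ : ∃ g : SL2, g = mk2 (A + B * (s + sb)) (-(B * (s * sb))) B A
        (by linear_combination hdet) := ⟨_, rfl⟩
    have hgM : g ∈ M := by
      rw [hg]
      exact hrat _ _ _ _ _ (hQ.kadd hAq (QF.kmul hBq hτ)) (hQ.kneg (QF.kmul hBq hδ)) hBq hAq
    have hθ : ∀ μ : F, nel s μ ∈ M → nel s (ρ ^ 2 * μ) ∈ M := by
      intro μ hμ
      apply mem_of_conj M g (nel s μ) _ hgM hμ
      rw [hg, mk2_coe, nel_coe, nel_coe, Matrix.mul_fin_two, Matrix.mul_fin_two, ← hρA]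
      congr 1
      ext i j
      fin_cases i <;> fin_cases j <;> simp
      · linear_combination (-(μ * s * (A + B * s))) * hdet
      · linear_combination (μ * s ^ 2 * (A + B * s)) * hdet
      · linear_combination (-(μ * (A + B * s))) * hdet
      · linear_combination (μ * s * (A + B * s)) * hdet
    obtain ⟨P, hP⟩ : ∃ P : AddSubgroup F, ∀ μ, μ ∈ P ↔ nel s μ ∈ M := by
      refine ⟨{ carrier := {μ | nel s μ ∈ M}, add_mem' := ?_, zero_mem' := ?_, neg_mem' := ?_ },
        fun μ => Iff.rfl⟩
      · intro a b ha hb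
        show nel s (a + b) ∈ M
        rw [← nel_add]
        exact M.mul_mem ha hb
      · show nel s 0 ∈ M
        rw [nel_zero]
        exact M.one_mem
      · intro a ha
        show nel s (-a) ∈ M
        rw [← nel_neg]
        exact M.inv_mem ha
    have hθE : ρ ^ 2 ∈ multField P := by
      rw [mem_multField]
      intro μ hμ
      rw [hP] at hμ ⊢
      exact hθ μ hμ
    have htop := subfield_top q hQ.odd hq5 hcard (multField P) (ρ ^ 2) hθE hρ2 hρord
    have hall : ∀ μ : F, nel s μ ∈ M := by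
      intro μ
      have h1 : μ / c ∈ multField P := by
        rw [htop]
        exact Subfield.mem_top _
      rw [mem_multField] at h1
      have h2 := h1 c ((hP c).mpr (by rw [← hun]; exact hu))
      rw [hP] at h2
      have e : μ / c * c = μ := by field_simp
      rw [e] at h2
      exact h2
    obtain ⟨r, hr⟩ : ∃ r : SL2, r = mk2 s (-1) 1 0 (by ring) := ⟨_, rfl⟩
    have hM2 : M.comap (MulAut.conj r).toMonoidHom = ⊤ := by
      apply top_of_upper
      · intro μ
        rw [Subgroup.mem_comap]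
        show r * xe μ * r⁻¹ ∈ M
        have e : r * xe μ * r⁻¹ = nel s (-μ) := by
          apply conj_eq
          rw [hr, mk2_coe, xe_coe, nel_coe, Matrix.mul_fin_two, Matrix.mul_fin_two]
          congr 1
          ext i j
          fin_cases i <;> fin_cases j <;> simp <;> ring
        rw [e]
        exact hall _
      · rw [Subgroup.mem_comap]
        show r * ye (-1) * r⁻¹ ∈ M
        have e : r * ye (-1) * r⁻¹ = xe 1 := by
          apply conj_eq
          rw [hr, mk2_coe, xe_coe, ye_coe, Matrix.mul_fin_two, Matrix.mul_fin_two]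
          congr 1
          ext i j
          fin_cases i <;> fin_cases j <;> simp
        rw [e]
        exact hrat 1 1 0 1 _ (one_pow q) (one_pow q) hQ.zero (one_pow q)
    rw [eq_top_iff]
    intro m _
    have hm : r⁻¹ * m * r ∈ M.comap (MulAut.conj r).toMonoidHom := by
      rw [hM2]
      exact Subgroup.mem_top _
    rw [Subgroup.mem_comap] at hm
    have e : (MulAut.conj r).toMonoidHom (r⁻¹ * m * r) = m := by
      show r * (r⁻¹ * m * r) * r⁻¹ = m
      group
    rw [e] at hm
    exact hm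

end Cfsg.Agent.Helper14.SubB
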