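import Mathlib
import Cfsg.Agent.Helper14.SubB
import Cfsg.Agent.S0804

set_option autoImplicit false

namespace Cfsg.Agent.Helper14.SubC

open Cfsg.Agent.Helper14.SubA Cfsg.Agent.Helper14.SubB
open Cfsg.Agent.Helper14.Mat2 Cfsg.Agent.Helper14.SL2Odd Cfsg.Agent.Helper14.PSL2
  Cfsg.Agent.Helper14.SL2Conj Cfsg.Agent.Helper14.Torus Cfsg.Agent.Helper14.TorusB
  Cfsg.Agent.Helper14.TorusC Cfsg.Agent.Helper14.TorusD Cfsg.Agent.Helper14.TorusE
  Cfsg.Agent.Helper14.A4Sub

variable {F : Type*} [Field F]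

local notation "SL2" => Matrix.SpecialLinearGroup (Fin 2) F
local notation "M2" => Matrix (Fin 2) (Fin 2) F

theorem mk2_00 (a b c d : F) (h : a * d - b * c = 1) : ((mk2 a b c d h : SL2) : M2) 0 0 = a := rfl
theorem mk2_01 (a b c d : F) (h : a * d - b * c = 1) : ((mk2 a b c d h : SL2) : M2) 0 1 = b := rfl
theorem mk2_10 (a b c d : F) (h : a * d - b * c = 1) : ((mk2 a b c d h : SL2) : M2) 1 0 = c := rfl
theorem mk2_11 (a b c d : F) (h : a * d - b * c = 1) : ((mk2 a b c d h : SL2) : M2) 1 1 = d := rfl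

theorem rat_mk2 (q : ℕ) (M : Subgroup SL2)
    (hK : ∀ g : SL2, (∀ i j, ((g : M2) i j) ^ q = (g : M2) i j) → g ∈ M)
    (a' b' c' d' : F) (h : a' * d' - b' * c' = 1) (h1 : a' ^ q = a') (h2 : b' ^ q = b')
    (h3 : c' ^ q = c') (h4 : d' ^ q = d') : mk2 a' b' c' d' h ∈ M := by
  apply hK
  intro i j
  rw [mk2_coe]
  fin_cases i <;> fin_cases j <;> simp <;> assumption

/-- A unipotent element with a non-rational entry forces the whole group. -/
theorem full_of_irrational [Fintype F] (q : ℕ) (hQ : QF F q) (hq5 : 5 ≤ q)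
    (hcard : Fintype.card F = q ^ 2) (M : Subgroup SL2)
    (hK : ∀ g : SL2, (∀ i j, ((g : M2) i j) ^ q = (g : M2) i j) → g ∈ M)
    (u : SL2) (hu : u ∈ M) (htr : (u : M2).trace = 2)
    (hirr : ¬ ∀ i j, ((u : M2) i j) ^ q = (u : M2) i j) : M = ⊤ := by
  obtain ⟨a, ha⟩ : ∃ a : F, a = (u : M2) 0 0 - 1 := ⟨_, rfl⟩
  obtain ⟨b, hb⟩ : ∃ b : F, b = (u : M2) 0 1 := ⟨_, rfl⟩
  obtain ⟨c, hc⟩ : ∃ c : F, c = (u : M2) 1 0 := ⟨_, rfl⟩
  have h11 : (u : M2) 1 1 = 1 - a := by
    rw [Matrix.trace_fin_two] at htr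
    rw [ha]
    linear_combination htr
  have huc : (u : M2) = !![1 + a, b; c, 1 - a] := by
    ext i j
    fin_cases i <;> fin_cases j <;> simp [ha, hb, hc, h11]
  have habc : a * a + b * c = 0 := by
    have hdet := u.det_coe
    rw [huc, Matrix.det_fin_two_of] at hdet
    linear_combination -hdet
  by_cases hcq : c ^ q = c
  · by_cases hbq : b ^ q = b
    · have haq : a ^ q ≠ a := by
        intro haq
        apply hirr
        intro i j
        rw [huc]
        fin_cases i <;> fin_cases j <;> simp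
        · exact hQ.kadd (one_pow q) haq
        · exact hbq
        · exact hcq
        · exact hQ.ksub (one_pow q) haq
      have hy1 : ye (1 : F) ∈ M := rat_mk2 q M hK 1 0 1 1 _ (one_pow q) hQ.zero (one_pow q) (one_pow q)
      obtain ⟨v, hv⟩ : ∃ v : SL2, v = mk2 (1 + (a - b)) b (2 * a + c - b) (1 - (a - b))
          (by linear_combination -habc) := ⟨_, rfl⟩
      have hvM : v ∈ M := by
        apply mem_of_conj M (ye 1) u v hy1 hu
        rw [hv, mk2_coe, ye_coe, huc, Matrix.mul_fin_two, Matrix.mul_fin_two]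
        congr 1
        ext i j
        fin_cases i <;> fin_cases j <;> simp <;> ring
      apply e1 q hQ hq5 hcard M hK v hvM (a - b) b (2 * a + c - b) (by rw [hv, mk2_coe])
        (by linear_combination habc)
      intro h
      apply haq
      have h1 : (2 * a) ^ q = 2 * a := by
        have e : 2 * a = (2 * a + c - b) - c + b := by ring
        rw [e]
        exact hQ.kadd (hQ.ksub h hcq) hbq
      rw [mul_pow, hQ.ktwo] at h1
      exact mul_left_cancel₀ hQ.two h1
    · have hw : mk2 (0 : F) 1 (-1) 0 (by ring) ∈ M :=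
        rat_mk2 q M hK _ _ _ _ _ hQ.zero (one_pow q) (hQ.kneg (one_pow q)) hQ.zero
      obtain ⟨v, hv⟩ : ∃ v : SL2, v = mk2 (1 + (-a)) (-c) (-b) (1 - (-a))
          (by linear_combination -habc) := ⟨_, rfl⟩
      have hvM : v ∈ M := by
        apply mem_of_conj M _ u v hw hu
        rw [hv, mk2_coe, mk2_coe, huc, Matrix.mul_fin_two, Matrix.mul_fin_two]
        congr 1
        ext i j
        fin_cases i <;> fin_cases j <;> simp <;> ring
      apply e1 q hQ hq5 hcard M hK v hvM (-a) (-c) (-b) (by rw [hv, mk2_coe])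
        (by linear_combination habc)
      intro h
      apply hbq
      rw [hQ.neg] at h
      exact neg_inj.mp h
  · exact e1 q hQ hq5 hcard M hK u hu a b c huc habc hcq

/-- If all unipotent elements are rational then every trace has rational square. -/
theorem trace_sq_rat (q : ℕ) (hQ : QF F q) (M : Subgroup SL2)
    (hK : ∀ g : SL2, (∀ i j, ((g : M2) i j) ^ q = (g : M2) i j) → g ∈ M)
    (hU : ∀ u ∈ M, (u : M2).trace = 2 → ∀ i j, ((u : M2) i j) ^ q = (u : M2) i j)
    (g : SL2) (hg : g ∈ M) : ((g : M2).trace ^ 2) ^ q = (g : M2).trace ^ 2 := by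
  obtain ⟨a, b, c, d, hgc⟩ : ∃ a b c d : F, (g : M2) = !![a, b; c, d] :=
    ⟨_, _, _, _, Matrix.eta_fin_two _⟩
  have hdet : a * d - b * c = 1 := by
    have h := g.det_coe
    rw [hgc, Matrix.det_fin_two_of] at h
    exact h
  have hx : xe (1 : F) ∈ M := rat_mk2 q M hK 1 1 0 1 _ (one_pow q) (one_pow q) hQ.zero (one_pow q)
  have hy : ye (1 : F) ∈ M := rat_mk2 q M hK 1 0 1 1 _ (one_pow q) hQ.zero (one_pow q) (one_pow q)
  obtain ⟨vv, hvv⟩ : ∃ vv : SL2, vv = mk2 2 (-1) 1 0 (by ring) := ⟨_, rfl⟩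
  have hvvM : vv ∈ M := by
    rw [hvv]
    exact rat_mk2 q M hK _ _ _ _ _ hQ.ktwo (hQ.kneg (one_pow q)) (one_pow q) hQ.zero
  obtain ⟨v1, hv1⟩ : ∃ v1 : SL2, v1 = mk2 (1 - a * c) (a ^ 2) (-(c ^ 2)) (1 + a * c) (by ring) :=
    ⟨_, rfl⟩
  obtain ⟨v2, hv2⟩ : ∃ v2 : SL2, v2 = mk2 (1 + b * d) (-(b ^ 2)) (d ^ 2) (1 - b * d) (by ring) :=
    ⟨_, rfl⟩
  obtain ⟨v3, hv3⟩ : ∃ v3 : SL2, v3 = mk2 (1 + (a + b) * (c + d)) (-((a + b) ^ 2)) ((c + d) ^ 2)
      (1 - (a + b) * (c + d)) (by ring) := ⟨_, rfl⟩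
  have hv1M : v1 ∈ M := by
    apply mem_of_conj M g (xe 1) v1 hg hx
    rw [hv1, mk2_coe, xe_coe, hgc, Matrix.mul_fin_two, Matrix.mul_fin_two]
    congr 1
    ext i j
    fin_cases i <;> fin_cases j <;> simp <;>
      first | ring1 | linear_combination a * hdet | linear_combination (-a) * hdet |
        linear_combination c * hdet | linear_combination (-c) * hdet
  have hv2M : v2 ∈ M := by
    apply mem_of_conj M g (ye 1) v2 hg hy
    rw [hv2, mk2_coe, ye_coe, hgc, Matrix.mul_fin_two, Matrix.mul_fin_two]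
    congr 1
    ext i j
    fin_cases i <;> fin_cases j <;> simp <;>
      first | ring1 | linear_combination b * hdet | linear_combination (-b) * hdet |
        linear_combination d * hdet | linear_combination (-d) * hdet
  have hv3M : v3 ∈ M := by
    apply mem_of_conj M g vv v3 hg hvvM
    rw [hv3, hvv, mk2_coe, mk2_coe, hgc, Matrix.mul_fin_two, Matrix.mul_fin_two]
    congr 1
    ext i j
    fin_cases i <;> fin_cases j <;> simp <;>
      first | ring1 | linear_combination (a + b) * hdet | linear_combination (-(a + b)) * hdet |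
        linear_combination (c + d) * hdet | linear_combination (-(c + d)) * hdet
  have ht1 : (v1 : M2).trace = 2 := by
    rw [hv1, mk2_coe, Matrix.trace_fin_two_of]
    ring
  have ht2 : (v2 : M2).trace = 2 := by
    rw [hv2, mk2_coe, Matrix.trace_fin_two_of]
    ring
  have ht3 : (v3 : M2).trace = 2 := by
    rw [hv3, mk2_coe, Matrix.trace_fin_two_of]
    ring
  have ha2 : (a ^ 2) ^ q = a ^ 2 := by
    have h := hU v1 hv1M ht1 0 1
    rw [hv1, mk2_01] at h
    exact h
  have hac : (a * c) ^ q = a * c := by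
    have h := hU v1 hv1M ht1 0 0
    rw [hv1, mk2_00, hQ.sub, one_pow] at h
    exact sub_right_injective h
  have hd2 : (d ^ 2) ^ q = d ^ 2 := by
    have h := hU v2 hv2M ht2 1 0
    rw [hv2, mk2_10] at h
    exact h
  have hbd : (b * d) ^ q = b * d := by
    have h := hU v2 hv2M ht2 0 0
    rw [hv2, mk2_00, hQ.add, one_pow] at h
    exact add_right_injective _ h
  have h3 : ((a + b) * (c + d)) ^ q = (a + b) * (c + d) := by
    have h := hU v3 hv3M ht3 0 0
    rw [hv3, mk2_00, hQ.add, one_pow] at h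
    exact add_right_injective _ h
  rw [hgc, Matrix.trace_fin_two_of]
  have e : (a + d) ^ 2 = a ^ 2 + ((a + b) * (c + d) - a * c - b * d + 1) + d ^ 2 := by
    linear_combination hdet
  rw [e]
  exact hQ.kadd (hQ.kadd ha2 (hQ.kadd (hQ.ksub (hQ.ksub h3 hac) hbd) (one_pow q))) hd2

/-- the trace of an element of order five. -/
theorem trace_of_order_five (b : SL2) (hb5 : b ^ 5 = 1) (hb1 : b ≠ 1) :
    (b : M2).trace ^ 2 + (b : M2).trace - 1 = 0 := by
  obtain ⟨τ, hτdef⟩ : ∃ τ : F, τ = (b : M2).trace := ⟨_, rfl⟩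
  rw [← hτdef]
  by_contra hne
  have hB : (b : M2) * (b : M2) = τ • (b : M2) - 1 := by
    rw [← pow_two, hτdef]
    exact sq_eq b
  obtain ⟨h5', -⟩ := Cfsg.Agent.S0804.pow_formula _ _ hB
  have hB5 : (b : M2) ^ 5 = 1 := by
    rw [← Matrix.SpecialLinearGroup.coe_pow, hb5]
    rfl
  rw [hB5] at h5'
  have e00 := congrFun (congrFun h5' 0) 0
  have e01 := congrFun (congrFun h5' 0) 1
  have e10 := congrFun (congrFun h5' 1) 0
  have e11 := congrFun (congrFun h5' 1) 1
  simp only [Matrix.sub_apply, Matrix.smul_apply, Matrix.one_apply_eq, smul_eq_mul, mul_one,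
    Matrix.one_apply_ne (show (0 : Fin 2) ≠ 1 by decide),
    Matrix.one_apply_ne (show (1 : Fin 2) ≠ 0 by decide), mul_zero, sub_zero] at e00 e01 e10 e11
  by_cases hp5 : τ ^ 4 - 3 * τ ^ 2 + 1 = 0
  · rw [hp5, zero_mul, zero_sub] at e00
    have e1 : (τ ^ 2 + τ - 1) * (τ ^ 2 - τ - 1) = 0 := by linear_combination hp5
    have e2 : (τ ^ 2 + τ - 1) * (τ - 1) = 0 := by linear_combination e00
    rcases mul_eq_zero.mp e1 with h | h
    · exact hne h
    · rcases mul_eq_zero.mp e2 with h' | h'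
      · exact hne h'
      · have : (1 : F) = 0 := by linear_combination -h + (τ) * h'
        exact one_ne_zero this
  · have h10 : (b : M2) 1 0 = 0 := by
      rcases mul_eq_zero.mp e10.symm with h | h
      · exact absurd h hp5
      · exact h
    have h01 : (b : M2) 0 1 = 0 := by
      rcases mul_eq_zero.mp e01.symm with h | h
      · exact absurd h hp5
      · exact h
    have h00 : (b : M2) 0 0 = (b : M2) 1 1 := by
      have : (τ ^ 4 - 3 * τ ^ 2 + 1) * ((b : M2) 0 0 - (b : M2) 1 1) = 0 := by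
        linear_combination e11 - e00
      rcases mul_eq_zero.mp this with h | h
      · exact absurd h hp5
      · exact sub_eq_zero.mp h
    have hns : ¬ NS (b : M2) := by
      unfold NS
      push Not
      exact ⟨h10, h01, h00⟩
    rcases scalar_of_not_NS b hns with h | h
    · exact hb1 h
    · rw [h, Cfsg.Agent.S0804.negOne_pow_five] at hb5
      exact hb1 (h.trans hb5)

end Cfsg.Agent.Helper14.SubC
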