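import Mathlib
import Cfsg.Agent.Helper14.SubC

set_option autoImplicit false

namespace Cfsg.Agent.Helper14.SubD

open Cfsg.Agent.Helper14.SubA Cfsg.Agent.Helper14.SubB Cfsg.Agent.Helper14.SubC

variable {F : Type*} [Field F]

local notation "SL2" => Matrix.SpecialLinearGroup (Fin 2) F
local notation "M2" => Matrix (Fin 2) (Fin 2) F

theorem natcast_of_pow (p : ℕ) [Fact p.Prime] [CharP F p] (x : F) (hx : x ^ p = x) :
    ∃ n : ℕ, (n : F) = x := by
  have hbot : x ∈ (⊥ : Subfield F) := (Subfield.mem_bot_iff_pow_eq_self F p).mpr hx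
  obtain ⟨n, hn⟩ := (mem_bot_iff_intCast p F).mp hbot
  have hp0 : (0 : ℤ) < p := by exact_mod_cast (Fact.out : p.Prime).pos
  refine ⟨(n % p).toNat, ?_⟩
  have h1 : (((n % p).toNat : ℤ) : F) = ((n % p : ℤ) : F) := by
    rw [Int.toNat_of_nonneg (Int.emod_nonneg n hp0.ne')]
  have h2 : ((n % p : ℤ) : F) = (n : F) := by
    have h3 : (p : ℤ) * (n / p) + n % p = n := Int.mul_ediv_add_emod n p
    have h4 := congrArg (Int.cast : ℤ → F) h3
    rw [Int.cast_add, Int.cast_mul, Int.cast_natCast, CharP.cast_eq_zero F p, zero_mul,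
      zero_add] at h4
    exact h4
  rw [← hn, ← h2, ← h1, Int.cast_natCast]

theorem xe_add (a b : F) : xe a * xe b = xe (a + b) := by
  apply mul_eq
  rw [xe_coe, xe_coe, xe_coe, Matrix.mul_fin_two]
  congr 1
  ext i j
  fin_cases i <;> fin_cases j <;> simp
  ring

theorem xe_zero : xe (0 : F) = 1 := by
  apply Subtype.ext
  rw [xe_coe, Matrix.SpecialLinearGroup.coe_one, Matrix.one_fin_two]

theorem xe_nat (n : ℕ) : xe ((n : ℕ) : F) = xe (1 : F) ^ n := by
  induction n with
  | zero => rw [Nat.cast_zero, xe_zero, pow_zero]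
  | succ k ih => rw [Nat.cast_succ, ← xe_add, ih, pow_succ]

theorem ye_nat (n : ℕ) : ye ((n : ℕ) : F) = ye (1 : F) ^ n := by
  induction n with
  | zero => rw [Nat.cast_zero, ye_zero, pow_zero]
  | succ k ih => rw [Nat.cast_succ, ← ye_add, ih, pow_succ]

/-- a subgroup containing the two standard transvections contains all rational matrices. -/
theorem rat_mem_of_std (p : ℕ) [Fact p.Prime] [CharP F p] (hodd : Odd p) (M : Subgroup SL2)
    (hx : xe (1 : F) ∈ M) (hy : ye (1 : F) ∈ M) (g : SL2)
    (hg : ∀ i j, ((g : M2) i j) ^ p = (g : M2) i j) : g ∈ M := by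
  have hxall : ∀ t : F, t ^ p = t → xe t ∈ M := by
    intro t ht
    obtain ⟨n, hn⟩ := natcast_of_pow p t ht
    rw [← hn, xe_nat]
    exact M.pow_mem hx n
  have hyall : ∀ t : F, t ^ p = t → ye t ∈ M := by
    intro t ht
    obtain ⟨n, hn⟩ := natcast_of_pow p t ht
    rw [← hn, ye_nat]
    exact M.pow_mem hy n
  have key : ∀ g : SL2, (∀ i j, ((g : M2) i j) ^ p = (g : M2) i j) → (g : M2) 1 0 ≠ 0 → g ∈ M := by
    intro g hg hc
    obtain ⟨a, b, c, d, hgc⟩ : ∃ a b c d : F, (g : M2) = !![a, b; c, d] :=
      ⟨_, _, _, _, Matrix.eta_fin_two _⟩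
    have hdet : a * d - b * c = 1 := by
      have h := g.det_coe
      rw [hgc, Matrix.det_fin_two_of] at h
      exact h
    have ha : a ^ p = a := by
      have := hg 0 0
      rw [hgc] at this
      simpa using this
    have hcc : c ^ p = c := by
      have := hg 1 0
      rw [hgc] at this
      simpa using this
    have hd : d ^ p = d := by
      have := hg 1 1
      rw [hgc] at this
      simpa using this
    have hc0 : c ≠ 0 := by
      rw [hgc] at hc
      simpa using hc
    have e : g = xe ((a - 1) / c) * ye c * xe ((d - 1) / c) := by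
      symm
      apply mul_eq
      rw [Matrix.SpecialLinearGroup.coe_mul, xe_coe, ye_coe, xe_coe, hgc, Matrix.mul_fin_two,
        Matrix.mul_fin_two]
      congr 1
      ext i j
      fin_cases i <;> fin_cases j <;> simp <;> field_simp <;>
        first | ring1 | linear_combination hdet | linear_combination -hdet
    rw [e]
    have h1 : (1 : F) ^ p = 1 := one_pow p
    have hsub : ∀ t : F, t ^ p = t → ((t - 1) / c) ^ p = (t - 1) / c := by
      intro t ht
      rw [div_pow, hcc, sub_eq_add_neg, add_pow_char, ht, hodd.neg_pow, one_pow]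
    exact M.mul_mem (M.mul_mem (hxall _ (hsub a ha)) (hyall c hcc)) (hxall _ (hsub d hd))
  by_cases hc : (g : M2) 1 0 = 0
  · obtain ⟨w, hw⟩ : ∃ w : SL2, w = mk2 0 1 (-1) 0 (by ring) := ⟨_, rfl⟩
    have hwM : w ∈ M := by
      have e : xe (1 : F) * (ye (1 : F))⁻¹ * xe (1 : F) = w := by
        rw [ye_neg]
        apply mul_eq
        rw [Matrix.SpecialLinearGroup.coe_mul, xe_coe, ye_coe, hw, mk2_coe, Matrix.mul_fin_two,
          Matrix.mul_fin_two]
        congr 1
        ext i j
        fin_cases i <;> fin_cases j <;> simp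
      rw [← e]
      exact M.mul_mem (M.mul_mem hx (M.inv_mem hy)) hx
    obtain ⟨a, b, c, d, hgc⟩ : ∃ a b c d : F, (g : M2) = !![a, b; c, d] :=
      ⟨_, _, _, _, Matrix.eta_fin_two _⟩
    have hdet : a * d - b * c = 1 := by
      have h := g.det_coe
      rw [hgc, Matrix.det_fin_two_of] at h
      exact h
    have hc0 : c = 0 := by
      rw [hgc] at hc
      simpa using hc
    have ha0 : a ≠ 0 := by
      intro h
      rw [h, hc0] at hdet
      simp at hdet
    have hwg : w * g ∈ M := by
      apply key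
      · intro i j
        rw [Matrix.SpecialLinearGroup.coe_mul, hw, mk2_coe, hgc, Matrix.mul_fin_two]
        have h00 := hg 0 0
        have h01 := hg 0 1
        have h10 := hg 1 0
        have h11 := hg 1 1
        rw [hgc] at h00 h01 h10 h11
        simp at h00 h01 h10 h11
        fin_cases i <;> fin_cases j <;> simp [hodd.neg_pow, h00, h01, h10, h11]
      · rw [Matrix.SpecialLinearGroup.coe_mul, hw, mk2_coe, hgc, Matrix.mul_fin_two]
        simpa using ha0
    have e : g = w⁻¹ * (w * g) := by group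
    rw [e]
    exact M.mul_mem (M.inv_mem hwM) hwg
  · exact key g hg hc

end Cfsg.Agent.Helper14.SubD
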