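import Mathlib
import Cfsg.Agent.Helper14.SLc
import Cfsg.Agent.Helper14.SubD

set_option autoImplicit false

namespace Cfsg.Agent.Helper14.SubJ

open Cfsg.Agent.Helper14.Mat2 Cfsg.Agent.Helper14.SL2Odd Cfsg.Agent.Helper14.PSL2
  Cfsg.Agent.Helper14.SL2Conj Cfsg.Agent.Helper14.Torus Cfsg.Agent.Helper14.TorusB
  Cfsg.Agent.Helper14.TorusC Cfsg.Agent.Helper14.TorusD Cfsg.Agent.Helper14.TorusE
  Cfsg.Agent.Helper14.SL2T Cfsg.Agent.Helper14.SubA Cfsg.Agent.Helper14.SubD
  Cfsg.Agent.Helper14.CE2 Cfsg.Agent.Helper14.SLc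

variable {F : Type*} [Field F]

local notation "SL2" => Matrix.SpecialLinearGroup (Fin 2) F
local notation "M2" => Matrix (Fin 2) (Fin 2) F

theorem comm_xe_one (k : SL2) (h : k * xe 1 = xe 1 * k) :
    (k : M2) 1 0 = 0 ∧ (k : M2) 0 0 = (k : M2) 1 1 := by
  obtain ⟨a, b, c, d, hk⟩ : ∃ a b c d : F, (k : M2) = !![a, b; c, d] :=
    ⟨_, _, _, _, Matrix.eta_fin_two _⟩
  have e := congrArg Subtype.val h
  rw [Matrix.SpecialLinearGroup.coe_mul, Matrix.SpecialLinearGroup.coe_mul, hk, xe_coe,
    Matrix.mul_fin_two, Matrix.mul_fin_two] at e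
  have e00 := congrFun (congrFun e 0) 0
  have e01 := congrFun (congrFun e 0) 1
  simp at e00 e01
  rw [hk]
  simp only [Matrix.of_apply, Matrix.cons_val_zero, Matrix.cons_val_one, Matrix.cons_val']
  constructor
  · simpa using e00
  · linear_combination e01

theorem upper_form (k : SL2) (h10 : (k : M2) 1 0 = 0) (hd : (k : M2) 0 0 = (k : M2) 1 1) :
    k = xe ((k : M2) 0 1) ∨ k = negOne * xe (-(k : M2) 0 1) := by
  obtain ⟨a, b, c, d, hk⟩ : ∃ a b c d : F, (k : M2) = !![a, b; c, d] :=
    ⟨_, _, _, _, Matrix.eta_fin_two _⟩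
  have hdet := k.det_coe
  rw [hk, Matrix.det_fin_two_of] at hdet
  rw [hk] at h10 hd
  simp only [Matrix.of_apply, Matrix.cons_val_zero, Matrix.cons_val_one, Matrix.cons_val'] at h10 hd
  have hb : (k : M2) 0 1 = b := by rw [hk]; simp
  rw [hb]
  subst h10
  subst hd
  have ha : (a - 1) * (a + 1) = 0 := by linear_combination hdet
  rcases mul_eq_zero.mp ha with h | h
  · left
    have ha1 : a = 1 := by linear_combination h
    apply Subtype.ext
    rw [hk, xe_coe, ha1]
  · right
    have ha1 : a = -1 := by linear_combination h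
    apply Subtype.ext
    rw [Matrix.SpecialLinearGroup.coe_mul, hk, xe_coe, coe_negOne, ha1, Matrix.mul_fin_two]
    congr 1
    ext i j
    fin_cases i <;> fin_cases j <;> simp

theorem conj_xe_one (n : SL2) :
    n * xe 1 * n⁻¹ = mk2 (1 - (n : M2) 0 0 * (n : M2) 1 0) ((n : M2) 0 0 ^ 2)
      (-(n : M2) 1 0 ^ 2) (1 + (n : M2) 0 0 * (n : M2) 1 0) (by ring) := by
  apply conj_eq
  obtain ⟨a, b, c, d, hk⟩ : ∃ a b c d : F, (n : M2) = !![a, b; c, d] :=
    ⟨_, _, _, _, Matrix.eta_fin_two _⟩
  have hdet := n.det_coe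
  rw [hk, Matrix.det_fin_two_of] at hdet
  rw [mk2_coe, xe_coe, hk, Matrix.mul_fin_two, Matrix.mul_fin_two]
  congr 1
  ext i j
  fin_cases i <;> fin_cases j <;> simp <;>
    first | ring1 | linear_combination (-a) * hdet | linear_combination a * hdet |
      linear_combination c * hdet | linear_combination (-c) * hdet

theorem conj_xe_comm (n : SL2) :
    (n * xe 1 * n⁻¹) * xe 1 = xe 1 * (n * xe 1 * n⁻¹) ↔ (n : M2) 1 0 = 0 := by
  rw [conj_xe_one]
  constructor
  · intro h
    have := (comm_xe_one _ h).1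
    rw [mk2_coe] at this
    simp at this
    exact this
  · intro h
    apply Subtype.ext
    rw [Matrix.SpecialLinearGroup.coe_mul, Matrix.SpecialLinearGroup.coe_mul, mk2_coe, xe_coe, h,
      Matrix.mul_fin_two, Matrix.mul_fin_two]
    congr 1
    ext i j
    fin_cases i <;> fin_cases j <;> simp <;> ring

theorem negOne_xe_coe (v : F) : ((negOne * xe v : SL2) : M2) = !![-1, -v; 0, -1] := by
  rw [Matrix.SpecialLinearGroup.coe_mul, coe_negOne, xe_coe, Matrix.mul_fin_two]
  congr 1
  ext i j
  fin_cases i <;> fin_cases j <;> simp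

theorem card_cent_x1 [Fintype F] (hodd : Odd (Fintype.card F)) (M : Subgroup SL2)
    (hneg : negOne ∈ M) (h1 : xe 1 ∈ M) :
    Nat.card (Subgroup.centralizer {(⟨xe 1, h1⟩ : M)}) = 2 * Nat.card {v : F // xe v ∈ M} := by
  classical
  have h2 := two_ne_zero_of_odd hodd
  have hm : ∀ (b : Bool) (v : {v : F // xe v ∈ M}),
      (if b then negOne else 1) * xe (v : F) ∈ M := by
    intro b v
    apply M.mul_mem _ v.2
    split_ifs
    · exact hneg
    · exact M.one_mem
  have hcomm : ∀ (b : Bool) (v : F),
      (if b then negOne else 1) * xe v * xe 1 = xe 1 * ((if b then negOne else 1) * xe v) := by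
    intro b v
    cases b
    · simp only [Bool.false_eq_true, if_false, one_mul]
      rw [xe_add, xe_add, add_comm]
    · simp only [if_true]
      rw [mul_assoc, xe_add, ← mul_assoc, ← negOne_comm, mul_assoc, xe_add, add_comm]
  let f : Bool × {v : F // xe v ∈ M} → Subgroup.centralizer {(⟨xe 1, h1⟩ : M)} := fun bv =>
    ⟨⟨(if bv.1 then negOne else 1) * xe (bv.2 : F), hm bv.1 bv.2⟩, by
      rw [Subgroup.mem_centralizer_singleton_iff]
      apply Subtype.ext
      exact hcomm bv.1 bv.2⟩
  have hinj : Function.Injective f := by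
    rintro ⟨b, v⟩ ⟨b', v'⟩ h
    have e : (if b then negOne else 1) * xe (v : F) = (if b' then negOne else 1) * xe (v' : F) :=
      congrArg (fun c : Subgroup.centralizer {(⟨xe 1, h1⟩ : M)} => ((c : M) : SL2)) h
    have e00 := congrArg (fun m : SL2 => (m : M2) 0 0) e
    have e01 := congrArg (fun m : SL2 => (m : M2) 0 1) e
    cases b <;> cases b'
    · simp only [Bool.false_eq_true, if_false, one_mul, xe_coe] at e01
      simp at e01
      congr 1
      exact Subtype.ext e01
    · exfalso
      simp only [Bool.false_eq_true, if_false, if_true, one_mul, xe_coe, negOne_xe_coe] at e00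
      simp at e00
      apply h2
      linear_combination e00
    · exfalso
      simp only [Bool.false_eq_true, if_false, if_true, one_mul, xe_coe, negOne_xe_coe] at e00
      simp at e00
      apply h2
      linear_combination -e00
    · simp only [if_true, negOne_xe_coe] at e01
      simp at e01
      congr 1
      exact Subtype.ext e01
  have hsurj : Function.Surjective f := by
    intro c
    have hc := c.2
    rw [Subgroup.mem_centralizer_singleton_iff] at hc
    have hc' : ((c : M) : SL2) * xe 1 = xe 1 * ((c : M) : SL2) := congrArg Subtype.val hc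
    obtain ⟨h10, hd⟩ := comm_xe_one _ hc'
    rcases upper_form _ h10 hd with h | h
    · refine ⟨(false, ⟨(((c : M) : SL2) : M2) 0 1, ?_⟩), ?_⟩
      · rw [← h]
        exact (c : M).2
      · apply Subtype.ext
        apply Subtype.ext
        show (if false = true then negOne else 1) * xe ((((c : M) : SL2) : M2) 0 1) = ((c : M) : SL2)
        simp only [Bool.false_eq_true, if_false, one_mul]
        exact h.symm
    · refine ⟨(true, ⟨-(((c : M) : SL2) : M2) 0 1, ?_⟩), ?_⟩
      · have : xe (-(((c : M) : SL2) : M2) 0 1) = negOne * ((c : M) : SL2) := by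
          nth_rewrite 2 [h]
          rw [← mul_assoc, negOne_mul_self, one_mul]
        rw [this]
        exact M.mul_mem hneg (c : M).2
      · apply Subtype.ext
        apply Subtype.ext
        show (if true = true then negOne else 1) * xe (-(((c : M) : SL2) : M2) 0 1) = ((c : M) : SL2)
        simp only [if_true]
        exact h.symm
  rw [← Nat.card_congr (Equiv.ofBijective f ⟨hinj, hsurj⟩), Nat.card_prod,
    Nat.card_eq_fintype_card (α := Bool), Fintype.card_bool]

theorem card_norm_x1 [Fintype F] (hodd : Odd (Fintype.card F)) (M : Subgroup SL2)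
    (hneg : negOne ∈ M) (h1 : xe 1 ∈ M)
    (hg : Good (⟨negOne, hneg⟩ : M) (⟨xe 1, h1⟩ : M)) :
    Nat.card (Subgroup.normalizer
      ((Subgroup.centralizer {(⟨xe 1, h1⟩ : M)} : Subgroup M) : Set M)) =
      Nat.card {n : M // ((n : SL2) : M2) 1 0 = 0} := by
  apply Nat.card_congr
  apply Equiv.subtypeEquivRight
  intro n
  rw [mem_norm_iff (hyp1_of hodd M hneg) hg n]
  rw [← conj_xe_comm]
  constructor
  · intro h
    exact congrArg Subtype.val h.eq
  · intro h
    exact Subtype.ext h

end Cfsg.Agent.Helper14.SubJ
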