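import Mathlib
import Cfsg.Agent.Helper14.SubJ

set_option autoImplicit false

namespace Cfsg.Agent.Helper14.SubK

open Cfsg.Agent.Helper14.Mat2 Cfsg.Agent.Helper14.SL2Odd Cfsg.Agent.Helper14.PSL2
  Cfsg.Agent.Helper14.SL2Conj Cfsg.Agent.Helper14.Torus Cfsg.Agent.Helper14.TorusB
  Cfsg.Agent.Helper14.TorusC Cfsg.Agent.Helper14.TorusD Cfsg.Agent.Helper14.TorusE
  Cfsg.Agent.Helper14.SL2T Cfsg.Agent.Helper14.SubA Cfsg.Agent.Helper14.SubD
  Cfsg.Agent.Helper14.CE2 Cfsg.Agent.Helper14.SLc Cfsg.Agent.Helper14.SubJ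

variable {F : Type*} [Field F] {K : Type*} [Field K]

local notation "SL2" => Matrix.SpecialLinearGroup (Fin 2) F
local notation "M2" => Matrix (Fin 2) (Fin 2) F

theorem rat_mk2 (ι : K →+* F) (M : Subgroup SL2)
    (hM : ∀ g : SL2, (∀ i j, (g : M2) i j ∈ Set.range ι) → g ∈ M)
    (a b c d : K) (h : ι a * ι d - ι b * ι c = 1) : mk2 (ι a) (ι b) (ι c) (ι d) h ∈ M := by
  apply hM
  intro i j
  rw [mk2_coe]
  fin_cases i <;> fin_cases j <;> simp

theorem V_add (M : Subgroup SL2) {u v : F} (hu : xe u ∈ M) (hv : xe v ∈ M) : xe (u + v) ∈ M := by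
  rw [← xe_add]
  exact M.mul_mem hu hv

theorem xe_inv (v : F) : (xe v)⁻¹ = xe (-v) := by
  rw [inv_eq_iff_mul_eq_one, xe_add, add_neg_cancel, xe_zero]

theorem V_neg (M : Subgroup SL2) {v : F} (hv : xe v ∈ M) : xe (-v) ∈ M := by
  rw [← xe_inv]
  exact M.inv_mem hv

theorem V_conj_upper (M : Subgroup SL2) (b : SL2) (hb : b ∈ M) (h10 : (b : M2) 1 0 = 0)
    {v : F} (hv : xe v ∈ M) : xe ((b : M2) 0 0 ^ 2 * v) ∈ M := by
  apply mem_of_conj M b (xe v) _ hb hv
  obtain ⟨l, β, c, d, hk⟩ : ∃ a b' c d : F, (b : M2) = !![a, b'; c, d] :=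
    ⟨_, _, _, _, Matrix.eta_fin_two _⟩
  have hdet := b.det_coe
  rw [hk, Matrix.det_fin_two_of] at hdet
  rw [hk] at h10
  simp only [Matrix.of_apply, Matrix.cons_val_zero, Matrix.cons_val_one, Matrix.cons_val'] at h10
  subst h10
  have h00 : (b : M2) 0 0 = l := by rw [hk]; simp
  rw [h00, xe_coe, xe_coe, hk, Matrix.mul_fin_two, Matrix.mul_fin_two]
  congr 1
  ext i j
  fin_cases i <;> fin_cases j <;> simp <;> linear_combination (-(l * v)) * hdet

theorem V_smul_rat (ι : K →+* F) (h2K : (2 : K) ≠ 0) (M : Subgroup SL2)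
    (hM : ∀ g : SL2, (∀ i j, (g : M2) i j ∈ Set.range ι) → g ∈ M)
    (k : K) {v : F} (hv : xe v ∈ M) : xe (ι k * v) ∈ M := by
  have hsq : ∀ s : K, xe (ι s ^ 2 * v) ∈ M := by
    intro s
    by_cases hs : s = 0
    · rw [hs, map_zero]
      have : (0 : F) ^ 2 * v = 0 := by ring
      rw [this, xe_zero]
      exact M.one_mem
    · have hd : ι s * ι s⁻¹ - ι 0 * ι 0 = 1 := by
        rw [← map_mul, mul_inv_cancel₀ hs, map_one, map_zero]
        ring
      have hmem := rat_mk2 ι M hM s 0 0 s⁻¹ hd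
      have := V_conj_upper M _ hmem (by rw [mk2_coe]; simp) hv
      rw [mk2_coe] at this
      simpa using this
  have e : ι k * v = ι ((k + 1) / 2) ^ 2 * v + -(ι ((k - 1) / 2) ^ 2 * v) := by
    have : k = ((k + 1) / 2) ^ 2 - ((k - 1) / 2) ^ 2 := by
      field_simp
      ring
    nth_rewrite 1 [this]
    rw [map_sub, map_pow, map_pow]
    ring
  rw [e]
  exact V_add M (hsq _) (V_neg M (hsq _))

theorem diag_rational [Fintype F] [Fintype K] (ι : K →+* F) (r : ℕ) (hr : r.Prime)
    (hr2 : r ≠ 2) (hcard : Fintype.card F = Fintype.card K ^ r) (h2K : (2 : K) ≠ 0)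
    (M : Subgroup SL2) (hM : ∀ g : SL2, (∀ i j, (g : M2) i j ∈ Set.range ι) → g ∈ M)
    (hV : ¬ ∀ v : F, xe v ∈ M) (b : SL2) (hb : b ∈ M) (h10 : (b : M2) 1 0 = 0) :
    (b : M2) 0 0 ∈ Set.range ι := by
  classical
  letI : Algebra K F := ι.toAlgebra
  have halg : ∀ k : K, algebraMap K F k = ι k := fun k => rfl
  have hK1 : 1 < Fintype.card K := Fintype.one_lt_card
  have hfin : Module.finrank K F = r := by
    have h1 := Module.card_eq_pow_finrank (K := K) (V := F)
    rw [hcard] at h1
    exact (Nat.pow_right_injective hK1 h1).symm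
  have hint : ∀ x : F, IsIntegral K x := fun x => IsIntegral.of_finite K x
  have hdich : ∀ x : F, x ∈ Set.range ι ∨ IntermediateField.adjoin K {x} = ⊤ := by
    intro x
    have hmul := Module.finrank_mul_finrank K (IntermediateField.adjoin K {x}) F
    rw [hfin] at hmul
    have hd : Module.finrank K (IntermediateField.adjoin K {x}) ∣ r := ⟨_, hmul.symm⟩
    rcases (Nat.dvd_prime hr).mp hd with h | h
    · left
      have hbot := IntermediateField.finrank_eq_one_iff.mp h
      have hx : x ∈ IntermediateField.adjoin K {x} := IntermediateField.mem_adjoin_simple_self K x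
      rw [hbot, IntermediateField.mem_bot] at hx
      exact hx
    · right
      apply IntermediateField.eq_of_le_of_finrank_eq le_top
      rw [IntermediateField.finrank_top', hfin, h]
  have h1M : xe (1 : F) ∈ M := by
    have hd : ι 1 * ι 1 - ι 1 * ι 0 = 1 := by simp
    have := rat_mk2 ι M hM 1 1 0 1 hd
    have e : mk2 (ι 1) (ι 1) (ι 0) (ι 1) hd = xe (1 : F) := by
      apply Subtype.ext
      rw [mk2_coe, xe_coe]
      simp
    rwa [e] at this
  let S : Subalgebra K F :=
    { carrier := {x | ∀ v : F, xe v ∈ M → xe (x * v) ∈ M}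
      mul_mem' := by
        intro x y hx hy v hv
        rw [mul_assoc]
        exact hx _ (hy v hv)
      one_mem' := by
        intro v hv
        rwa [one_mul]
      add_mem' := by
        intro x y hx hy v hv
        rw [add_mul]
        exact V_add M (hx v hv) (hy v hv)
      zero_mem' := by
        intro v _
        rw [zero_mul, xe_zero]
        exact M.one_mem
      algebraMap_mem' := by
        intro k v hv
        rw [halg]
        exact V_smul_rat ι h2K M hM k hv }
  have hμ : (b : M2) 0 0 ^ 2 ∈ S := fun v hv => V_conj_upper M b hb h10 hv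
  rcases hdich ((b : M2) 0 0 ^ 2) with ⟨k0, hk0⟩ | htop
  · rcases hdich ((b : M2) 0 0) with h | htop2
    · exact h
    · exfalso
      have h1 := IntermediateField.adjoin.finrank (hint ((b : M2) 0 0))
      rw [htop2, IntermediateField.finrank_top', hfin] at h1
      have hne : (Polynomial.X ^ 2 - Polynomial.C k0 : Polynomial K) ≠ 0 :=
        Polynomial.X_pow_sub_C_ne_zero (by norm_num) k0
      have hdvd : minpoly K ((b : M2) 0 0) ∣ Polynomial.X ^ 2 - Polynomial.C k0 := by
        apply minpoly.dvd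
        simp [halg, hk0]
      have hdeg := Polynomial.natDegree_le_of_dvd hdvd hne
      rw [Polynomial.natDegree_X_pow_sub_C] at hdeg
      have := hr.two_le
      omega
  · exfalso
    apply hV
    intro v
    have hv : v ∈ IntermediateField.adjoin K {(b : M2) 0 0 ^ 2} := by
      rw [htop]
      trivial
    have hsub := IntermediateField.adjoin_simple_toSubalgebra_of_isAlgebraic
      (IsAlgebraic.of_finite K ((b : M2) 0 0 ^ 2))
    have hle : Algebra.adjoin K {(b : M2) 0 0 ^ 2} ≤ S := by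
      apply Algebra.adjoin_le
      intro x hx
      rw [Set.mem_singleton_iff] at hx
      rw [hx]
      exact hμ
    have hvS : v ∈ S := by
      apply hle
      rw [← hsub]
      exact hv
    have := hvS 1 h1M
    rwa [mul_one] at this

end Cfsg.Agent.Helper14.SubK
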