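import Mathlib
import Cfsg.Agent.Helper14.SubK

set_option autoImplicit false

namespace Cfsg.Agent.Helper14.SubL

open Cfsg.Agent.Helper14.Mat2 Cfsg.Agent.Helper14.SL2Odd Cfsg.Agent.Helper14.PSL2
  Cfsg.Agent.Helper14.SL2Conj Cfsg.Agent.Helper14.Torus Cfsg.Agent.Helper14.TorusB
  Cfsg.Agent.Helper14.TorusC Cfsg.Agent.Helper14.TorusD Cfsg.Agent.Helper14.TorusE
  Cfsg.Agent.Helper14.SL2T Cfsg.Agent.Helper14.SubA Cfsg.Agent.Helper14.SubD
  Cfsg.Agent.Helper14.CE2 Cfsg.Agent.Helper14.SLc Cfsg.Agent.Helper14.SubJ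
  Cfsg.Agent.Helper14.SubK

section abs

variable {G : Type*} [Group G] [Fintype G]

theorem norm_card_eq {z : G} (H : Hyp1 z) {x : G} (hx : Good z x)
    (ha2 : ∀ g : G, Commute (g * x * g⁻¹) x → g * x * g⁻¹ = x ∨ g * x * g⁻¹ = x⁻¹)
    (n : G) (hn : Commute (n * x * n⁻¹) x) (hnc : ¬ Commute n x) :
    Nat.card (Subgroup.normalizer ((Subgroup.centralizer {x} : Subgroup G) : Set G)) =
      2 * Nat.card (Subgroup.centralizer {x}) := by
  have hle := norm_card_le H hx ha2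
  have hCN : Subgroup.centralizer {x} ≤
      Subgroup.normalizer ((Subgroup.centralizer {x} : Subgroup G) : Set G) :=
    Subgroup.le_normalizer
  have hdvd := Subgroup.card_dvd_of_le hCN
  have hne : Nat.card (Subgroup.centralizer {x}) ≠
      Nat.card (Subgroup.normalizer ((Subgroup.centralizer {x} : Subgroup G) : Set G)) := by
    intro he
    have := Subgroup.eq_of_le_of_card_ge hCN (le_of_eq he.symm)
    have hnN : n ∈ Subgroup.normalizer ((Subgroup.centralizer {x} : Subgroup G) : Set G) :=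
      (mem_norm_iff H hx n).mpr hn
    rw [← this, Subgroup.mem_centralizer_singleton_iff] at hnN
    exact hnc hnN
  obtain ⟨m, hm⟩ := hdvd
  have hpos : 0 < Nat.card (Subgroup.centralizer {x}) := Nat.card_pos
  have hposN : 0 < Nat.card (Subgroup.normalizer
      ((Subgroup.centralizer {x} : Subgroup G) : Set G)) := Nat.card_pos
  have hm2 : m = 2 := by
    have h1 : m ≠ 0 := by
      rintro rfl
      rw [mul_zero] at hm
      omega
    have h2 : m ≠ 1 := by
      rintro rfl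
      rw [mul_one] at hm
      exact hne hm.symm
    have h3 : m ≤ 2 := by
      by_contra hcon
      push Not at hcon
      have h4 : Nat.card (Subgroup.centralizer {x}) * 3 ≤
          Nat.card (Subgroup.centralizer {x}) * m := Nat.mul_le_mul_left _ hcon
      rw [hm] at hle
      omega
    omega
  rw [hm, hm2, mul_comm]

end abs

variable {F : Type*} [Field F] {K : Type*} [Field K]

local notation "SL2" => Matrix.SpecialLinearGroup (Fin 2) F
local notation "M2" => Matrix (Fin 2) (Fin 2) F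

/-- rational diagonal elements -/
def dg (ι : K →+* F) (u : Kˣ) : SL2 :=
  mk2 (ι u) (ι 0) (ι 0) (ι ↑u⁻¹) (by rw [← map_mul, Units.mul_inv, map_one, map_zero]; ring)

theorem dg_coe (ι : K →+* F) (u : Kˣ) : ((dg ι u : SL2) : M2) = !![ι u, 0; 0, ι ↑u⁻¹] := by
  rw [dg, mk2_coe, map_zero]

theorem dg_mem (ι : K →+* F) (M : Subgroup SL2)
    (hM : ∀ g : SL2, (∀ i j, (g : M2) i j ∈ Set.range ι) → g ∈ M) (u : Kˣ) : dg ι u ∈ M :=
  rat_mk2 ι M hM _ _ _ _ _

theorem dg_xe_coe (ι : K →+* F) (u : Kˣ) (v : F) :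
    ((dg ι u * xe v : SL2) : M2) = !![ι u, ι u * v; 0, ι ↑u⁻¹] := by
  rw [Matrix.SpecialLinearGroup.coe_mul, dg_coe, xe_coe, Matrix.mul_fin_two]
  congr 1
  ext i j
  fin_cases i <;> fin_cases j <;> simp

theorem upper_eq (ι : K →+* F) (n : SL2) (h10 : (n : M2) 1 0 = 0) (k : K)
    (hk : ι k = (n : M2) 0 0) :
    ∃ hk0 : k ≠ 0, dg ι (Units.mk0 k hk0) * xe ((ι k)⁻¹ * (n : M2) 0 1) = n := by
  obtain ⟨a, b, c, d, hn⟩ : ∃ a b c d : F, (n : M2) = !![a, b; c, d] :=
    ⟨_, _, _, _, Matrix.eta_fin_two _⟩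
  have hdet := n.det_coe
  rw [hn, Matrix.det_fin_two_of] at hdet
  rw [hn] at h10 hk
  simp only [Matrix.of_apply, Matrix.cons_val_zero, Matrix.cons_val_one, Matrix.cons_val'] at h10 hk
  subst h10
  have had : a * d = 1 := by linear_combination hdet
  have ha0 : a ≠ 0 := left_ne_zero_of_mul_eq_one had
  have hk0 : k ≠ 0 := by
    rintro rfl
    rw [map_zero] at hk
    exact ha0 hk.symm
  refine ⟨hk0, ?_⟩
  apply Subtype.ext
  rw [dg_xe_coe, hn]
  have h01 : (!![a, b; 0, d] : M2) 0 1 = b := by simp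
  rw [h01, hk, Units.val_inv_eq_inv_val, Units.val_mk0, map_inv₀, hk,
    mul_inv_cancel_left₀ ha0]
  have hd : a⁻¹ = d := by
    rw [inv_eq_iff_eq_inv]
    exact eq_inv_of_mul_eq_one_left had
  rw [hd]

theorem card_borel [Fintype K] (ι : K →+* F) (M : Subgroup SL2) [Finite M]
    (hM : ∀ g : SL2, (∀ i j, (g : M2) i j ∈ Set.range ι) → g ∈ M)
    (hΛ : ∀ b ∈ M, (b : M2) 1 0 = 0 → (b : M2) 0 0 ∈ Set.range ι) :
    Nat.card {n : M // ((n : SL2) : M2) 1 0 = 0} =
      (Fintype.card K - 1) * Nat.card {v : F // xe v ∈ M} := by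
  classical
  let f : Kˣ × {v : F // xe v ∈ M} → {n : M // ((n : SL2) : M2) 1 0 = 0} := fun uv =>
    ⟨⟨dg ι uv.1 * xe (uv.2 : F), M.mul_mem (dg_mem ι M hM uv.1) uv.2.2⟩, by
      show ((dg ι uv.1 * xe (uv.2 : F) : SL2) : M2) 1 0 = 0
      rw [dg_xe_coe]
      simp⟩
  have hinj : Function.Injective f := by
    rintro ⟨u, v⟩ ⟨u', v'⟩ h
    have e : dg ι u * xe (v : F) = dg ι u' * xe (v' : F) :=
      congrArg (fun c : {n : M // ((n : SL2) : M2) 1 0 = 0} => ((c : M) : SL2)) h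
    have e00 := congrArg (fun m : SL2 => (m : M2) 0 0) e
    have e01 := congrArg (fun m : SL2 => (m : M2) 0 1) e
    simp only [dg_xe_coe] at e00 e01
    simp at e00 e01
    have hu : u = u' := Units.ext (ι.injective e00)
    subst hu
    have hu0 : ι (u : K) ≠ 0 := by
      rw [Ne, map_eq_zero]
      exact u.ne_zero
    have h1 := mul_left_cancel₀ hu0 e01
    congr 1
    exact Subtype.ext h1
  have hsurj : Function.Surjective f := by
    intro n
    obtain ⟨k, hk⟩ := hΛ (n : M) (n : M).2 n.2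
    obtain ⟨hk0, he⟩ := upper_eq ι ((n : M) : SL2) n.2 k hk
    refine ⟨(Units.mk0 k hk0, ⟨(ι k)⁻¹ * (((n : M) : SL2) : M2) 0 1, ?_⟩), ?_⟩
    · have : xe ((ι k)⁻¹ * (((n : M) : SL2) : M2) 0 1) =
          (dg ι (Units.mk0 k hk0))⁻¹ * ((n : M) : SL2) := by
        rw [eq_inv_mul_iff_mul_eq]
        exact he
      rw [this]
      exact M.mul_mem (M.inv_mem (dg_mem ι M hM _)) (n : M).2
    · apply Subtype.ext
      apply Subtype.ext
      exact he
  rw [← Nat.card_congr (Equiv.ofBijective f ⟨hinj, hsurj⟩), Nat.card_prod, Nat.card_units,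
    Nat.card_eq_fintype_card (α := K)]

end Cfsg.Agent.Helper14.SubL
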