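import Mathlib
import Cfsg.Agent.Helper14.SubL

set_option autoImplicit false

namespace Cfsg.Agent.Helper14.SubM

open Cfsg.Agent.Helper14.Mat2 Cfsg.Agent.Helper14.SL2Odd Cfsg.Agent.Helper14.PSL2
  Cfsg.Agent.Helper14.SL2Conj Cfsg.Agent.Helper14.Torus Cfsg.Agent.Helper14.TorusB
  Cfsg.Agent.Helper14.TorusC Cfsg.Agent.Helper14.TorusD Cfsg.Agent.Helper14.TorusE
  Cfsg.Agent.Helper14.SL2T Cfsg.Agent.Helper14.SubA Cfsg.Agent.Helper14.SubD
  Cfsg.Agent.Helper14.CE2 Cfsg.Agent.Helper14.SLc Cfsg.Agent.Helper14.SubJ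
  Cfsg.Agent.Helper14.SubK Cfsg.Agent.Helper14.SubL

variable {F : Type*} [Field F] {K : Type*} [Field K]

local notation "SL2" => Matrix.SpecialLinearGroup (Fin 2) F
local notation "M2" => Matrix (Fin 2) (Fin 2) F

theorem class1 [Fintype F] [Fintype K] (hodd : Odd (Fintype.card F)) (ι : K →+* F)
    (M : Subgroup SL2) [Fintype M]
    (hM : ∀ g : SL2, (∀ i j, (g : M2) i j ∈ Set.range ι) → g ∈ M)
    (hΛ : ∀ b ∈ M, (b : M2) 1 0 = 0 → (b : M2) 0 0 ∈ Set.range ι)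
    (hneg : negOne ∈ M) (h1 : xe 1 ∈ M) :
    Good (⟨negOne, hneg⟩ : M) (⟨xe 1, h1⟩ : M) ∧ chi (xe (1 : F)) = 0 ∧
      Fintype.card M * (2 * Nat.card {v : F // xe v ∈ M} - 2) =
        (cls (⟨negOne, hneg⟩ : M) (⟨xe 1, h1⟩ : M)).card *
          ((Fintype.card K - 1) * Nat.card {v : F // xe v ∈ M}) := by
  have hns : NS ((xe (1 : F) : SL2) : M2) := by
    unfold NS
    rw [xe_coe]
    simp
  have hg : Good (⟨negOne, hneg⟩ : M) (⟨xe 1, h1⟩ : M) := good_of_ns M hneg _ hns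
  refine ⟨hg, ?_, ?_⟩
  · unfold chi
    rw [xe_coe, Matrix.trace_fin_two_of]
    ring
  · have hdc := double_count (hyp1_of hodd M hneg) hg
    rw [card_cent_x1 hodd M hneg h1, card_norm_x1 hodd M hneg h1 hg, card_borel ι M hM hΛ] at hdc
    exact hdc

theorem dg_comm (ι : K →+* F) (u v : Kˣ) : dg ι u * dg ι v = dg ι v * dg ι u := by
  apply Subtype.ext
  rw [Matrix.SpecialLinearGroup.coe_mul, Matrix.SpecialLinearGroup.coe_mul, dg_coe, dg_coe,
    Matrix.mul_fin_two, Matrix.mul_fin_two]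
  congr 1
  ext i j
  fin_cases i <;> fin_cases j <;> simp <;> ring

theorem comm_dg (ι : K →+* F) (u0 : Kˣ) (hu0 : (u0 : K) ^ 2 ≠ 1) (c : SL2)
    (h : c * dg ι u0 = dg ι u0 * c) : (c : M2) 1 0 = 0 ∧ (c : M2) 0 1 = 0 := by
  obtain ⟨a, b, c', d, hc⟩ : ∃ a b c' d : F, (c : M2) = !![a, b; c', d] :=
    ⟨_, _, _, _, Matrix.eta_fin_two _⟩
  have e := congrArg Subtype.val h
  rw [Matrix.SpecialLinearGroup.coe_mul, Matrix.SpecialLinearGroup.coe_mul, hc, dg_coe,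
    Matrix.mul_fin_two, Matrix.mul_fin_two] at e
  have e01 := congrFun (congrFun e 0) 1
  have e10 := congrFun (congrFun e 1) 0
  simp at e01 e10
  have hinv : ι ((u0⁻¹ : Kˣ) : K) = (ι (u0 : K))⁻¹ := by
    rw [Units.val_inv_eq_inv_val, map_inv₀]
  have hne : ι (u0 : K) ≠ (ι (u0 : K))⁻¹ := by
    intro hh
    rw [← hinv] at hh
    have h1 := ι.injective hh
    apply hu0
    rw [pow_two]
    nth_rewrite 2 [h1]
    exact Units.mul_inv u0
  rw [hc]
  simp only [Matrix.of_apply, Matrix.cons_val_zero, Matrix.cons_val_one, Matrix.cons_val']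
  constructor
  · have : c' * (ι (u0 : K) - (ι (u0 : K))⁻¹) = 0 := by linear_combination e10
    rcases mul_eq_zero.mp this with h1 | h1
    · simpa using h1
    · exact absurd (sub_eq_zero.mp h1) hne
  · have : b * (ι (u0 : K) - (ι (u0 : K))⁻¹) = 0 := by linear_combination -e01
    rcases mul_eq_zero.mp this with h1 | h1
    · simpa using h1
    · exact absurd (sub_eq_zero.mp h1) hne

theorem card_cent_dg [Fintype K] (ι : K →+* F) (M : Subgroup SL2) [Finite M]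
    (hM : ∀ g : SL2, (∀ i j, (g : M2) i j ∈ Set.range ι) → g ∈ M)
    (hΛ : ∀ b ∈ M, (b : M2) 1 0 = 0 → (b : M2) 0 0 ∈ Set.range ι)
    (u0 : Kˣ) (hu0 : (u0 : K) ^ 2 ≠ 1) :
    Nat.card (Subgroup.centralizer {(⟨dg ι u0, dg_mem ι M hM u0⟩ : M)}) =
      Fintype.card K - 1 := by
  classical
  let f : Kˣ → Subgroup.centralizer {(⟨dg ι u0, dg_mem ι M hM u0⟩ : M)} := fun u =>
    ⟨⟨dg ι u, dg_mem ι M hM u⟩, by
      rw [Subgroup.mem_centralizer_singleton_iff]
      apply Subtype.ext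
      exact dg_comm ι u u0⟩
  have hinj : Function.Injective f := by
    intro u u' h
    have e : dg ι u = dg ι u' :=
      congrArg (fun c : Subgroup.centralizer {(⟨dg ι u0, dg_mem ι M hM u0⟩ : M)} =>
        ((c : M) : SL2)) h
    have e00 := congrArg (fun m : SL2 => (m : M2) 0 0) e
    simp only [dg_coe] at e00
    simp at e00
    exact Units.ext (ι.injective e00)
  have hsurj : Function.Surjective f := by
    intro c
    have hc := c.2
    rw [Subgroup.mem_centralizer_singleton_iff] at hc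
    have hc' : ((c : M) : SL2) * dg ι u0 = dg ι u0 * ((c : M) : SL2) := congrArg Subtype.val hc
    obtain ⟨h10, h01⟩ := comm_dg ι u0 hu0 _ hc'
    obtain ⟨k, hk⟩ := hΛ ((c : M) : SL2) (c : M).2 h10
    obtain ⟨hk0, he⟩ := upper_eq ι ((c : M) : SL2) h10 k hk
    rw [h01, mul_zero, xe_zero, mul_one] at he
    refine ⟨Units.mk0 k hk0, ?_⟩
    apply Subtype.ext
    apply Subtype.ext
    exact he
  rw [← Nat.card_congr (Equiv.ofBijective f ⟨hinj, hsurj⟩), Nat.card_units,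
    Nat.card_eq_fintype_card (α := K)]

/-- the Weyl element -/
def wel (ι : K →+* F) : SL2 := mk2 (ι 0) (ι 1) (ι (-1)) (ι 0) (by simp)

theorem wel_coe (ι : K →+* F) : ((wel ι : SL2) : M2) = !![0, 1; -1, 0] := by
  rw [wel, mk2_coe]
  simp

theorem wel_mem (ι : K →+* F) (M : Subgroup SL2)
    (hM : ∀ g : SL2, (∀ i j, (g : M2) i j ∈ Set.range ι) → g ∈ M) : wel ι ∈ M :=
  rat_mk2 ι M hM _ _ _ _ _

theorem class2 [Fintype F] [Fintype K] (hodd : Odd (Fintype.card F)) (ι : K →+* F)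
    (M : Subgroup SL2) [Fintype M]
    (hM : ∀ g : SL2, (∀ i j, (g : M2) i j ∈ Set.range ι) → g ∈ M)
    (hΛ : ∀ b ∈ M, (b : M2) 1 0 = 0 → (b : M2) 0 0 ∈ Set.range ι)
    (hneg : negOne ∈ M) (u0 : Kˣ) (hu0 : (u0 : K) ^ 2 ≠ 1) :
    Good (⟨negOne, hneg⟩ : M) (⟨dg ι u0, dg_mem ι M hM u0⟩ : M) ∧ chi (dg ι u0) ≠ 0 ∧
      IsSquare (chi (dg ι u0)) ∧
      Fintype.card M * (Fintype.card K - 1 - 2) =
        (cls (⟨negOne, hneg⟩ : M) (⟨dg ι u0, dg_mem ι M hM u0⟩ : M)).card *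
          (2 * (Fintype.card K - 1)) := by
  have hinv : ι ((u0⁻¹ : Kˣ) : K) = (ι (u0 : K))⁻¹ := by
    rw [Units.val_inv_eq_inv_val, map_inv₀]
  have hprod : ι (u0 : K) * ι ((u0⁻¹ : Kˣ) : K) = 1 := by
    rw [← map_mul, Units.mul_inv, map_one]
  have hne : ι (u0 : K) ≠ ι ((u0⁻¹ : Kˣ) : K) := by
    intro hh
    have h1 := ι.injective hh
    apply hu0
    rw [pow_two]
    nth_rewrite 2 [h1]
    exact Units.mul_inv u0
  have hchi : chi (dg ι u0) = (ι (u0 : K) - ι ((u0⁻¹ : Kˣ) : K)) ^ 2 := by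
    unfold chi
    rw [dg_coe, Matrix.trace_fin_two_of]
    linear_combination 4 * hprod
  have hchi0 : chi (dg ι u0) ≠ 0 := by
    rw [hchi]
    exact pow_ne_zero 2 (sub_ne_zero.mpr hne)
  have hns : NS ((dg ι u0 : SL2) : M2) := by
    unfold NS
    rw [dg_coe]
    right
    right
    simpa using hne
  have hg : Good (⟨negOne, hneg⟩ : M) (⟨dg ι u0, dg_mem ι M hM u0⟩ : M) :=
    good_of_ns M hneg _ hns
  refine ⟨hg, hchi0, ⟨ι (u0 : K) - ι ((u0⁻¹ : Kˣ) : K), by rw [hchi]; ring⟩, ?_⟩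
  have hconj : wel ι * dg ι u0 * (wel ι)⁻¹ = dg ι u0⁻¹ := by
    apply conj_eq
    rw [wel_coe, dg_coe, dg_coe, Matrix.mul_fin_two, Matrix.mul_fin_two]
    congr 1
    ext i j
    fin_cases i <;> fin_cases j <;> simp
  have hN := norm_card_eq (hyp1_of hodd M hneg) hg
    (a2_of hodd M (⟨dg ι u0, dg_mem ι M hM u0⟩ : M) hchi0) (⟨wel ι, wel_mem ι M hM⟩ : M)
    (by
      apply Subtype.ext
      show wel ι * dg ι u0 * (wel ι)⁻¹ * dg ι u0 = dg ι u0 * (wel ι * dg ι u0 * (wel ι)⁻¹)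
      rw [hconj]
      exact dg_comm ι _ _)
    (by
      intro hc
      have e : wel ι * dg ι u0 = dg ι u0 * wel ι := congrArg Subtype.val hc.eq
      have e' := congrArg (fun m : SL2 => (m : M2) 0 1) e
      simp only [Matrix.SpecialLinearGroup.coe_mul, wel_coe, dg_coe, Matrix.mul_fin_two] at e'
      simp at e'
      apply hne
      rw [hinv]
      exact e'.symm)
  have hdc := double_count (hyp1_of hodd M hneg) hg
  rw [hN, card_cent_dg ι M hM hΛ u0 hu0] at hdc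
  exact hdc

theorem class3 [Fintype F] (hodd : Odd (Fintype.card F)) (p : ℕ) [Fact p.Prime] [CharP F p]
    (q r : ℕ) (hpq : p ∣ q) (hq2 : 2 ≤ q) (hr : Odd r) (hcard : Fintype.card F = q ^ r)
    (M : Subgroup SL2) [Fintype M] (hneg : negOne ∈ M) (T : SL2) (hT : T ∈ M)
    (hoT : orderOf T = q + 1) (n0 : SL2) (hn0 : n0 ∈ M)
    (hn : n0 * T * n0⁻¹ * T = T * (n0 * T * n0⁻¹)) (hnc : n0 * T ≠ T * n0) :
    Good (⟨negOne, hneg⟩ : M) (⟨T, hT⟩ : M) ∧ chi T ≠ 0 ∧ ¬ IsSquare (chi T) ∧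
      ∃ a3 : ℕ, 0 < a3 ∧ (q + 1) ∣ a3 ∧ Fintype.card M * (a3 - 2) =
        (cls (⟨negOne, hneg⟩ : M) (⟨T, hT⟩ : M)).card * (2 * a3) := by
  have hpp : p.Prime := Fact.out
  have h2 := two_ne_zero_of_odd hodd
  have hchi0 : chi T ≠ 0 := by
    intro h
    have htr : (T : M2).trace ^ 2 = 4 := by
      unfold chi at h
      linear_combination h
    have h1 := pow_two_mul_char p T htr
    have h3 : q + 1 ∣ 2 * p := by
      rw [← hoT]
      exact orderOf_dvd_of_pow_eq_one h1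
    have hnd : ¬ p ∣ q + 1 := by
      intro hd
      have := (Nat.dvd_add_right hpq).mp hd
      exact hpp.one_lt.ne' (Nat.dvd_one.mp this)
    have hcop : Nat.Coprime (q + 1) p := ((Nat.Prime.coprime_iff_not_dvd hpp).mpr hnd).symm
    have h4 := hcop.dvd_of_dvd_mul_right h3
    have := Nat.le_of_dvd (by norm_num) h4
    omega
  have hsq : ¬ IsSquare (chi T) := by
    rintro ⟨δ, hδ⟩
    have hδ0 : δ ≠ 0 := by
      rintro rfl
      apply hchi0
      rw [hδ]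
      ring
    have h1 := pow_of_split h2 T δ hδ0 (by rw [hδ]; ring)
    have h3 : q + 1 ∣ q ^ r - 1 := by
      rw [← hoT, ← hcard]
      exact orderOf_dvd_of_pow_eq_one h1
    have h4 : q + 1 ∣ q ^ r + 1 := by
      have := Odd.nat_add_dvd_pow_add_pow q 1 hr
      rwa [one_pow] at this
    have h5 : 1 ≤ q ^ r := Nat.one_le_pow _ _ (by omega)
    have h6 : q + 1 ∣ (q ^ r + 1) - (q ^ r - 1) := Nat.dvd_sub h4 h3
    have e : (q ^ r + 1) - (q ^ r - 1) = 2 := by omega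
    rw [e] at h6
    have := Nat.le_of_dvd (by norm_num) h6
    omega
  have hns : NS (T : M2) := by
    apply nonscalar_of_trace
    intro h
    apply hchi0
    unfold chi
    rw [h]
    ring
  have hg : Good (⟨negOne, hneg⟩ : M) (⟨T, hT⟩ : M) := good_of_ns M hneg _ hns
  refine ⟨hg, hchi0, hsq, Nat.card (Subgroup.centralizer {(⟨T, hT⟩ : M)}), Nat.card_pos, ?_, ?_⟩
  · have hmem : (⟨T, hT⟩ : M) ∈ Subgroup.centralizer {(⟨T, hT⟩ : M)} := by
      rw [Subgroup.mem_centralizer_singleton_iff]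
    have ho : orderOf (⟨(⟨T, hT⟩ : M), hmem⟩ : Subgroup.centralizer {(⟨T, hT⟩ : M)}) = q + 1 := by
      rw [Subgroup.orderOf_mk, Subgroup.orderOf_mk, hoT]
    rw [← ho]
    exact orderOf_dvd_natCard _
  · have hN := norm_card_eq (hyp1_of hodd M hneg) hg
      (a2_of hodd M (⟨T, hT⟩ : M) hchi0) (⟨n0, hn0⟩ : M) (Subtype.ext hn)
      (fun hc => hnc (congrArg Subtype.val hc.eq))
    have hdc := double_count (hyp1_of hodd M hneg) hg
    rw [hN] at hdc
    exact hdc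

end Cfsg.Agent.Helper14.SubM
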