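import Mathlib
import Cfsg.Agent.Helper14.CE3
import Cfsg.Agent.Helper14.SubM
import Cfsg.Agent.Helper14.A4Sub

set_option autoImplicit false

namespace Cfsg.Agent.Helper14.EvA

open Classical

open Cfsg.Agent.Helper14.Mat2 Cfsg.Agent.Helper14.SL2Odd Cfsg.Agent.Helper14.PSL2
  Cfsg.Agent.Helper14.SL2Conj Cfsg.Agent.Helper14.Torus Cfsg.Agent.Helper14.TorusB
  Cfsg.Agent.Helper14.TorusC Cfsg.Agent.Helper14.TorusD Cfsg.Agent.Helper14.TorusE
  Cfsg.Agent.Helper14.SL2T Cfsg.Agent.Helper14.SubA Cfsg.Agent.Helper14.SubD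
  Cfsg.Agent.Helper14.CE3 Cfsg.Agent.Helper14.A4Sub

section abs

variable {G : Type*} [Group G]

theorem rel_symm {x y : G} (h : Rel x y) : Rel y x := by
  obtain ⟨g, hg⟩ := h
  refine ⟨g⁻¹, ?_⟩
  have h1 := (Commute.conj_iff g⁻¹).mpr hg
  have e : g⁻¹ * (g * x * g⁻¹) * g⁻¹⁻¹ = x := by group
  rw [e] at h1
  exact h1.symm

theorem cent_eq_of_commute {z : G} (H : Hyp0 z) {x y : G} (hx : Good z x) (hy : Good z y)
    (h : Commute x y) : Subgroup.centralizer {x} = Subgroup.centralizer {y} := by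
  ext g
  rw [Subgroup.mem_centralizer_singleton_iff, Subgroup.mem_centralizer_singleton_iff]
  constructor
  · intro hg
    exact (H.a1 x hx.1 hx.2 g y hg h.symm).eq
  · intro hg
    exact (H.a1 y hy.1 hy.2 g x hg h).eq

theorem rel_card [Fintype G] {z : G} (H : Hyp0 z) {x y : G} (hx : Good z x) (hy : Good z y)
    (h : Rel x y) :
    Nat.card (Subgroup.centralizer {x}) = Nat.card (Subgroup.centralizer {y}) := by
  obtain ⟨g, hg⟩ := h
  have e := cent_eq_of_commute H (good_conj H hx g) hy hg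
  rw [← e, ← card_cent, ← card_cent, card_cent_conj]

theorem norm_card_eq0 [Fintype G] {z : G} (H : Hyp0 z) {x : G} (hx : Good z x)
    (ha2 : ∀ g : G, Commute (g * x * g⁻¹) x → g * x * g⁻¹ = x ∨ g * x * g⁻¹ = x⁻¹)
    (n : G) (hn : Commute (n * x * n⁻¹) x) (hnc : ¬ Commute n x) :
    Nat.card (Subgroup.normalizer ((Subgroup.centralizer {x} : Subgroup G) : Set G)) =
      2 * Nat.card (Subgroup.centralizer {x}) := by
  have hle := norm_card_le H hx ha2
  have hCN : Subgroup.centralizer {x} ≤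
      Subgroup.normalizer ((Subgroup.centralizer {x} : Subgroup G) : Set G) :=
    Subgroup.le_normalizer
  have hdvd := Subgroup.card_dvd_of_le hCN
  have hne : Nat.card (Subgroup.centralizer {x}) ≠
      Nat.card (Subgroup.normalizer ((Subgroup.centralizer {x} : Subgroup G) : Set G)) := by
    intro he
    have := Subgroup.eq_of_le_of_card_ge hCN (le_of_eq he.symm)
    have hnN : n ∈ Subgroup.normalizer ((Subgroup.centralizer {x} : Subgroup G) : Set G) :=
      (mem_norm_iff H hx n).mpr hn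
    rw [← this, Subgroup.mem_centralizer_singleton_iff] at hnN
    exact hnc hnN
  obtain ⟨m, hm⟩ := hdvd
  have hpos : 0 < Nat.card (Subgroup.centralizer {x}) := Nat.card_pos
  have hposN : 0 < Nat.card (Subgroup.normalizer
      ((Subgroup.centralizer {x} : Subgroup G) : Set G)) := Nat.card_pos
  have hm2 : m = 2 := by
    have h1 : m ≠ 0 := by
      rintro rfl
      rw [mul_zero] at hm
      omega
    have h2 : m ≠ 1 := by
      rintro rfl
      rw [mul_one] at hm
      exact hne hm.symm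
    have h3 : m ≤ 2 := by
      by_contra hcon
      push Not at hcon
      have h4 : Nat.card (Subgroup.centralizer {x}) * 3 ≤
          Nat.card (Subgroup.centralizer {x}) * m := Nat.mul_le_mul_left _ hcon
      rw [hm] at hle
      omega
    omega
  rw [hm, hm2, mul_comm]

theorem invol_rel [Finite G] (H : Hyp0 (1 : G)) (x w : G) (hx1 : x ≠ 1) (hx2 : x * x = 1)
    (hw1 : w ≠ 1) (hw2 : w * w = 1) : Rel x w := by
  haveI : Fact (Nat.Prime 2) := ⟨Nat.prime_two⟩
  have hpg1 : IsPGroup 2 (Subgroup.zpowers w) := by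
    apply IsPGroup.of_card (n := 1)
    rw [Nat.card_zpowers, pow_one]
    exact orderOf_eq_prime (by rw [pow_two]; exact hw2) hw1
  have hpg0 : IsPGroup 2 (Subgroup.zpowers x) := by
    apply IsPGroup.of_card (n := 1)
    rw [Nat.card_zpowers, pow_one]
    exact orderOf_eq_prime (by rw [pow_two]; exact hx2) hx1
  obtain ⟨P1, hP1⟩ := hpg1.exists_le_sylow
  obtain ⟨P0, hP0⟩ := hpg0.exists_le_sylow
  obtain ⟨g, hg⟩ := MulAction.exists_smul_eq G P0 P1
  have hwP1 : w ∈ (P1 : Subgroup G) := hP1 (Subgroup.mem_zpowers _)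
  have hxP0 : x ∈ (P0 : Subgroup G) := hP0 (Subgroup.mem_zpowers _)
  rw [← hg, Sylow.coe_subgroup_smul, Subgroup.mem_pointwise_smul_iff_inv_smul_mem,
    MulAut.smul_def, MulAut.conj_inv_apply] at hwP1
  haveI : Nontrivial (P0 : Subgroup G) :=
    ⟨⟨⟨x, hxP0⟩, 1, fun h => hx1 (congrArg Subtype.val h)⟩⟩
  haveI := IsPGroup.center_nontrivial P0.isPGroup'
  obtain ⟨s, hs⟩ := exists_ne (1 : Subgroup.center (P0 : Subgroup G))
  have hs1 : ((s : (P0 : Subgroup G)) : G) ≠ 1 := by
    intro h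
    apply hs
    apply Subtype.ext
    apply Subtype.ext
    exact h
  have hcen := Subgroup.mem_center_iff.mp s.2
  have hc1 : Commute (g⁻¹ * w * g) ((s : (P0 : Subgroup G)) : G) := by
    have := hcen ⟨g⁻¹ * w * g, hwP1⟩
    exact congrArg Subtype.val this
  have hc2 : Commute x ((s : (P0 : Subgroup G)) : G) := by
    have := hcen ⟨x, hxP0⟩
    exact congrArg Subtype.val this
  have hc3 : Commute (g⁻¹ * w * g) x := H.a1 _ hs1 hs1 _ _ hc1 hc2
  refine ⟨g, ?_⟩
  have := (Commute.conj_iff g).mpr hc3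
  have e : g * (g⁻¹ * w * g) * g⁻¹ = w := by group
  rw [e] at this
  exact this.symm

theorem three_le_cent [Finite G] (w : G) (hw1 : w ≠ 1) (hw2 : w * w ≠ 1) :
    3 ≤ Nat.card (Subgroup.centralizer {w}) := by
  have hmem : w ∈ Subgroup.centralizer {w} := by
    rw [Subgroup.mem_centralizer_singleton_iff]
  have hd : orderOf (⟨w, hmem⟩ : Subgroup.centralizer {w}) ∣
      Nat.card (Subgroup.centralizer {w}) := orderOf_dvd_natCard _
  rw [Subgroup.orderOf_mk] at hd
  have hpos : 0 < orderOf w := orderOf_pos w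
  have h1 : orderOf w ≠ 1 := by
    rw [Ne, orderOf_eq_one_iff]
    exact hw1
  have h2 : orderOf w ≠ 2 := by
    intro h
    apply hw2
    have := pow_orderOf_eq_one w
    rw [h, pow_two] at this
    exact this
  have hle := Nat.le_of_dvd Nat.card_pos hd
  omega

theorem pair_card (G : Type*) [Group G] : ({1, 1} : Finset G).card = 1 := by
  simp

end abs

variable {F : Type*} [Field F]

local notation "SL2" => Matrix.SpecialLinearGroup (Fin 2) F
local notation "M2" => Matrix (Fin 2) (Fin 2) F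

theorem hyp0_of (h2 : (2 : F) = 0) (M : Subgroup SL2) : Hyp0 (1 : M) := by
  refine ⟨fun g => Commute.one_right g, ?_⟩
  intro x hx1 _ g h hg hh
  have hns : NS ((x : SL2) : M2) :=
    NS_of_char_two h2 (x : SL2) (fun h => hx1 (Subtype.ext h))
  apply Subtype.ext
  exact cent_comm (x : SL2) (g : SL2) (h : SL2) hns
    (congrArg Subtype.val hg.eq) (congrArg Subtype.val hh.eq)

theorem good_of_ne (M : Subgroup SL2) (x : M) (hx : x ≠ 1) : Good (1 : M) x := ⟨hx, hx⟩

theorem tr_commute (h2 : (2 : F) = 0) (x y : SL2) (hx : x ≠ 1) (hy : y ≠ 1)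
    (h : y * x = x * y) :
    ∃ β : F, β ≠ 0 ∧ (y : M2).trace = β * (x : M2).trace := by
  have hns := NS_of_char_two h2 x hx
  have h' : (y : M2) * (x : M2) = (x : M2) * (y : M2) := by
    rw [← Matrix.SpecialLinearGroup.coe_mul, ← Matrix.SpecialLinearGroup.coe_mul, h]
  obtain ⟨α, β, hy2⟩ := cent_mat _ _ hns h'
  refine ⟨β, ?_, ?_⟩
  · rintro rfl
    have hnsy := NS_of_char_two h2 y hy
    unfold NS at hnsy
    rw [hy2] at hnsy
    simp at hnsy
  · rw [hy2, trace_param]
    linear_combination α * h2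

theorem rel_tr (h2 : (2 : F) = 0) (M : Subgroup SL2) (x y : M) (hx : x ≠ 1) (hy : y ≠ 1)
    (h : Rel x y) :
    ∃ β : F, β ≠ 0 ∧ ((y : SL2) : M2).trace = β * ((x : SL2) : M2).trace := by
  obtain ⟨g, hg⟩ := h
  have hgx : g * x * g⁻¹ ≠ 1 := by
    intro h1
    apply hx
    have e : x = g⁻¹ * (g * x * g⁻¹) * g := by group
    rw [e, h1]
    group
  have hc : (y : SL2) * ((g : SL2) * (x : SL2) * (g : SL2)⁻¹) =
      ((g : SL2) * (x : SL2) * (g : SL2)⁻¹) * (y : SL2) := (congrArg Subtype.val hg.eq).symm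
  obtain ⟨β, hβ, e⟩ := tr_commute h2 ((g : SL2) * (x : SL2) * (g : SL2)⁻¹) (y : SL2)
    (fun h => hgx (Subtype.ext h)) (fun h => hy (Subtype.ext h)) hc
  refine ⟨β, hβ, ?_⟩
  rw [e, trace_conj]

theorem conj_mem_pair2 (h2 : (2 : F) = 0) (b b' : SL2) (hτ : (b : M2).trace ≠ 0)
    (hc : b' * b = b * b') (htr : (b' : M2).trace = (b : M2).trace) : b' = b ∨ b' = b⁻¹ := by
  have hns : NS (b : M2) := by
    apply NS_of_char_two h2
    rintro rfl
    apply hτ
    rw [Matrix.SpecialLinearGroup.coe_one, Matrix.trace_fin_two]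
    simp only [Matrix.one_apply_eq]
    linear_combination h2
  have hc' : (b' : M2) * (b : M2) = (b : M2) * (b' : M2) := by
    rw [← Matrix.SpecialLinearGroup.coe_mul, ← Matrix.SpecialLinearGroup.coe_mul, hc]
  obtain ⟨x, y, hxy⟩ := cent_mat _ _ hns hc'
  have hd : x ^ 2 + (b : M2).trace * x * y + y ^ 2 = 1 := by
    rw [← det_param, ← hxy]
    exact b'.det_coe
  have ht : 2 * x + y * (b : M2).trace = (b : M2).trace := by
    rw [← trace_param, ← hxy, htr]
  have hy1 : y = 1 := by
    have : (y - 1) * (b : M2).trace = 0 := by linear_combination ht - x * h2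
    rcases mul_eq_zero.mp this with h | h
    · linear_combination h
    · exact absurd h hτ
  rw [hy1] at hd hxy
  have hx : x * (x + (b : M2).trace) = 0 := by linear_combination hd
  rcases mul_eq_zero.mp hx with h | h
  · left
    apply Subtype.ext
    rw [hxy, h, zero_smul, zero_add, one_smul]
  · right
    have hx' : x = (b : M2).trace := by linear_combination h - (b : M2).trace * h2
    apply Subtype.ext
    rw [hxy, hx', coe_inv_eq, one_smul, sub_eq_add_neg]
    congr 1
    ext i j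
    rw [Matrix.neg_apply]
    linear_combination ((b : M2) i j) * h2

theorem a2_of2 (h2 : (2 : F) = 0) (M : Subgroup SL2) (x : M)
    (hτ : ((x : SL2) : M2).trace ≠ 0) :
    ∀ g : M, Commute (g * x * g⁻¹) x → g * x * g⁻¹ = x ∨ g * x * g⁻¹ = x⁻¹ := by
  intro g hc
  have := conj_mem_pair2 h2 (x : SL2) ((g : SL2) * (x : SL2) * (g : SL2)⁻¹) hτ
    (congrArg Subtype.val hc.eq) (trace_conj _ _)
  rcases this with h | h
  · left
    exact Subtype.ext h
  · right
    exact Subtype.ext h

theorem sq_of_tr_zero (h2 : (2 : F) = 0) (x : SL2) (h : (x : M2).trace = 0) : x * x = 1 := by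
  apply Subtype.ext
  rw [Matrix.SpecialLinearGroup.coe_mul, ← pow_two, sq_eq, h, zero_smul, zero_sub,
    Matrix.SpecialLinearGroup.coe_one]
  ext i j
  rw [Matrix.neg_apply]
  linear_combination (-(1 : M2) i j) * h2

theorem upper_form2 (h2 : (2 : F) = 0) (k : SL2) (h10 : (k : M2) 1 0 = 0)
    (hd : (k : M2) 0 0 = (k : M2) 1 1) : k = xe ((k : M2) 0 1) := by
  obtain ⟨a, b, c, d, hk⟩ : ∃ a b c d : F, (k : M2) = !![a, b; c, d] :=
    ⟨_, _, _, _, Matrix.eta_fin_two _⟩
  have hdet := k.det_coe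
  rw [hk, Matrix.det_fin_two_of] at hdet
  rw [hk] at h10 hd
  simp only [Matrix.of_apply, Matrix.cons_val_zero, Matrix.cons_val_one, Matrix.cons_val'] at h10 hd
  have hb : (k : M2) 0 1 = b := by rw [hk]; simp
  rw [hb]
  subst h10
  subst hd
  have ha : (a - 1) ^ 2 = 0 := by linear_combination hdet + (1 - a) * h2
  have ha1 : a = 1 := by
    have := pow_eq_zero_iff (two_ne_zero) |>.mp ha
    linear_combination this
  apply Subtype.ext
  rw [hk, xe_coe, ha1]

end Cfsg.Agent.Helper14.EvA
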