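import Mathlib
import Cfsg.Agent.Helper14.EvA

set_option autoImplicit false

namespace Cfsg.Agent.Helper14.DA

open Classical

open Cfsg.Agent.Helper14.Mat2 Cfsg.Agent.Helper14.SL2Odd Cfsg.Agent.Helper14.PSL2
  Cfsg.Agent.Helper14.SL2Conj Cfsg.Agent.Helper14.Torus Cfsg.Agent.Helper14.TorusB
  Cfsg.Agent.Helper14.TorusC Cfsg.Agent.Helper14.TorusD Cfsg.Agent.Helper14.TorusE
  Cfsg.Agent.Helper14.SL2T Cfsg.Agent.Helper14.SubA Cfsg.Agent.Helper14.SubD
  Cfsg.Agent.Helper14.CE3 Cfsg.Agent.Helper14.A4Sub Cfsg.Agent.Helper14.EvA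

section abs

variable {K : Type*} [Group K]

/-- the central pair -/
noncomputable def zfin (z : K) : Finset K := {1, z}

theorem mem_zfin (z ε : K) : ε ∈ zfin z ↔ ε = 1 ∨ ε = z := by
  unfold zfin
  simp

theorem zfin_card_ne {z : K} (h : z ≠ 1) : (zfin z).card = 2 := by
  unfold zfin
  rw [Finset.card_pair]
  exact fun h' => h h'.symm

theorem zfin_card_one : (zfin (1 : K)).card = 1 := by
  unfold zfin
  simp

theorem double_count_z [Fintype K] {z : K} (H : Hyp0 z) {x : K} (hx : Good z x) :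
    Fintype.card K * (Nat.card (Subgroup.centralizer {x}) - (zfin z).card) =
      (cls z x).card *
        Nat.card (Subgroup.normalizer ((Subgroup.centralizer {x} : Subgroup K) : Set K)) :=
  double_count H hx

theorem sum_le_z [Fintype K] {z : K} (H : Hyp0 z) (S : Finset K) (hS : ∀ x ∈ S, Good z x)
    (hpw : ∀ x ∈ S, ∀ y ∈ S, x ≠ y → ¬ Rel x y) :
    ∑ x ∈ S, (cls z x).card + (zfin z).card ≤ Fintype.card K :=
  sum_le H S hS hpw

theorem sum_eq_z [Fintype K] {z : K} (H : Hyp0 z) (S : Finset K) (hS : ∀ x ∈ S, Good z x)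
    (hpw : ∀ x ∈ S, ∀ y ∈ S, x ≠ y → ¬ Rel x y)
    (hall : ∀ w : K, Good z w → ∃ x ∈ S, Rel x w) :
    ∑ x ∈ S, (cls z x).card + (zfin z).card = Fintype.card K :=
  sum_eq H S hS hpw hall

end abs

variable {F : Type*} [Field F]

local notation "SL2" => Matrix.SpecialLinearGroup (Fin 2) F
local notation "M2" => Matrix (Fin 2) (Fin 2) F

theorem negOne_eq_one (h2 : (2 : F) = 0) : (negOne : SL2) = 1 := by
  apply Subtype.ext
  rw [coe_negOne', Matrix.SpecialLinearGroup.coe_one]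
  have e : (-1 : F) = 1 := by linear_combination -h2
  ext i j
  fin_cases i <;> fin_cases j <;> simp [e]

theorem hyp0n (M : Subgroup SL2) (hneg : negOne ∈ M) : Hyp0 (⟨negOne, hneg⟩ : M) := by
  refine ⟨?_, ?_⟩
  · intro g
    apply Subtype.ext
    exact (negOne_comm (g : SL2)).symm
  · intro x hx1 hxz g h hg hh
    have hns : NS ((x : SL2) : M2) := by
      by_contra hcon
      rcases scalar_of_not_NS (x : SL2) hcon with h | h
      · exact hx1 (Subtype.ext h)
      · exact hxz (Subtype.ext h)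
    apply Subtype.ext
    exact cent_comm (x : SL2) (g : SL2) (h : SL2) hns
      (congrArg Subtype.val hg.eq) (congrArg Subtype.val hh.eq)

theorem ns_of_goodn (M : Subgroup SL2) (hneg : negOne ∈ M) (x : M)
    (hx : Good (⟨negOne, hneg⟩ : M) x) : NS ((x : SL2) : M2) := by
  by_contra hcon
  rcases scalar_of_not_NS (x : SL2) hcon with h | h
  · exact hx.1 (Subtype.ext h)
  · exact hx.2 (Subtype.ext h)

theorem good_of_nsn (M : Subgroup SL2) (hneg : negOne ∈ M) (x : M)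
    (hx : NS ((x : SL2) : M2)) : Good (⟨negOne, hneg⟩ : M) x := by
  constructor
  · rintro rfl
    exact not_NS_one hx
  · rintro rfl
    unfold NS at hx
    simp [coe_negOne] at hx

theorem zcard_two (h2 : (2 : F) ≠ 0) (M : Subgroup SL2) (hneg : negOne ∈ M) :
    (zfin (⟨negOne, hneg⟩ : M)).card = 2 := by
  apply zfin_card_ne
  intro h
  exact negOne_ne_one h2 (congrArg Subtype.val h)

theorem zcard_one (h2 : (2 : F) = 0) (M : Subgroup SL2) (hneg : negOne ∈ M) :
    (zfin (⟨negOne, hneg⟩ : M)).card = 1 := by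
  have : (⟨negOne, hneg⟩ : M) = 1 := Subtype.ext (negOne_eq_one h2)
  rw [this]
  exact zfin_card_one

theorem rel_chin (M : Subgroup SL2) (hneg : negOne ∈ M) (x y : M)
    (hx : Good (⟨negOne, hneg⟩ : M) x) (hy : Good (⟨negOne, hneg⟩ : M) y) (h : Rel x y) :
    ∃ β : F, β ≠ 0 ∧ SLc.chi (y : SL2) = β ^ 2 * SLc.chi (x : SL2) := by
  obtain ⟨g, hg⟩ := h
  have hns1 := ns_of_goodn M hneg y hy
  have hgood := good_conj (hyp0n M hneg) hx g
  have hns2 : NS (((g : SL2) * (x : SL2) * (g : SL2)⁻¹ : SL2) : M2) :=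
    ns_of_goodn M hneg _ hgood
  have hc : (y : SL2) * ((g : SL2) * (x : SL2) * (g : SL2)⁻¹) =
      ((g : SL2) * (x : SL2) * (g : SL2)⁻¹) * (y : SL2) := (congrArg Subtype.val hg.eq).symm
  obtain ⟨β, hβ, e⟩ := SLc.chi_commute ((g : SL2) * (x : SL2) * (g : SL2)⁻¹) (y : SL2)
    hns2 hns1 hc
  refine ⟨β, hβ, ?_⟩
  rw [e, SLc.chi_conj]

theorem rel_zero_n (M : Subgroup SL2) (hneg : negOne ∈ M) (x y : M)
    (hx : Good (⟨negOne, hneg⟩ : M) x) (hy : Good (⟨negOne, hneg⟩ : M) y)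
    (h0 : SLc.chi (x : SL2) = 0) (h1 : SLc.chi (y : SL2) ≠ 0) : ¬ Rel x y ∧ ¬ Rel y x := by
  constructor
  · intro h
    obtain ⟨β, -, e⟩ := rel_chin M hneg x y hx hy h
    rw [h0, mul_zero] at e
    exact h1 e
  · intro h
    obtain ⟨β, hβ, e⟩ := rel_chin M hneg y x hy hx h
    rw [h0] at e
    rcases mul_eq_zero.mp e.symm with h2 | h2
    · exact hβ (pow_eq_zero_iff (by norm_num) |>.mp h2)
    · exact h1 h2

theorem a2_uni [Fintype F] (hpar : (2 : F) = 0 ∨ Odd (Fintype.card F)) (M : Subgroup SL2)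
    (x : M) (hτ : SLc.chi (x : SL2) ≠ 0) :
    ∀ g : M, Commute (g * x * g⁻¹) x → g * x * g⁻¹ = x ∨ g * x * g⁻¹ = x⁻¹ := by
  rcases hpar with h2 | hodd
  · apply a2_of2 h2 M x
    intro h
    apply hτ
    unfold SLc.chi
    rw [h]
    linear_combination (-2 : F) * h2
  · exact SLc.a2_of hodd M x hτ

theorem xe_00 (v : F) : ((xe v : SL2) : M2) 0 0 = 1 := rfl
theorem xe_01 (v : F) : ((xe v : SL2) : M2) 0 1 = v := rfl
theorem xe_10 (v : F) : ((xe v : SL2) : M2) 1 0 = 0 := rfl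
theorem xe_11 (v : F) : ((xe v : SL2) : M2) 1 1 = 1 := rfl

theorem comm_xe (v0 : F) (hv0 : v0 ≠ 0) (k : SL2) (h : k * xe v0 = xe v0 * k) :
    (k : M2) 1 0 = 0 ∧ (k : M2) 0 0 = (k : M2) 1 1 := by
  have e := congrArg Subtype.val h
  rw [Matrix.SpecialLinearGroup.coe_mul, Matrix.SpecialLinearGroup.coe_mul] at e
  have e00 := congrFun (congrFun e 0) 0
  have e01 := congrFun (congrFun e 0) 1
  simp only [Matrix.mul_apply, Fin.sum_univ_two, xe_00, xe_01, xe_10, xe_11] at e00 e01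
  have h1 : v0 * (k : M2) 1 0 = 0 := by linear_combination -e00
  have h2 : v0 * ((k : M2) 0 0 - (k : M2) 1 1) = 0 := by linear_combination e01
  constructor
  · exact (mul_eq_zero.mp h1).resolve_left hv0
  · exact sub_eq_zero.mp ((mul_eq_zero.mp h2).resolve_left hv0)

theorem conj_upper (b : SL2) (h10 : (b : M2) 1 0 = 0) (v : F) :
    b * xe v * b⁻¹ = xe ((b : M2) 0 0 ^ 2 * v) := by
  apply conj_eq
  obtain ⟨l, β, c, d, hk⟩ : ∃ a b' c d : F, (b : M2) = !![a, b'; c, d] :=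
    ⟨_, _, _, _, Matrix.eta_fin_two _⟩
  have hdet := b.det_coe
  rw [hk, Matrix.det_fin_two_of] at hdet
  rw [hk] at h10
  simp only [Matrix.of_apply, Matrix.cons_val_zero, Matrix.cons_val_one, Matrix.cons_val'] at h10
  subst h10
  have h00 : (b : M2) 0 0 = l := by rw [hk]; simp
  rw [h00, xe_coe, xe_coe, hk, Matrix.mul_fin_two, Matrix.mul_fin_two]
  congr 1
  ext i j
  fin_cases i <;> fin_cases j <;> simp <;> linear_combination (-(l * v)) * hdet

theorem conj_xe (n : SL2) (v : F) :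
    n * xe v * n⁻¹ = mk2 (1 - (n : M2) 0 0 * (n : M2) 1 0 * v) ((n : M2) 0 0 ^ 2 * v)
      (-((n : M2) 1 0 ^ 2 * v)) (1 + (n : M2) 0 0 * (n : M2) 1 0 * v) (by ring) := by
  apply conj_eq
  obtain ⟨a, b, c, d, hk⟩ : ∃ a b c d : F, (n : M2) = !![a, b; c, d] :=
    ⟨_, _, _, _, Matrix.eta_fin_two _⟩
  have hdet := n.det_coe
  rw [hk, Matrix.det_fin_two_of] at hdet
  rw [mk2_coe, xe_coe, hk, Matrix.mul_fin_two, Matrix.mul_fin_two]
  congr 1
  ext i j
  fin_cases i <;> fin_cases j <;> simp <;>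
    first | ring1 | linear_combination (-a * v) * hdet | linear_combination (a * v) * hdet |
      linear_combination (c * v) * hdet | linear_combination (-c * v) * hdet

theorem conj_xe_comm' (v0 : F) (hv0 : v0 ≠ 0) (n : SL2) :
    (n * xe v0 * n⁻¹) * xe v0 = xe v0 * (n * xe v0 * n⁻¹) ↔ (n : M2) 1 0 = 0 := by
  constructor
  · intro h
    rw [conj_xe] at h
    have h' := (comm_xe v0 hv0 _ h).1
    have h'' : -((n : M2) 1 0 ^ 2 * v0) = 0 := h'
    have h3 : (n : M2) 1 0 ^ 2 * v0 = 0 := by linear_combination -h''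
    exact pow_eq_zero_iff (two_ne_zero) |>.mp ((mul_eq_zero.mp h3).resolve_right hv0)
  · intro h
    rw [conj_upper n h, xe_add, xe_add, add_comm]

theorem card_cent_x1u (M : Subgroup SL2) (hneg : negOne ∈ M) (v0 : F) (hv0 : v0 ≠ 0)
    (h1 : xe v0 ∈ M) :
    Nat.card (Subgroup.centralizer {(⟨xe v0, h1⟩ : M)}) =
      (zfin (⟨negOne, hneg⟩ : M)).card * Nat.card {v : F // xe v ∈ M} := by
  have hZ : ∀ ε : M, ε ∈ zfin (⟨negOne, hneg⟩ : M) →
      (ε : SL2) = 1 ∨ (ε : SL2) = negOne := by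
    intro ε hε
    rw [mem_zfin] at hε
    rcases hε with rfl | rfl
    · left; rfl
    · right; rfl
  have hcen : ∀ ε : M, ε ∈ zfin (⟨negOne, hneg⟩ : M) → ∀ g : SL2,
      (ε : SL2) * g = g * (ε : SL2) := by
    intro ε hε g
    rcases hZ ε hε with h | h
    · rw [h, one_mul, mul_one]
    · rw [h]
      exact negOne_comm g
  let f : zfin (⟨negOne, hneg⟩ : M) × {v : F // xe v ∈ M} →
      Subgroup.centralizer {(⟨xe v0, h1⟩ : M)} := fun ev =>
    ⟨(ev.1 : M) * ⟨xe (ev.2 : F), ev.2.2⟩, by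
      rw [Subgroup.mem_centralizer_singleton_iff]
      apply Subtype.ext
      show ((ev.1 : M) : SL2) * xe (ev.2 : F) * xe v0 = xe v0 * (((ev.1 : M) : SL2) * xe (ev.2 : F))
      rw [mul_assoc, xe_add, ← mul_assoc, ← hcen _ ev.1.2 (xe v0), mul_assoc, xe_add, add_comm]⟩
  have hinj : Function.Injective f := by
    rintro ⟨ε, v⟩ ⟨ε', v'⟩ h
    have e : ((ε : M) : SL2) * xe (v : F) = ((ε' : M) : SL2) * xe (v' : F) :=
      congrArg (fun c : Subgroup.centralizer {(⟨xe v0, h1⟩ : M)} => ((c : M) : SL2)) h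
    have hεε' : ((ε : M) : SL2) = ((ε' : M) : SL2) := by
      rcases hZ _ ε.2 with h1 | h1 <;> rcases hZ _ ε'.2 with h2 | h2
      · rw [h1, h2]
      · rw [h1, h2] at e ⊢
        have e00 := congrArg (fun m : SL2 => (m : M2) 0 0) e
        simp only [one_mul, xe_00, SubJ.negOne_xe_coe] at e00
        simp at e00
        have h2F : (2 : F) = 0 := by linear_combination e00
        exact (negOne_eq_one h2F).symm
      · rw [h1, h2] at e ⊢
        have e00 := congrArg (fun m : SL2 => (m : M2) 0 0) e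
        simp only [one_mul, xe_00, SubJ.negOne_xe_coe] at e00
        simp at e00
        have h2F : (2 : F) = 0 := by linear_combination -e00
        exact negOne_eq_one h2F
      · rw [h1, h2]
    have hε : ε = ε' := Subtype.ext (Subtype.ext hεε')
    subst hε
    have e2 : xe (v : F) = xe (v' : F) := mul_left_cancel e
    have e01 := congrArg (fun m : SL2 => (m : M2) 0 1) e2
    simp only [xe_01] at e01
    congr 1
    exact Subtype.ext e01
  have hsurj : Function.Surjective f := by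
    intro c
    have hc := c.2
    rw [Subgroup.mem_centralizer_singleton_iff] at hc
    have hc' : ((c : M) : SL2) * xe v0 = xe v0 * ((c : M) : SL2) := congrArg Subtype.val hc
    obtain ⟨h10, hd⟩ := comm_xe v0 hv0 _ hc'
    rcases SubJ.upper_form _ h10 hd with h | h
    · refine ⟨(⟨1, (mem_zfin _ _).mpr (Or.inl rfl)⟩, ⟨(((c : M) : SL2) : M2) 0 1, ?_⟩), ?_⟩
      · rw [← h]
        exact (c : M).2
      · apply Subtype.ext
        apply Subtype.ext
        show (1 : SL2) * xe ((((c : M) : SL2) : M2) 0 1) = ((c : M) : SL2)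
        rw [one_mul]
        exact h.symm
    · refine ⟨(⟨⟨negOne, hneg⟩, (mem_zfin _ _).mpr (Or.inr rfl)⟩, ⟨-(((c : M) : SL2) : M2) 0 1, ?_⟩), ?_⟩
      · have : xe (-(((c : M) : SL2) : M2) 0 1) = negOne * ((c : M) : SL2) := by
          nth_rewrite 2 [h]
          rw [← mul_assoc, negOne_mul_self, one_mul]
        rw [this]
        exact M.mul_mem hneg (c : M).2
      · apply Subtype.ext
        apply Subtype.ext
        show negOne * xe (-(((c : M) : SL2) : M2) 0 1) = ((c : M) : SL2)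
        exact h.symm
  rw [← Nat.card_congr (Equiv.ofBijective f ⟨hinj, hsurj⟩), Nat.card_prod,
    Nat.card_eq_fintype_card (α := zfin (⟨negOne, hneg⟩ : M)), Fintype.card_coe]

theorem card_norm_x1u (M : Subgroup SL2) (hneg : negOne ∈ M) (v0 : F) (hv0 : v0 ≠ 0)
    (h1 : xe v0 ∈ M) (hg : Good (⟨negOne, hneg⟩ : M) (⟨xe v0, h1⟩ : M)) :
    Nat.card (Subgroup.normalizer
      ((Subgroup.centralizer {(⟨xe v0, h1⟩ : M)} : Subgroup M) : Set M)) =
      Nat.card {n : M // ((n : SL2) : M2) 1 0 = 0} := by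
  apply Nat.card_congr
  apply Equiv.subtypeEquivRight
  intro n
  rw [mem_norm_iff (hyp0n M hneg) hg n, ← conj_xe_comm' v0 hv0]
  constructor
  · intro h
    exact congrArg Subtype.val h.eq
  · intro h
    exact Subtype.ext h

theorem class1u (M : Subgroup SL2) [Fintype M] (hneg : negOne ∈ M) (v0 : F) (hv0 : v0 ≠ 0)
    (h1 : xe v0 ∈ M) :
    Good (⟨negOne, hneg⟩ : M) (⟨xe v0, h1⟩ : M) ∧ SLc.chi (xe v0) = 0 ∧
      Fintype.card M * ((zfin (⟨negOne, hneg⟩ : M)).card * Nat.card {v : F // xe v ∈ M} -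
          (zfin (⟨negOne, hneg⟩ : M)).card) =
        (cls (⟨negOne, hneg⟩ : M) (⟨xe v0, h1⟩ : M)).card *
          Nat.card {n : M // ((n : SL2) : M2) 1 0 = 0} := by
  have hns : NS ((xe v0 : SL2) : M2) := by
    unfold NS
    right
    left
    rw [xe_01]
    exact hv0
  have hg : Good (⟨negOne, hneg⟩ : M) (⟨xe v0, h1⟩ : M) := good_of_nsn M hneg _ hns
  refine ⟨hg, ?_, ?_⟩
  · unfold SLc.chi
    rw [xe_coe, Matrix.trace_fin_two_of]
    ring
  · have hdc := double_count_z (hyp0n M hneg) hg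
    rw [card_cent_x1u M hneg v0 hv0 h1, card_norm_x1u M hneg v0 hv0 h1 hg] at hdc
    exact hdc

theorem class3u [Fintype F] (hpar : (2 : F) = 0 ∨ Odd (Fintype.card F)) (p : ℕ) [Fact p.Prime]
    [CharP F p] (q : ℕ) (hpq : p ∣ q) (hq2 : 2 ≤ q)
    (M : Subgroup SL2) [Fintype M] (hneg : negOne ∈ M) (T : SL2) (hT : T ∈ M)
    (hoT : orderOf T = q + 1) (n0 : SL2) (hn0 : n0 ∈ M)
    (hn : n0 * T * n0⁻¹ * T = T * (n0 * T * n0⁻¹)) (hnc : n0 * T ≠ T * n0) :
    Good (⟨negOne, hneg⟩ : M) (⟨T, hT⟩ : M) ∧ SLc.chi T ≠ 0 ∧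
      ∃ a3 : ℕ, 0 < a3 ∧ (q + 1) ∣ a3 ∧
        a3 = Nat.card (Subgroup.centralizer {(⟨T, hT⟩ : M)}) ∧
        Fintype.card M * (a3 - (zfin (⟨negOne, hneg⟩ : M)).card) =
          (cls (⟨negOne, hneg⟩ : M) (⟨T, hT⟩ : M)).card * (2 * a3) := by
  have hpp : p.Prime := Fact.out
  have hchi0 : SLc.chi T ≠ 0 := by
    intro h
    have htr : (T : M2).trace ^ 2 = 4 := by
      unfold SLc.chi at h
      linear_combination h
    have h1 := pow_two_mul_char p T htr
    have h3 : q + 1 ∣ 2 * p := by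
      rw [← hoT]
      exact orderOf_dvd_of_pow_eq_one h1
    have hnd : ¬ p ∣ q + 1 := by
      intro hd
      have := (Nat.dvd_add_right hpq).mp hd
      exact hpp.one_lt.ne' (Nat.dvd_one.mp this)
    have hcop : Nat.Coprime (q + 1) p := ((Nat.Prime.coprime_iff_not_dvd hpp).mpr hnd).symm
    have h4 := hcop.dvd_of_dvd_mul_right h3
    have := Nat.le_of_dvd (by norm_num) h4
    omega
  have hns : NS (T : M2) := by
    apply nonscalar_of_trace
    intro h
    apply hchi0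
    unfold SLc.chi
    rw [h]
    ring
  have hg : Good (⟨negOne, hneg⟩ : M) (⟨T, hT⟩ : M) := good_of_nsn M hneg _ hns
  refine ⟨hg, hchi0, Nat.card (Subgroup.centralizer {(⟨T, hT⟩ : M)}), Nat.card_pos, ?_, rfl, ?_⟩
  · have hmem : (⟨T, hT⟩ : M) ∈ Subgroup.centralizer {(⟨T, hT⟩ : M)} := by
      rw [Subgroup.mem_centralizer_singleton_iff]
    have ho : orderOf (⟨(⟨T, hT⟩ : M), hmem⟩ : Subgroup.centralizer {(⟨T, hT⟩ : M)}) = q + 1 := by
      rw [Subgroup.orderOf_mk, Subgroup.orderOf_mk, hoT]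
    rw [← ho]
    exact orderOf_dvd_natCard _
  · have hN := norm_card_eq0 (hyp0n M hneg) hg
      (a2_uni hpar M (⟨T, hT⟩ : M) hchi0) (⟨n0, hn0⟩ : M) (Subtype.ext hn)
      (fun hc => hnc (congrArg Subtype.val hc.eq))
    have hdc := double_count_z (hyp0n M hneg) hg
    rw [hN] at hdc
    exact hdc

end Cfsg.Agent.Helper14.DA
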