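import Mathlib
import Cfsg.Agent.Helper14.DA

set_option autoImplicit false

namespace Cfsg.Agent.Helper14.DB

open Classical

open Cfsg.Agent.Helper14.Mat2 Cfsg.Agent.Helper14.SL2Odd Cfsg.Agent.Helper14.PSL2
  Cfsg.Agent.Helper14.SL2Conj Cfsg.Agent.Helper14.Torus Cfsg.Agent.Helper14.TorusB
  Cfsg.Agent.Helper14.TorusC Cfsg.Agent.Helper14.TorusD Cfsg.Agent.Helper14.TorusE
  Cfsg.Agent.Helper14.SL2T Cfsg.Agent.Helper14.SubA Cfsg.Agent.Helper14.SubD
  Cfsg.Agent.Helper14.CE3 Cfsg.Agent.Helper14.A4Sub Cfsg.Agent.Helper14.EvA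
  Cfsg.Agent.Helper14.DA

variable {F : Type*} [Field F]

local notation "SL2" => Matrix.SpecialLinearGroup (Fin 2) F
local notation "M2" => Matrix (Fin 2) (Fin 2) F

theorem upper_diag (n : SL2) (h : (n : M2) 1 0 = 0) : (n : M2) 0 0 * (n : M2) 1 1 = 1 := by
  have hdet := n.det_coe
  rw [Matrix.det_fin_two, h, mul_zero, sub_zero] at hdet
  exact hdet

theorem upper_mul_10 (a b : SL2) (ha : (a : M2) 1 0 = 0) (hb : (b : M2) 1 0 = 0) :
    ((a * b : SL2) : M2) 1 0 = 0 := by
  rw [Matrix.SpecialLinearGroup.coe_mul, Matrix.mul_apply, Fin.sum_univ_two, ha, hb]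
  ring

theorem upper_mul_00 (a b : SL2) (hb : (b : M2) 1 0 = 0) :
    ((a * b : SL2) : M2) 0 0 = (a : M2) 0 0 * (b : M2) 0 0 := by
  rw [Matrix.SpecialLinearGroup.coe_mul, Matrix.mul_apply, Fin.sum_univ_two, hb]
  ring

theorem upper_inv_10 (a : SL2) (ha : (a : M2) 1 0 = 0) : ((a⁻¹ : SL2) : M2) 1 0 = 0 := by
  rw [Matrix.SpecialLinearGroup.coe_inv, Matrix.adjugate_fin_two]
  simp [ha]

theorem upper_one_form (k : SL2) (h10 : (k : M2) 1 0 = 0) (h00 : (k : M2) 0 0 = 1) :
    k = xe ((k : M2) 0 1) := by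
  have h11 : (k : M2) 1 1 = 1 := by
    have := upper_diag k h10
    rw [h00, one_mul] at this
    exact this
  apply Subtype.ext
  rw [xe_coe]
  ext i j
  fin_cases i <;> fin_cases j <;> simp [h10, h00, h11]

/-- the Borel part of `M` -/
def borM (M : Subgroup SL2) : Subgroup M where
  carrier := {n | ((n : SL2) : M2) 1 0 = 0}
  mul_mem' := fun {a b} ha hb => upper_mul_10 (a : SL2) (b : SL2) ha hb
  one_mem' := by
    show ((1 : SL2) : M2) 1 0 = 0
    simp
  inv_mem' := fun {a} ha => upper_inv_10 (a : SL2) ha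

theorem mem_borM (M : Subgroup SL2) (n : M) : n ∈ borM M ↔ ((n : SL2) : M2) 1 0 = 0 := Iff.rfl

/-- the diagonal character -/
def d00 (M : Subgroup SL2) : borM M →* Fˣ where
  toFun n := Units.mk0 ((((n : M) : SL2) : M2) 0 0)
    (left_ne_zero_of_mul_eq_one (upper_diag _ ((mem_borM M n).mp n.2)))
  map_one' := by
    apply Units.ext
    show ((1 : SL2) : M2) 0 0 = 1
    simp
  map_mul' := by
    intro a b
    apply Units.ext
    rw [Units.val_mul, Units.val_mk0, Units.val_mk0, Units.val_mk0]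
    exact upper_mul_00 _ _ ((mem_borM M b).mp b.2)

theorem d00_val (M : Subgroup SL2) (n : borM M) :
    ((d00 M n : Fˣ) : F) = (((n : M) : SL2) : M2) 0 0 := rfl

theorem ker_le [Fintype F] (M : Subgroup SL2) :
    Nat.card (d00 M).ker ≤ Nat.card {v : F // xe v ∈ M} := by
  have hform : ∀ n : (d00 M).ker, (((n : borM M) : M) : SL2) =
      xe (((((n : borM M) : M) : SL2) : M2) 0 1) := by
    intro n
    apply upper_one_form _ ((mem_borM M n).mp (n : borM M).2)
    have h := n.2
    rw [MonoidHom.mem_ker] at h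
    have h' := congrArg (fun u : Fˣ => (u : F)) h
    simpa [d00_val] using h'
  apply Nat.card_le_card_of_injective (fun n : (d00 M).ker =>
    (⟨((((n : borM M) : M) : SL2) : M2) 0 1, by
      rw [← hform n]
      exact ((n : borM M) : M).2⟩ : {v : F // xe v ∈ M}))
  intro n n' h
  have e : ((((n : borM M) : M) : SL2) : M2) 0 1 = ((((n' : borM M) : M) : SL2) : M2) 0 1 :=
    congrArg Subtype.val h
  apply Subtype.ext
  apply Subtype.ext
  apply Subtype.ext
  rw [hform n, hform n', e]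

theorem card_borM [Fintype F] (M : Subgroup SL2) :
    Nat.card (borM M) = Nat.card (d00 M).ker * Nat.card (d00 M).range := by
  rw [← Subgroup.index_ker, Subgroup.card_mul_index]

theorem card_borM_eq (M : Subgroup SL2) :
    Nat.card (borM M) = Nat.card {n : M // ((n : SL2) : M2) 1 0 = 0} := rfl

theorem beta_bound [Fintype F] (M : Subgroup SL2) :
    ∃ b : M, ((b : SL2) : M2) 1 0 = 0 ∧
      ((((b : SL2) : M2) 0 0 ^ 2 ≠ 1 ∧ Nat.card (borM M) ≤
          Nat.card {v : F // xe v ∈ M} * Nat.card (Subgroup.centralizer {b})) ∨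
       (Nat.card (borM M) ≤ 2 * Nat.card {v : F // xe v ∈ M} ∧
          ((2 : F) = 0 → Nat.card (borM M) ≤ Nat.card {v : F // xe v ∈ M}))) := by
  obtain ⟨g, hg⟩ := IsCyclic.exists_ofOrder_eq_natCard (α := (d00 M).range)
  obtain ⟨b, hb⟩ := g.2
  refine ⟨(b : M), (mem_borM M b).mp b.2, ?_⟩
  have hcard := card_borM M
  have hker := ker_le M
  have hord : orderOf ((d00 M) b) = Nat.card (d00 M).range := by
    rw [hb, ← hg, Subgroup.orderOf_coe]
  by_cases hsq : (((b : M) : SL2) : M2) 0 0 ^ 2 = 1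
  · right
    have h1 : (d00 M b) ^ 2 = 1 := by
      apply Units.ext
      rw [Units.val_pow_eq_pow_val, d00_val, Units.val_one]
      exact hsq
    have h2 : orderOf (d00 M b) ∣ 2 := orderOf_dvd_of_pow_eq_one h1
    constructor
    · have := Nat.le_of_dvd (by norm_num) h2
      rw [hcard, ← hord]
      calc Nat.card (d00 M).ker * orderOf (d00 M b)
          ≤ Nat.card {v : F // xe v ∈ M} * 2 := Nat.mul_le_mul hker this
        _ = 2 * Nat.card {v : F // xe v ∈ M} := mul_comm _ _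
    · intro h2F
      have h3 : d00 M b = 1 := by
        apply Units.ext
        rw [d00_val, Units.val_one]
        have : ((((b : M) : SL2) : M2) 0 0 - 1) ^ 2 = 0 := by
          linear_combination hsq + (1 - (((b : M) : SL2) : M2) 0 0) * h2F
        exact sub_eq_zero.mp (pow_eq_zero_iff (two_ne_zero) |>.mp this)
      rw [hcard, ← hord, h3, orderOf_one, mul_one]
      exact hker
  · left
    refine ⟨hsq, ?_⟩
    have h1 : orderOf (d00 M b) ∣ orderOf b := orderOf_map_dvd (d00 M) b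
    have h2 : orderOf (b : M) = orderOf b := Subgroup.orderOf_coe b
    have hmem : (b : M) ∈ Subgroup.centralizer {(b : M)} := by
      rw [Subgroup.mem_centralizer_singleton_iff]
    have h3 : orderOf (b : M) ∣ Nat.card (Subgroup.centralizer {(b : M)}) := by
      have := orderOf_dvd_natCard (⟨(b : M), hmem⟩ : Subgroup.centralizer {(b : M)})
      rwa [Subgroup.orderOf_mk] at this
    have h4 : Nat.card (d00 M).range ≤ Nat.card (Subgroup.centralizer {(b : M)}) := by
      rw [← hord]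
      rw [h2] at h3
      exact Nat.le_of_dvd Nat.card_pos (dvd_trans h1 h3)
    rw [hcard]
    exact Nat.mul_le_mul hker h4

theorem beta_orbit [Fintype F] (M : Subgroup SL2) (v0 : F) (hv0 : v0 ≠ 0) (h1 : xe v0 ∈ M) :
    Nat.card (borM M) ≤ Nat.card (Subgroup.centralizer {(⟨xe v0, h1⟩ : M)}) *
      (Nat.card {v : F // xe v ∈ M} - 1) := by
  have h0 : xe (0 : F) ∈ M := by
    rw [xe_zero]
    exact M.one_mem
  have hφmem : ∀ n : borM M, xe ((((n : M) : SL2) : M2) 0 0 ^ 2 * v0) ∈ M := by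
    intro n
    rw [← conj_upper _ ((mem_borM M n).mp n.2)]
    exact M.mul_mem (M.mul_mem (n : M).2 h1) (M.inv_mem (n : M).2)
  have hφne : ∀ n : borM M,
      (⟨(((n : M) : SL2) : M2) 0 0 ^ 2 * v0, hφmem n⟩ : {v : F // xe v ∈ M}) ≠ ⟨0, h0⟩ := by
    intro n h
    have h' : (((n : M) : SL2) : M2) 0 0 ^ 2 * v0 = 0 := congrArg Subtype.val h
    have hne := left_ne_zero_of_mul_eq_one (upper_diag _ ((mem_borM M n).mp n.2))
    exact mul_ne_zero (pow_ne_zero 2 hne) hv0 h'
  obtain ⟨φ, hφ⟩ : ∃ φ : borM M → {w : {v : F // xe v ∈ M} // w ≠ ⟨0, h0⟩},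
      ∀ n : borM M, ((φ n : {v : F // xe v ∈ M}) : F) = (((n : M) : SL2) : M2) 0 0 ^ 2 * v0 :=
    ⟨fun n => ⟨⟨_, hφmem n⟩, hφne n⟩, fun n => rfl⟩
  have hex : ∀ w : {w : {v : F // xe v ∈ M} // w ≠ ⟨0, h0⟩},
      ∃ n : borM M, (∃ n', φ n' = w) → φ n = w := by
    intro w
    by_cases h : ∃ n', φ n' = w
    · obtain ⟨n', hn'⟩ := h
      exact ⟨n', fun _ => hn'⟩
    · exact ⟨1, fun h' => absurd h' h⟩
  choose r hr' using hex
  have hr : ∀ n : borM M, φ (r (φ n)) = φ n := fun n => hr' (φ n) ⟨n, rfl⟩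
  have hcomm : ∀ n : borM M, ((n : M) * ((r (φ n) : borM M) : M)⁻¹) ∈
      Subgroup.centralizer {(⟨xe v0, h1⟩ : M)} := by
    intro n
    rw [Subgroup.mem_centralizer_singleton_iff]
    apply Subtype.ext
    have e : ((((r (φ n) : borM M) : M) : SL2) : M2) 0 0 ^ 2 * v0 =
        (((n : M) : SL2) : M2) 0 0 ^ 2 * v0 := by
      rw [← hφ, ← hφ, hr n]
    have e' : ((((r (φ n) : borM M) : M) : SL2) : M2) 0 0 ^ 2 =
        (((n : M) : SL2) : M2) 0 0 ^ 2 := mul_right_cancel₀ hv0 e
    obtain ⟨m, hm⟩ : ∃ m : borM M, m = n * (r (φ n))⁻¹ := ⟨_, rfl⟩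
    have hm10 := (mem_borM M m).mp m.2
    have hmul : d00 M n = d00 M m * d00 M (r (φ n)) := by
      rw [hm, ← map_mul, inv_mul_cancel_right]
    have hm00 : (((m : M) : SL2) : M2) 0 0 ^ 2 = 1 := by
      have e2 := congrArg (fun u : Fˣ => (u : F)) hmul
      simp only [Units.val_mul, d00_val] at e2
      have hr0 := left_ne_zero_of_mul_eq_one
        (upper_diag _ ((mem_borM M (r (φ n))).mp (r (φ n)).2))
      have : (((m : M) : SL2) : M2) 0 0 ^ 2 * ((((r (φ n) : borM M) : M) : SL2) : M2) 0 0 ^ 2 =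
          1 * ((((r (φ n) : borM M) : M) : SL2) : M2) 0 0 ^ 2 := by
        have h := e'
        rw [e2] at h
        linear_combination -h
      exact mul_right_cancel₀ (pow_ne_zero 2 hr0) this
    have hc := conj_upper ((m : M) : SL2) hm10 v0
    rw [hm00, one_mul] at hc
    have hc2 : ((m : M) : SL2) * xe v0 = xe v0 * ((m : M) : SL2) := mul_inv_eq_iff_eq_mul.mp hc
    rw [hm] at hc2
    exact hc2
  let Ψ : borM M → {w : {v : F // xe v ∈ M} // w ≠ ⟨0, h0⟩} ×
      Subgroup.centralizer {(⟨xe v0, h1⟩ : M)} := fun n => (φ n, ⟨_, hcomm n⟩)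
  have hinj : Function.Injective Ψ := by
    intro n n' h
    have e1 : φ n = φ n' := congrArg Prod.fst h
    have e2 : (n : M) * ((r (φ n) : borM M) : M)⁻¹ = (n' : M) * ((r (φ n') : borM M) : M)⁻¹ :=
      congrArg (fun x : {w : {v : F // xe v ∈ M} // w ≠ ⟨0, h0⟩} ×
        Subgroup.centralizer {(⟨xe v0, h1⟩ : M)} =>
          ((x.2 : Subgroup.centralizer {(⟨xe v0, h1⟩ : M)}) : M)) h
    rw [e1] at e2
    exact Subtype.ext (mul_right_cancel e2)
  have hle := Nat.card_le_card_of_injective Ψ hinj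
  rw [Nat.card_prod] at hle
  have hW : Nat.card {w : {v : F // xe v ∈ M} // w ≠ ⟨0, h0⟩} =
      Nat.card {v : F // xe v ∈ M} - 1 := by
    haveI : Fintype {v : F // xe v ∈ M} := Fintype.ofFinite _
    rw [Nat.card_eq_fintype_card, Nat.card_eq_fintype_card, Fintype.card_subtype_compl,
      Fintype.card_subtype_eq]
  rw [hW, mul_comm] at hle
  exact hle

theorem P_dvd [Fintype F] (M : Subgroup SL2) :
    Nat.card {v : F // xe v ∈ M} ∣ Fintype.card F := by
  let V : AddSubgroup F :=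
    { carrier := {v | xe v ∈ M}
      add_mem' := fun {a b} ha hb => SubK.V_add M ha hb
      zero_mem' := by
        show xe (0 : F) ∈ M
        rw [xe_zero]
        exact M.one_mem
      neg_mem' := fun {a} ha => SubK.V_neg M ha }
  have h := AddSubgroup.card_addSubgroup_dvd_card V
  rw [Nat.card_eq_fintype_card (α := F)] at h
  exact h

theorem all_xe_of_card [Fintype F] (M : Subgroup SL2)
    (h : Nat.card {v : F // xe v ∈ M} = Fintype.card F) : ∀ v : F, xe v ∈ M := by
  let V : AddSubgroup F :=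
    { carrier := {v | xe v ∈ M}
      add_mem' := fun {a b} ha hb => SubK.V_add M ha hb
      zero_mem' := by
        show xe (0 : F) ∈ M
        rw [xe_zero]
        exact M.one_mem
      neg_mem' := fun {a} ha => SubK.V_neg M ha }
  have h' : Nat.card V = Nat.card F := by
    rw [Nat.card_eq_fintype_card (α := F)]
    exact h
  have htop := (AddSubgroup.card_eq_iff_eq_top V).mp h'
  intro v
  have : v ∈ V := by
    rw [htop]
    trivial
  exact this

end Cfsg.Agent.Helper14.DB
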