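import Mathlib
import Cfsg.Agent.Helper14.DB

set_option autoImplicit false

namespace Cfsg.Agent.Helper14.DC

open Classical

open Cfsg.Agent.Helper14.Mat2 Cfsg.Agent.Helper14.SL2Odd Cfsg.Agent.Helper14.PSL2
  Cfsg.Agent.Helper14.SL2Conj Cfsg.Agent.Helper14.Torus Cfsg.Agent.Helper14.TorusB
  Cfsg.Agent.Helper14.TorusC Cfsg.Agent.Helper14.TorusD Cfsg.Agent.Helper14.TorusE
  Cfsg.Agent.Helper14.SL2T Cfsg.Agent.Helper14.SubA Cfsg.Agent.Helper14.SubD
  Cfsg.Agent.Helper14.CE3 Cfsg.Agent.Helper14.A4Sub Cfsg.Agent.Helper14.EvA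
  Cfsg.Agent.Helper14.DA Cfsg.Agent.Helper14.DB

theorem arA2 (k t β a N2 b c1 c2 c3 q : ℕ) (hk : 0 < k) (hβ : 0 < β)
    (h1 : k * (2 * t) = c1 * β)
    (h2 : k * a = c2 * N2) (hN2 : N2 ≤ 2 * (a + 2)) (hβ2 : β ≤ (t + 1) * (a + 2))
    (h3 : k * b = c3 * (2 * (b + 2))) (hq3 : (q + 1) ∣ (b + 2))
    (hs : c1 + c3 + c2 + 2 ≤ k) : (q + 1) * (t + 1) < β + 2 * (q + 1) := by
  have hb : q + 1 ≤ b + 2 := Nat.le_of_dvd (by omega) hq3
  by_contra hcon
  push Not at hcon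
  zify at h1 h2 h3 hs hcon hb hk hβ hN2 hβ2
  have i3 : (k : ℤ) * (q - 1) ≤ 2 * c3 * (q + 1) := by
    have hpos : (0 : ℤ) < (b : ℤ) + 2 := by positivity
    apply le_of_mul_le_mul_right _ hpos
    have e : (2 * (c3 : ℤ) * (q + 1)) * (b + 2) = k * b * (q + 1) := by
      rw [h3]
      ring
    rw [e]
    nlinarith [mul_nonneg hk.le (by linarith : (0 : ℤ) ≤ (b : ℤ) + 2 - (q + 1))]
  have i2 : (k : ℤ) * (β - 2 * (t + 1)) ≤ 2 * c2 * β := by
    have hpos : (0 : ℤ) < (a : ℤ) + 2 := by positivity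
    apply le_of_mul_le_mul_right _ hpos
    have e1 : (c2 : ℤ) * N2 ≤ c2 * (2 * (a + 2)) := mul_le_mul_of_nonneg_left hN2 (by positivity)
    have e2 : (0 : ℤ) ≤ k * ((t + 1) * (a + 2) - β) := mul_nonneg hk.le (by linarith)
    have e3 : (c2 : ℤ) * N2 * β ≤ c2 * (2 * (a + 2)) * β :=
      mul_le_mul_of_nonneg_right e1 (by positivity)
    have e4 : (c2 : ℤ) * N2 * β = k * a * β := by rw [← h2]
    linarith [e2, e3, e4]
  have f1 : (c1 : ℤ) * (2 * β * (q + 1)) = k * (2 * t) * (2 * (q + 1)) := by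
    rw [h1]
    ring
  have f3 : (k : ℤ) * (q - 1) * β ≤ 2 * c3 * (q + 1) * β :=
    mul_le_mul_of_nonneg_right i3 (by positivity)
  have f2 : (k : ℤ) * (β - 2 * (t + 1)) * (q + 1) ≤ 2 * c2 * β * (q + 1) :=
    mul_le_mul_of_nonneg_right i2 (by positivity)
  have es := mul_le_mul_of_nonneg_right hs (by positivity : (0 : ℤ) ≤ 2 * (β : ℤ) * (q + 1))
  have g := mul_le_mul_of_nonneg_left hcon (by positivity : (0 : ℤ) ≤ 2 * (k : ℤ))
  have pos : (0 : ℤ) < (β : ℤ) * (q + 1) := by positivity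
  linarith [f1, f2, f3, es, g, pos]

theorem arA1 (k t β a N2 b c1 c2 c3 q : ℕ) (hk : 0 < k) (hβ : 0 < β)
    (h1 : k * t = c1 * β)
    (h2 : k * a = c2 * N2) (hN2 : N2 ≤ 2 * (a + 1)) (hβ2 : β ≤ (t + 1) * (a + 1))
    (h3 : k * b = c3 * (2 * (b + 1))) (hq3 : (q + 1) ∣ (b + 1))
    (hs : c1 + c3 + c2 + 1 ≤ k) : (q + 1) * (t + 1) < β + 2 * (q + 1) := by
  have hb : q + 1 ≤ b + 1 := Nat.le_of_dvd (by omega) hq3
  by_contra hcon
  push Not at hcon
  zify at h1 h2 h3 hs hcon hb hk hβ hN2 hβ2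
  have i3 : (k : ℤ) * q ≤ 2 * c3 * (q + 1) := by
    have hpos : (0 : ℤ) < (b : ℤ) + 1 := by positivity
    apply le_of_mul_le_mul_right _ hpos
    have e : (2 * (c3 : ℤ) * (q + 1)) * (b + 1) = k * b * (q + 1) := by
      rw [h3]
      ring
    rw [e]
    nlinarith [mul_nonneg hk.le (by linarith : (0 : ℤ) ≤ (b : ℤ) - q)]
  have i2 : (k : ℤ) * (β - (t + 1)) ≤ 2 * c2 * β := by
    have hpos : (0 : ℤ) < (a : ℤ) + 1 := by positivity
    apply le_of_mul_le_mul_right _ hpos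
    have e1 : (c2 : ℤ) * N2 ≤ c2 * (2 * (a + 1)) := mul_le_mul_of_nonneg_left hN2 (by positivity)
    have e2 : (0 : ℤ) ≤ k * ((t + 1) * (a + 1) - β) := mul_nonneg hk.le (by linarith)
    have e3 : (c2 : ℤ) * N2 * β ≤ c2 * (2 * (a + 1)) * β :=
      mul_le_mul_of_nonneg_right e1 (by positivity)
    have e4 : (c2 : ℤ) * N2 * β = k * a * β := by rw [← h2]
    linarith [e2, e3, e4]
  have f1 : (c1 : ℤ) * (2 * β * (q + 1)) = k * t * (2 * (q + 1)) := by
    rw [h1]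
    ring
  have f3 : (k : ℤ) * q * β ≤ 2 * c3 * (q + 1) * β :=
    mul_le_mul_of_nonneg_right i3 (by positivity)
  have f2 : (k : ℤ) * (β - (t + 1)) * (q + 1) ≤ 2 * c2 * β * (q + 1) :=
    mul_le_mul_of_nonneg_right i2 (by positivity)
  have es := mul_le_mul_of_nonneg_right hs (by positivity : (0 : ℤ) ≤ 2 * (β : ℤ) * (q + 1))
  have g := mul_le_mul_of_nonneg_left hcon (by positivity : (0 : ℤ) ≤ (k : ℤ))
  have pos : (0 : ℤ) < (β : ℤ) * (q + 1) := by positivity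
  linarith [f1, f2, f3, es, g, pos]

theorem P_eq_odd (q P β : ℕ) (hqodd : Odd q) (hq9 : q ≠ 9) (hPq : P ∣ q) (hP2 : 2 ≤ P)
    (h1 : (q + 1) * P < β + 2 * (q + 1)) (h2 : β ≤ 2 * P * (P - 1)) : P = q := by
  obtain ⟨m, rfl⟩ := hPq
  by_contra hne
  have hmodd : Odd m := (Nat.odd_mul.mp hqodd).2
  have hPodd : Odd P := (Nat.odd_mul.mp hqodd).1
  have hm1 : m ≠ 1 := by
    rintro rfl
    exact hne (by ring)
  have hm3 : 3 ≤ m := by
    obtain ⟨j, hj⟩ := hmodd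
    omega
  have hP3 : 3 ≤ P := by
    obtain ⟨j, hj⟩ := hPodd
    omega
  obtain ⟨t, rfl⟩ : ∃ t, P = t + 3 := ⟨P - 3, by omega⟩
  have e : t + 3 - 1 = t + 2 := by omega
  rw [e] at h2
  have ht : t = 0 := by
    by_contra ht
    have ht1 : 1 ≤ t := Nat.pos_of_ne_zero ht
    nlinarith [Nat.mul_le_mul_right ((t + 3) * (t + 1)) hm3, Nat.mul_le_mul_left t ht1, h1, h2]
  subst ht
  have hm : m = 3 := by
    norm_num at h1 h2
    omega
  subst hm
  exact hq9 (by norm_num)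

theorem P_eq_even (q P β : ℕ) (hq0 : 0 < q) (hPq : P ∣ q) (hP2 : 2 ≤ P)
    (h1 : (q + 1) * P < β + 2 * (q + 1)) (h2 : β ≤ P * (P - 1)) : P = q ∨ P = 2 := by
  obtain ⟨m, rfl⟩ := hPq
  by_cases hm1 : m = 1
  · left
    rw [hm1, mul_one]
  right
  have hm0 : m ≠ 0 := by
    rintro rfl
    simp at hq0
  have hm2 : 2 ≤ m := by omega
  obtain ⟨t, rfl⟩ : ∃ t, P = t + 2 := ⟨P - 2, by omega⟩
  have e : t + 2 - 1 = t + 1 := by omega
  rw [e] at h2
  have ht : t = 0 := by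
    by_contra ht
    have ht1 : 1 ≤ t := Nat.pos_of_ne_zero ht
    nlinarith [Nat.mul_le_mul_right ((t + 2) * t) hm2, Nat.mul_le_mul_left t ht1, h1, h2]
  rw [ht]

theorem ar_end4 (k c1 c3 c4 b q : ℕ) (hk : 0 < k) (h1 : k ≤ c1 * 2)
    (h3 : k * b = c3 * (2 * (b + 1))) (hq3 : (q + 1) ∣ (b + 1)) (hq : 1 ≤ q)
    (h4 : k ≤ 3 * c4) (hs : c4 + (c1 + c3) + 1 ≤ k) : False := by
  have hb : q + 1 ≤ b + 1 := Nat.le_of_dvd (by omega) hq3
  zify at h1 h3 hs h4 hb hk hq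
  have i3 : (k : ℤ) * q ≤ 2 * c3 * (q + 1) := by
    have hpos : (0 : ℤ) < (b : ℤ) + 1 := by positivity
    apply le_of_mul_le_mul_right _ hpos
    have e : (2 * (c3 : ℤ) * (q + 1)) * (b + 1) = k * b * (q + 1) := by
      rw [h3]
      ring
    rw [e]
    nlinarith [mul_nonneg hk.le (by linarith : (0 : ℤ) ≤ (b : ℤ) - q)]
  have f1 := mul_le_mul_of_nonneg_right h1 (by positivity : (0 : ℤ) ≤ 3 * ((q : ℤ) + 1))
  have f4 := mul_le_mul_of_nonneg_right h4 (by positivity : (0 : ℤ) ≤ 2 * ((q : ℤ) + 1))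
  have es := mul_le_mul_of_nonneg_right hs (by positivity : (0 : ℤ) ≤ 6 * ((q : ℤ) + 1))
  have pos : (0 : ℤ) < (k : ℤ) * q := by positivity
  nlinarith [f1, f4, es, i3, pos]

theorem ar_end (k c1 c3 β b : ℕ) (hk : 0 < k) (h1 : k = c1 * β) (hβ : β ≤ 2)
    (h3 : k * b = c3 * (2 * (b + 1))) (hs : c1 + c3 + 1 = k) : k = 2 * (b + 1) := by
  interval_cases β
  · omega
  · omega
  · have hc : c3 + 1 = c1 := by omega
    subst hc
    subst h1
    have : c3 = b := by nlinarith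
    omega

variable {F : Type*} [Field F]

local notation "SL2" => Matrix.SpecialLinearGroup (Fin 2) F
local notation "M2" => Matrix (Fin 2) (Fin 2) F

theorem upper_pow (t : SL2) (h10 : (t : M2) 1 0 = 0) (n : ℕ) :
    ((t ^ n : SL2) : M2) 1 0 = 0 ∧ ((t ^ n : SL2) : M2) 0 0 = (t : M2) 0 0 ^ n := by
  induction n with
  | zero => simp
  | succ n ih =>
    rw [pow_succ]
    exact ⟨upper_mul_10 _ _ ih.1 h10, by rw [upper_mul_00 _ _ h10, ih.2, pow_succ]⟩

theorem upper_order [Fintype F] (p : ℕ) [Fact p.Prime] [CharP F p] (t : SL2)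
    (h10 : (t : M2) 1 0 = 0) : t ^ ((Fintype.card F - 1) * p) = 1 := by
  obtain ⟨h1, h2⟩ := upper_pow t h10 (Fintype.card F - 1)
  have hne := left_ne_zero_of_mul_eq_one (upper_diag t h10)
  rw [FiniteField.pow_card_sub_one_eq_one _ hne] at h2
  have h11 : ((t ^ (Fintype.card F - 1) : SL2) : M2) 1 1 = 1 := by
    have := upper_diag _ h1
    rw [h2, one_mul] at this
    exact this
  rw [pow_mul]
  apply SLc.pow_char_of_trace_two p
  rw [Matrix.trace_fin_two, h2, h11]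
  norm_num

theorem no_upper_of_order [Fintype F] (p : ℕ) [Fact p.Prime] [CharP F p] (q : ℕ)
    (hq : Fintype.card F = q) (hpq : p ∣ q) (hq2 : 2 ≤ q) (t : SL2) (ho : orderOf t = q + 1) :
    (t : M2) 1 0 ≠ 0 := by
  intro h10
  have hpp : p.Prime := Fact.out
  have h := upper_order p t h10
  rw [hq] at h
  have hd : q + 1 ∣ (q - 1) * p := by
    rw [← ho]
    exact orderOf_dvd_of_pow_eq_one h
  have hnd : ¬ p ∣ q + 1 := by
    intro hd
    have := (Nat.dvd_add_right hpq).mp hd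
    exact hpp.one_lt.ne' (Nat.dvd_one.mp this)
  have hcop : Nat.Coprime (q + 1) p := ((Nat.Prime.coprime_iff_not_dvd hpp).mpr hnd).symm
  have h4 := hcop.dvd_of_dvd_mul_right hd
  have := Nat.le_of_dvd (by omega) h4
  omega

theorem comm_upper (b c : SL2) (hb10 : (b : M2) 1 0 = 0) (hne : (b : M2) 0 0 ≠ (b : M2) 1 1)
    (hc : c * b = b * c) : (c : M2) 1 0 = 0 := by
  have e := congrArg Subtype.val hc
  rw [Matrix.SpecialLinearGroup.coe_mul, Matrix.SpecialLinearGroup.coe_mul] at e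
  have e10 := congrFun (congrFun e 1) 0
  simp only [Matrix.mul_apply, Fin.sum_univ_two] at e10
  rw [hb10] at e10
  have : (c : M2) 1 0 * ((b : M2) 0 0 - (b : M2) 1 1) = 0 := by linear_combination e10
  exact (mul_eq_zero.mp this).resolve_right (sub_ne_zero.mpr hne)

theorem not_rel_upper [Fintype F] (p : ℕ) [Fact p.Prime] [CharP F p] (q : ℕ)
    (hq : Fintype.card F = q) (hpq : p ∣ q) (hq2 : 2 ≤ q) (M : Subgroup SL2) (b T : M)
    (hb10 : ((b : SL2) : M2) 1 0 = 0) (hne : ((b : SL2) : M2) 0 0 ≠ ((b : SL2) : M2) 1 1)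
    (hoT : orderOf (T : SL2) = q + 1) : ¬ Rel b T ∧ ¬ Rel T b := by
  have key : ¬ Rel b T := by
    rintro ⟨g, hg⟩
    have h1 : Commute (g⁻¹ * T * g) b := by
      have := (Commute.conj_iff g⁻¹).mpr hg
      have e : g⁻¹ * (g * b * g⁻¹) * g⁻¹⁻¹ = b := by group
      rw [e, inv_inv] at this
      exact this.symm
    have h2 : ((g⁻¹ * T * g : M) : SL2) * (b : SL2) = (b : SL2) * ((g⁻¹ * T * g : M) : SL2) :=
      congrArg Subtype.val h1.eq
    have h10 := comm_upper (b : SL2) _ hb10 hne h2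
    have ho : orderOf ((g⁻¹ * T * g : M) : SL2) = q + 1 := by
      rw [Subgroup.orderOf_coe]
      have e : g⁻¹ * T * g = MulAut.conj g⁻¹ T := by rw [MulAut.conj_apply, inv_inv]
      rw [e, MulEquiv.orderOf_eq, ← Subgroup.orderOf_coe]
      exact hoT
    exact no_upper_of_order p q hq hpq hq2 _ ho h10
  exact ⟨key, fun h => key (rel_symm h)⟩

theorem top_of_all_xe (M : Subgroup SL2) (hall : ∀ v : F, xe v ∈ M) (g : SL2) (hg : g ∈ M)
    (hc : (g : M2) 1 0 ≠ 0) : M = ⊤ := by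
  apply top_of_upper M hall
  obtain ⟨a, b, c, d, hk⟩ : ∃ a b c d : F, (g : M2) = !![a, b; c, d] :=
    ⟨_, _, _, _, Matrix.eta_fin_two _⟩
  have hdet := g.det_coe
  rw [hk, Matrix.det_fin_two_of] at hdet
  have hc' : c ≠ 0 := by
    rw [hk] at hc
    simpa using hc
  obtain ⟨w, hw⟩ : ∃ w : SL2, w = xe (-a / c) * g * xe (-d / c) := ⟨_, rfl⟩
  have hwM : w ∈ M := by
    rw [hw]
    exact M.mul_mem (M.mul_mem (hall _) hg) (hall _)
  have hwcoe : (w : M2) = !![0, -1 / c; c, 0] := by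
    rw [hw, Matrix.SpecialLinearGroup.coe_mul, Matrix.SpecialLinearGroup.coe_mul, xe_coe, xe_coe,
      hk, Matrix.mul_fin_two, Matrix.mul_fin_two]
    congr 1
    ext i j
    fin_cases i <;> fin_cases j <;> simp <;> field_simp <;>
      first | ring1 | linear_combination hdet | linear_combination (-1 : F) * hdet
  apply mem_of_conj M w (xe (1 / c ^ 2)) (ye (-1)) hwM (hall _)
  rw [hwcoe, xe_coe, ye_coe, Matrix.mul_fin_two, Matrix.mul_fin_two]
  congr 1
  ext i j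
  fin_cases i <;> fin_cases j <;> simp <;> field_simp

theorem two_le_cent (h2 : (2 : F) ≠ 0) (M : Subgroup SL2) [Finite M] (hneg : negOne ∈ M) (x : M) :
    2 ≤ Nat.card (Subgroup.centralizer {x}) := by
  have hz : (⟨negOne, hneg⟩ : M) ∈ Subgroup.centralizer {x} := by
    rw [Subgroup.mem_centralizer_singleton_iff]
    apply Subtype.ext
    exact negOne_comm (x : SL2)
  haveI : Nontrivial (Subgroup.centralizer {x}) :=
    ⟨⟨⟨_, hz⟩, 1, fun h => negOne_ne_one h2 (congrArg (fun c : Subgroup.centralizer {x} =>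
      ((c : M) : SL2)) h)⟩⟩
  exact Finite.one_lt_card

theorem cent_T_le [Fintype F] (M : Subgroup SL2) (T : SL2) (hT : T ∈ M)
    (hoT : orderOf T = Fintype.card F + 1) (hns : NS (T : M2)) :
    Nat.card (Subgroup.centralizer {(⟨T, hT⟩ : M)}) ≤ Fintype.card F + 1 := by
  have hself := zpowers_self_cent T hoT T (Subgroup.mem_zpowers T) hns
  have hcz : Nat.card (Subgroup.zpowers T) = Fintype.card F + 1 := by
    rw [Nat.card_zpowers, hoT]
  rw [← hcz]
  apply Nat.card_le_card_of_injective (fun c : Subgroup.centralizer {(⟨T, hT⟩ : M)} =>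
    (⟨((c : M) : SL2), by
      rw [← hself, Subgroup.mem_centralizer_singleton_iff]
      have h := c.2
      rw [Subgroup.mem_centralizer_singleton_iff] at h
      exact congrArg Subtype.val h⟩ : Subgroup.zpowers T))
  intro c c' h
  have e : ((c : M) : SL2) = ((c' : M) : SL2) :=
    congrArg (fun z : Subgroup.zpowers T => (z : SL2)) h
  exact Subtype.ext (Subtype.ext e)

end Cfsg.Agent.Helper14.DC
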