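import Mathlib
import Cfsg.Agent.Helper14.DC

set_option autoImplicit false

namespace Cfsg.Agent.Helper14.DD

open Classical

open Cfsg.Agent.Helper14.Mat2 Cfsg.Agent.Helper14.SL2Odd Cfsg.Agent.Helper14.PSL2
  Cfsg.Agent.Helper14.SL2Conj Cfsg.Agent.Helper14.Torus Cfsg.Agent.Helper14.TorusB
  Cfsg.Agent.Helper14.TorusC Cfsg.Agent.Helper14.TorusD Cfsg.Agent.Helper14.TorusE
  Cfsg.Agent.Helper14.SL2T Cfsg.Agent.Helper14.SubA Cfsg.Agent.Helper14.SubD
  Cfsg.Agent.Helper14.CE3 Cfsg.Agent.Helper14.A4Sub Cfsg.Agent.Helper14.EvA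
  Cfsg.Agent.Helper14.DA Cfsg.Agent.Helper14.DB Cfsg.Agent.Helper14.DC

variable {F : Type*} [Field F]

local notation "SL2" => Matrix.SpecialLinearGroup (Fin 2) F
local notation "M2" => Matrix (Fin 2) (Fin 2) F

set_option maxHeartbeats 1000000 in
theorem key_ineq [Fintype F] (hpar : (2 : F) = 0 ∨ Odd (Fintype.card F)) (p : ℕ)
    [Fact p.Prime] [CharP F p] (q : ℕ) (hq : Fintype.card F = q) (hpq : p ∣ q) (hq3 : 3 ≤ q)
    (M : Subgroup SL2) [Fintype M] (hneg : negOne ∈ M) (T n0 : SL2) (hT : T ∈ M) (hn0 : n0 ∈ M)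
    (hoT : orderOf T = q + 1) (hn : n0 * T * n0⁻¹ * T = T * (n0 * T * n0⁻¹))
    (hnc : n0 * T ≠ T * n0) (v0 : F) (hv0 : v0 ≠ 0) (h1 : xe v0 ∈ M) :
    (q + 1) * Nat.card {v : F // xe v ∈ M} < Nat.card (borM M) + 2 * (q + 1) := by
  have H := hyp0n M hneg
  obtain ⟨P, hPdef⟩ : ∃ P : ℕ, P = Nat.card {v : F // xe v ∈ M} := ⟨_, rfl⟩
  obtain ⟨β, hβdef⟩ : ∃ β : ℕ, β = Nat.card (borM M) := ⟨_, rfl⟩
  obtain ⟨d, hddef⟩ : ∃ d : ℕ, d = (zfin (⟨negOne, hneg⟩ : M)).card := ⟨_, rfl⟩
  rw [← hPdef, ← hβdef]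
  have hP1 : 1 ≤ P := by
    rw [hPdef]
    have h0 : xe (0 : F) ∈ M := by
      rw [xe_zero]
      exact M.one_mem
    haveI : Nonempty {v : F // xe v ∈ M} := ⟨⟨0, h0⟩⟩
    exact Nat.card_pos
  have hβpos : 0 < β := by
    rw [hβdef]
    exact Nat.card_pos
  obtain ⟨hg1, hchi1, hdc1⟩ := class1u M hneg v0 hv0 h1
  obtain ⟨hg3, hchi3, a3, ha3pos, ha3, ha3def, hdc3⟩ :=
    class3u hpar p q hpq (by omega) M hneg T hT hoT n0 hn0 hn hnc
  rw [← hPdef, ← hddef, ← card_borM_eq, ← hβdef] at hdc1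
  rw [← hddef] at hdc3
  obtain ⟨x1, hx1def⟩ : ∃ x1 : M, x1 = ⟨xe v0, h1⟩ := ⟨_, rfl⟩
  obtain ⟨x3, hx3def⟩ : ∃ x3 : M, x3 = ⟨T, hT⟩ := ⟨_, rfl⟩
  rw [← hx1def] at hg1 hdc1
  rw [← hx3def] at hg3 hdc3 ha3def
  have hchi1' : SLc.chi (x1 : SL2) = 0 := by
    rw [hx1def]
    exact hchi1
  have hchi3' : SLc.chi (x3 : SL2) ≠ 0 := by
    rw [hx3def]
    exact hchi3
  have hoT3 : orderOf (x3 : SL2) = q + 1 := by
    rw [hx3def]
    exact hoT
  have hk : 0 < Fintype.card M := Fintype.card_pos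
  have h13 := rel_zero_n M hneg x1 x3 hg1 hg3 hchi1' hchi3'
  have hx13 : x1 ≠ x3 := by
    intro h
    apply hchi3'
    rw [← h]
    exact hchi1'
  have ha3q : q + 1 ≤ a3 := Nat.le_of_dvd ha3pos ha3
  obtain ⟨b, hb10, hcase⟩ := beta_bound M
  rw [← hβdef, ← hPdef] at hcase
  rcases hcase with ⟨hbsq, hβ2⟩ | ⟨hβ2, hβ1⟩
  · have hb11 := upper_diag (b : SL2) hb10
    have hbne : ((b : SL2) : M2) 0 0 ≠ ((b : SL2) : M2) 1 1 := by
      intro h
      apply hbsq
      rw [pow_two]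
      nth_rewrite 2 [h]
      exact hb11
    have hns2 : NS ((b : SL2) : M2) := Or.inr (Or.inr hbne)
    have hg2 := good_of_nsn M hneg b hns2
    have hchi2 : SLc.chi (b : SL2) ≠ 0 := by
      unfold SLc.chi
      rw [Matrix.trace_fin_two]
      intro h
      apply hbne
      have : (((b : SL2) : M2) 0 0 - ((b : SL2) : M2) 1 1) ^ 2 = 0 := by
        linear_combination h - 4 * hb11
      exact sub_eq_zero.mp (pow_eq_zero_iff (two_ne_zero) |>.mp this)
    have h12 := rel_zero_n M hneg x1 b hg1 hg2 hchi1' hchi2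
    have h23 := not_rel_upper p q hq hpq (by omega) M b x3 hb10 hbne hoT3
    have hN2 := norm_card_le H hg2 (a2_uni hpar M b hchi2)
    have hdc2 := double_count_z H hg2
    rw [← hddef] at hdc2
    have hx12 : x1 ≠ b := by
      intro h
      apply hchi2
      rw [← h]
      exact hchi1'
    have hx32 : x3 ≠ b := by
      intro h
      apply h23.2
      rw [h]
      exact ⟨1, by simp⟩
    have hx1S : x1 ∉ insert x3 ({b} : Finset M) := by
      rw [Finset.mem_insert, Finset.mem_singleton]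
      rintro (h | h)
      · exact hx13 h
      · exact hx12 h
    have hx3S : x3 ∉ ({b} : Finset M) := by
      rw [Finset.mem_singleton]
      exact hx32
    have hpw : ∀ x ∈ insert x1 (insert x3 ({b} : Finset M)),
        ∀ y ∈ insert x1 (insert x3 ({b} : Finset M)), x ≠ y → ¬ Rel x y := by
      intro x hx y hy hxy
      rw [Finset.mem_insert, Finset.mem_insert, Finset.mem_singleton] at hx hy
      rcases hx with hx | hx | hx <;> rcases hy with hy | hy | hy
      · exact absurd (hx.trans hy.symm) hxy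
      · rw [hx, hy]
        exact h13.1
      · rw [hx, hy]
        exact h12.1
      · rw [hx, hy]
        exact h13.2
      · exact absurd (hx.trans hy.symm) hxy
      · rw [hx, hy]
        exact h23.2
      · rw [hx, hy]
        exact h12.2
      · rw [hx, hy]
        exact h23.1
      · exact absurd (hx.trans hy.symm) hxy
    have hGoodS : ∀ x ∈ insert x1 (insert x3 ({b} : Finset M)),
        Good (⟨negOne, hneg⟩ : M) x := by
      intro x hx
      rw [Finset.mem_insert, Finset.mem_insert, Finset.mem_singleton] at hx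
      rcases hx with hx | hx | hx <;> rw [hx]
      · exact hg1
      · exact hg3
      · exact hg2
    have hsum := sum_le_z H _ hGoodS hpw
    rw [Finset.sum_insert hx1S, Finset.sum_insert hx3S, Finset.sum_singleton, ← hddef] at hsum
    rcases hpar with h2F | hodd
    · have hd1 : d = 1 := by
        rw [hddef]
        exact zcard_one h2F M hneg
      rw [hd1] at hdc1 hdc2 hdc3 hsum
      obtain ⟨t, rfl⟩ : ∃ t, P = t + 1 := ⟨P - 1, by omega⟩
      obtain ⟨a, ha⟩ : ∃ a, Nat.card (Subgroup.centralizer {b}) = a + 1 :=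
        ⟨Nat.card (Subgroup.centralizer {b}) - 1, by
          have := Nat.card_pos (α := Subgroup.centralizer {b})
          omega⟩
      obtain ⟨b3, rfl⟩ : ∃ b3, a3 = b3 + 1 := ⟨a3 - 1, by omega⟩
      rw [ha] at hdc2 hN2 hβ2
      have e1 : 1 * (t + 1) - 1 = t := by omega
      have e2 : a + 1 - 1 = a := by omega
      have e3 : b3 + 1 - 1 = b3 := by omega
      rw [e1] at hdc1
      rw [e2] at hdc2
      rw [e3] at hdc3
      exact arA1 _ t β a _ b3 _ _ _ q hk hβpos hdc1 hdc2 hN2 hβ2 hdc3 ha3 (by omega)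
    · have h2F := two_ne_zero_of_odd hodd
      have hd2 : d = 2 := by
        rw [hddef]
        exact zcard_two h2F M hneg
      rw [hd2] at hdc1 hdc2 hdc3 hsum
      obtain ⟨t, rfl⟩ : ∃ t, P = t + 1 := ⟨P - 1, by omega⟩
      obtain ⟨a, ha⟩ : ∃ a, Nat.card (Subgroup.centralizer {b}) = a + 2 :=
        ⟨Nat.card (Subgroup.centralizer {b}) - 2, by
          have := two_le_cent h2F M hneg b
          omega⟩
      obtain ⟨b3, rfl⟩ : ∃ b3, a3 = b3 + 2 := ⟨a3 - 2, by omega⟩
      rw [ha] at hdc2 hN2 hβ2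
      have e1 : 2 * (t + 1) - 2 = 2 * t := by omega
      have e2 : a + 2 - 2 = a := by omega
      have e3 : b3 + 2 - 2 = b3 := by omega
      rw [e1] at hdc1
      rw [e2] at hdc2
      rw [e3] at hdc3
      exact arA2 _ t β a _ b3 _ _ _ q hk hβpos hdc1 hdc2 hN2 hβ2 hdc3 ha3 (by omega)
  · have hx1S : x1 ∉ ({x3} : Finset M) := by
      rw [Finset.mem_singleton]
      exact hx13
    have hpw : ∀ x ∈ insert x1 ({x3} : Finset M),
        ∀ y ∈ insert x1 ({x3} : Finset M), x ≠ y → ¬ Rel x y := by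
      intro x hx y hy hxy
      rw [Finset.mem_insert, Finset.mem_singleton] at hx hy
      rcases hx with hx | hx <;> rcases hy with hy | hy
      · exact absurd (hx.trans hy.symm) hxy
      · rw [hx, hy]
        exact h13.1
      · rw [hx, hy]
        exact h13.2
      · exact absurd (hx.trans hy.symm) hxy
    have hGoodS : ∀ x ∈ insert x1 ({x3} : Finset M), Good (⟨negOne, hneg⟩ : M) x := by
      intro x hx
      rw [Finset.mem_insert, Finset.mem_singleton] at hx
      rcases hx with hx | hx <;> rw [hx]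
      · exact hg1
      · exact hg3
    have hsum := sum_le_z H _ hGoodS hpw
    rw [Finset.sum_insert hx1S, Finset.sum_singleton, ← hddef] at hsum
    rcases hpar with h2F | hodd
    · have hd1 : d = 1 := by
        rw [hddef]
        exact zcard_one h2F M hneg
      rw [hd1] at hdc1 hdc3 hsum
      have hβ1' := hβ1 h2F
      obtain ⟨t, rfl⟩ : ∃ t, P = t + 1 := ⟨P - 1, by omega⟩
      obtain ⟨b3, rfl⟩ : ∃ b3, a3 = b3 + 1 := ⟨a3 - 1, by omega⟩
      have e1 : 1 * (t + 1) - 1 = t := by omega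
      have e3 : b3 + 1 - 1 = b3 := by omega
      rw [e1] at hdc1
      rw [e3] at hdc3
      exact arA1 _ t β 0 2 b3 _ 0 _ q hk hβpos hdc1 (by simp) (by norm_num) (by omega) hdc3 ha3
        (by omega)
    · have h2F := two_ne_zero_of_odd hodd
      have hd2 : d = 2 := by
        rw [hddef]
        exact zcard_two h2F M hneg
      rw [hd2] at hdc1 hdc3 hsum
      obtain ⟨t, rfl⟩ : ∃ t, P = t + 1 := ⟨P - 1, by omega⟩
      obtain ⟨b3, rfl⟩ : ∃ b3, a3 = b3 + 2 := ⟨a3 - 2, by omega⟩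
      have e1 : 2 * (t + 1) - 2 = 2 * t := by omega
      have e3 : b3 + 2 - 2 = b3 := by omega
      rw [e1] at hdc1
      rw [e3] at hdc3
      exact arA2 _ t β 0 4 b3 _ 0 _ q hk hβpos hdc1 (by simp) (by norm_num) (by omega) hdc3 ha3
        (by omega)

end Cfsg.Agent.Helper14.DD
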