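import Mathlib
import Cfsg.Agent.Helper14.DD

set_option autoImplicit false

namespace Cfsg.Agent.Helper14.DE

open Classical

open Cfsg.Agent.Helper14.Mat2 Cfsg.Agent.Helper14.SL2Odd Cfsg.Agent.Helper14.PSL2
  Cfsg.Agent.Helper14.SL2Conj Cfsg.Agent.Helper14.Torus Cfsg.Agent.Helper14.TorusB
  Cfsg.Agent.Helper14.TorusC Cfsg.Agent.Helper14.TorusD Cfsg.Agent.Helper14.TorusE
  Cfsg.Agent.Helper14.SL2T Cfsg.Agent.Helper14.SubA Cfsg.Agent.Helper14.SubD
  Cfsg.Agent.Helper14.CE3 Cfsg.Agent.Helper14.A4Sub Cfsg.Agent.Helper14.EvA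
  Cfsg.Agent.Helper14.DA Cfsg.Agent.Helper14.DB Cfsg.Agent.Helper14.DC Cfsg.Agent.Helper14.DD

variable {F : Type*} [Field F]

local notation "SL2" => Matrix.SpecialLinearGroup (Fin 2) F
local notation "M2" => Matrix (Fin 2) (Fin 2) F

set_option maxHeartbeats 1000000 in
theorem core_b [Fintype F] (hpar : (2 : F) = 0 ∨ Odd (Fintype.card F)) (p : ℕ)
    [Fact p.Prime] [CharP F p] (q : ℕ) (hq : Fintype.card F = q) (hpq : p ∣ q) (hq3 : 3 ≤ q)
    (hq9 : q ≠ 9)
    (M : Subgroup SL2) (hneg : negOne ∈ M) (T n0 : SL2) (hT : T ∈ M) (hn0 : n0 ∈ M)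
    (hoT : orderOf T = q + 1) (hn : n0 * T * n0⁻¹ * T = T * (n0 * T * n0⁻¹))
    (hnc : n0 * T ≠ T * n0) (v0 : F) (hv0 : v0 ≠ 0) (h1 : xe v0 ∈ M) :
    M = ⊤ ∨ ((2 : F) = 0 ∧ Nat.card M = 2 * (q + 1)) := by
  haveI : Fintype M := Fintype.ofFinite M
  have H := hyp0n M hneg
  have hkey := key_ineq hpar p q hq hpq hq3 M hneg T n0 hT hn0 hoT hn hnc v0 hv0 h1
  obtain ⟨P, hPdef⟩ : ∃ P : ℕ, P = Nat.card {v : F // xe v ∈ M} := ⟨_, rfl⟩
  obtain ⟨β, hβdef⟩ : ∃ β : ℕ, β = Nat.card (borM M) := ⟨_, rfl⟩
  rw [← hPdef, ← hβdef] at hkey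
  have hPdvd : P ∣ q := by
    rw [hPdef, ← hq]
    exact P_dvd M
  have hP2 : 2 ≤ P := by
    rw [hPdef]
    have h0 : xe (0 : F) ∈ M := by
      rw [xe_zero]
      exact M.one_mem
    have hne : (⟨0, h0⟩ : {v : F // xe v ∈ M}) ≠ ⟨v0, h1⟩ :=
      fun h => hv0 (congrArg Subtype.val h).symm
    haveI : Nontrivial {v : F // xe v ∈ M} := ⟨⟨_, _, hne⟩⟩
    exact Finite.one_lt_card
  have horb := beta_orbit M v0 hv0 h1
  rw [card_cent_x1u M hneg v0 hv0 h1, ← hPdef, ← hβdef] at horb
  have hT10 := no_upper_of_order p q hq hpq (by omega) T hoT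
  have htop : P = q → M = ⊤ := by
    intro hPq
    have hall := all_xe_of_card M (by rw [← hPdef, hPq, hq])
    exact top_of_all_xe M hall T hT hT10
  rcases hpar with h2F | hodd
  · rw [zcard_one h2F M hneg, one_mul] at horb
    rcases P_eq_even q P β (by omega) hPdvd hP2 hkey horb with hPq | hP2'
    · left
      exact htop hPq
    · right
      refine ⟨h2F, ?_⟩
      rw [hP2'] at horb
      have hβ2 : β ≤ 2 := by omega
      obtain ⟨hg1, hchi1, hdc1⟩ := class1u M hneg v0 hv0 h1
      obtain ⟨hg3, hchi3, a3, ha3pos, ha3, ha3def, hdc3⟩ :=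
        class3u (Or.inl h2F) p q hpq (by omega) M hneg T hT hoT n0 hn0 hn hnc
      rw [← hPdef, ← card_borM_eq, ← hβdef, zcard_one h2F M hneg, hP2'] at hdc1
      rw [zcard_one h2F M hneg] at hdc3
      have hnsT := ns_of_goodn M hneg _ hg3
      have ha3le : a3 ≤ q + 1 := by
        rw [ha3def, ← hq]
        exact cent_T_le M T hT (by rw [hq]; exact hoT) hnsT
      have ha3eq : a3 = q + 1 := le_antisymm ha3le (Nat.le_of_dvd ha3pos ha3)
      obtain ⟨x1, hx1def⟩ : ∃ x1 : M, x1 = ⟨xe v0, h1⟩ := ⟨_, rfl⟩
      obtain ⟨x3, hx3def⟩ : ∃ x3 : M, x3 = ⟨T, hT⟩ := ⟨_, rfl⟩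
      rw [← hx1def] at hg1 hdc1
      rw [← hx3def] at hg3 hdc3 ha3def
      have hchi1' : SLc.chi (x1 : SL2) = 0 := by
        rw [hx1def]
        exact hchi1
      have hchi3' : SLc.chi (x3 : SL2) ≠ 0 := by
        rw [hx3def]
        exact hchi3
      have hk : 0 < Fintype.card M := Fintype.card_pos
      have h13 := rel_zero_n M hneg x1 x3 hg1 hg3 hchi1' hchi3'
      have hx13 : x1 ≠ x3 := by
        intro h
        apply hchi3'
        rw [← h]
        exact hchi1'
      have hx1sq : x1 * x1 = 1 := by
        rw [hx1def]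
        apply Subtype.ext
        show xe v0 * xe v0 = 1
        rw [xe_add]
        have : v0 + v0 = 0 := by linear_combination v0 * h2F
        rw [this, xe_zero]
      have H1 := hyp0_of h2F M
      have hx1S : x1 ∉ ({x3} : Finset M) := by
        rw [Finset.mem_singleton]
        exact hx13
      have hpw : ∀ x ∈ insert x1 ({x3} : Finset M),
          ∀ y ∈ insert x1 ({x3} : Finset M), x ≠ y → ¬ Rel x y := by
        intro x hx y hy hxy
        rw [Finset.mem_insert, Finset.mem_singleton] at hx hy
        rcases hx with hx | hx <;> rcases hy with hy | hy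
        · exact absurd (hx.trans hy.symm) hxy
        · rw [hx, hy]
          exact h13.1
        · rw [hx, hy]
          exact h13.2
        · exact absurd (hx.trans hy.symm) hxy
      have hGoodS : ∀ x ∈ insert x1 ({x3} : Finset M), Good (⟨negOne, hneg⟩ : M) x := by
        intro x hx
        rw [Finset.mem_insert, Finset.mem_singleton] at hx
        rcases hx with hx | hx <;> rw [hx]
        · exact hg1
        · exact hg3
      have hk1 : Fintype.card M = (cls (⟨negOne, hneg⟩ : M) x1).card * β := by
        have e : 1 * 2 - 1 = 1 := by norm_num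
        rw [e, mul_one] at hdc1
        exact hdc1
      have hk2 : Fintype.card M ≤ (cls (⟨negOne, hneg⟩ : M) x1).card * 2 := by
        rw [hk1]
        exact Nat.mul_le_mul_left _ hβ2
      obtain ⟨b3, rfl⟩ : ∃ b3, a3 = b3 + 1 := ⟨a3 - 1, by omega⟩
      have e3 : b3 + 1 - 1 = b3 := by omega
      rw [e3] at hdc3
      have hall : ∀ w : M, Good (⟨negOne, hneg⟩ : M) w →
          ∃ x ∈ insert x1 ({x3} : Finset M), Rel x w := by
        intro w hw
        by_contra hcon
        push Not at hcon
        by_cases hww : w * w = 1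
        · exact hcon x1 (Finset.mem_insert_self _ _) (invol_rel H1 x1 w hg1.1 hx1sq hw.1 hww)
        · have htw : ((w : SL2) : M2).trace ≠ 0 := by
            intro h
            apply hww
            exact Subtype.ext (sq_of_tr_zero h2F (w : SL2) h)
          have ha2 := a2_of2 h2F M w htw
          have hN4 := norm_card_le H hw ha2
          have hdc4 := double_count_z H hw
          rw [zcard_one h2F M hneg] at hdc4
          have hC4 := three_le_cent w hw.1 hww
          have h4 : Fintype.card M ≤ 3 * (cls (⟨negOne, hneg⟩ : M) w).card := by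
            obtain ⟨a, ha⟩ : ∃ a, Nat.card (Subgroup.centralizer {w}) = a + 3 :=
              ⟨Nat.card (Subgroup.centralizer {w}) - 3, by omega⟩
            rw [ha] at hdc4 hN4
            have e6 : a + 3 - 1 = a + 2 := by omega
            rw [e6] at hdc4
            have h5 := Nat.mul_le_mul_left (cls (⟨negOne, hneg⟩ : M) w).card hN4
            by_contra hcon2
            push Not at hcon2
            have h6 := Nat.mul_le_mul_right (a + 2) (Nat.succ_le_of_lt hcon2)
            nlinarith
          have hwS : w ∉ insert x1 ({x3} : Finset M) := by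
            intro h
            exact hcon w h ⟨1, by simp⟩
          have hpw' : ∀ x ∈ insert w (insert x1 ({x3} : Finset M)),
              ∀ y ∈ insert w (insert x1 ({x3} : Finset M)), x ≠ y → ¬ Rel x y := by
            intro x hx y hy hxy
            rw [Finset.mem_insert] at hx hy
            rcases hx with hx | hx <;> rcases hy with hy | hy
            · exact absurd (hx.trans hy.symm) hxy
            · rw [hx]
              intro h
              exact hcon y hy (rel_symm h)
            · rw [hy]
              exact hcon x hx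
            · exact hpw x hx y hy hxy
          have hGood' : ∀ x ∈ insert w (insert x1 ({x3} : Finset M)),
              Good (⟨negOne, hneg⟩ : M) x := by
            intro x hx
            rw [Finset.mem_insert] at hx
            rcases hx with hx | hx
            · rw [hx]
              exact hw
            · exact hGoodS x hx
          have hsum4 := sum_le_z H _ hGood' hpw'
          rw [Finset.sum_insert hwS, Finset.sum_insert hx1S, Finset.sum_singleton,
            zcard_one h2F M hneg] at hsum4
          exact ar_end4 _ _ _ _ b3 q hk hk2 hdc3 ha3 (by omega) h4 hsum4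
      have hsum_eq := sum_eq_z H _ hGoodS hpw hall
      rw [Finset.sum_insert hx1S, Finset.sum_singleton, zcard_one h2F M hneg] at hsum_eq
      have hfin := ar_end _ _ _ β b3 hk hk1 hβ2 hdc3 hsum_eq
      rw [Nat.card_eq_fintype_card, hfin, ha3eq]
  · rw [zcard_two (two_ne_zero_of_odd hodd) M hneg] at horb
    have hqodd : Odd q := by
      rw [← hq]
      exact hodd
    left
    exact htop (P_eq_odd q P β hqodd hq9 hPdvd hP2 hkey horb)

end Cfsg.Agent.Helper14.DE
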