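import Mathlib
import Cfsg.Agent.Helper14.DE

set_option autoImplicit false

namespace Cfsg.Agent.Helper14.DF

open Classical

open Cfsg.Agent.Helper14.Mat2 Cfsg.Agent.Helper14.SL2Odd Cfsg.Agent.Helper14.PSL2
  Cfsg.Agent.Helper14.SL2Conj Cfsg.Agent.Helper14.Torus Cfsg.Agent.Helper14.TorusB
  Cfsg.Agent.Helper14.TorusC Cfsg.Agent.Helper14.TorusD Cfsg.Agent.Helper14.TorusE
  Cfsg.Agent.Helper14.SL2T Cfsg.Agent.Helper14.SubA Cfsg.Agent.Helper14.SubD
  Cfsg.Agent.Helper14.CE3 Cfsg.Agent.Helper14.A4Sub Cfsg.Agent.Helper14.EvA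
  Cfsg.Agent.Helper14.DA Cfsg.Agent.Helper14.DB Cfsg.Agent.Helper14.DC Cfsg.Agent.Helper14.DD
  Cfsg.Agent.Helper14.DE

variable {F : Type*} [Field F]

local notation "SL2" => Matrix.SpecialLinearGroup (Fin 2) F
local notation "M2" => Matrix (Fin 2) (Fin 2) F

theorem unip_tr (p : ℕ) [Fact p.Prime] [CharP F p] (u : SL2) (hup : u ^ p = 1) :
    (u : M2).trace = 2 := by
  have hMp : (u : M2) ^ p = 1 := by
    rw [← Matrix.SpecialLinearGroup.coe_pow, hup, Matrix.SpecialLinearGroup.coe_one]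
  have hNp : ((u : M2) - 1) ^ p = 0 := by
    rw [sub_pow_char_of_commute p (Commute.one_right _), hMp, one_pow, sub_self]
  have hnil : IsNilpotent ((u : M2) - 1) := ⟨p, hNp⟩
  have htr : ((u : M2) - 1).trace = 0 :=
    (Matrix.isNilpotent_trace_of_isNilpotent hnil).eq_zero
  rw [Matrix.trace_fin_two] at htr
  simp only [Matrix.sub_apply, Matrix.one_apply_eq] at htr
  rw [Matrix.trace_fin_two]
  linear_combination htr

theorem conj_unip (u : SL2) (hu1 : u ≠ 1) (htr : (u : M2).trace = 2) :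
    ∃ (g : SL2) (v0 : F), v0 ≠ 0 ∧ g * u * g⁻¹ = xe v0 := by
  obtain ⟨a, b, c, d, hk⟩ : ∃ a b c d : F, (u : M2) = !![a, b; c, d] :=
    ⟨_, _, _, _, Matrix.eta_fin_two _⟩
  have hdet := u.det_coe
  rw [hk, Matrix.det_fin_two_of] at hdet
  rw [hk, Matrix.trace_fin_two_of] at htr
  by_cases hc : c = 0
  · subst hc
    have ha : (a - 1) ^ 2 = 0 := by linear_combination a * htr - hdet
    have ha1 : a = 1 := sub_eq_zero.mp (pow_eq_zero_iff (two_ne_zero) |>.mp ha)
    have hd1 : d = 1 := by linear_combination htr - ha1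
    have hb : b ≠ 0 := by
      intro hb0
      apply hu1
      apply Subtype.ext
      rw [hk, ha1, hd1, hb0, Matrix.SpecialLinearGroup.coe_one, Matrix.one_fin_two]
    refine ⟨1, b, hb, ?_⟩
    rw [one_mul, inv_one, mul_one]
    apply Subtype.ext
    rw [hk, xe_coe, ha1, hd1]
  · obtain ⟨s, hs⟩ : ∃ s : F, s * c = 1 - d := ⟨(1 - d) / c, div_mul_cancel₀ _ hc⟩
    have hb : b + s ^ 2 * c = 0 := by
      have h : c * (b + s ^ 2 * c) = 0 := by
        linear_combination (s * c + 1 - d) * hs - hdet + d * htr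
      exact (mul_eq_zero.mp h).resolve_left hc
    refine ⟨mk2 0 1 (-1) s (by ring), -c, neg_ne_zero.mpr hc, ?_⟩
    apply conj_eq
    rw [mk2_coe, hk, xe_coe, Matrix.mul_fin_two, Matrix.mul_fin_two]
    congr 1
    ext i j
    fin_cases i <;> fin_cases j <;> simp <;>
      first | ring1 | linear_combination hs | linear_combination hs - htr |
        linear_combination s * hs - hb | linear_combination -hs |
        linear_combination htr - hs | linear_combination hb - s * hs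

theorem core_p [Fintype F] (hpar : (2 : F) = 0 ∨ Odd (Fintype.card F)) (p : ℕ)
    [Fact p.Prime] [CharP F p] (q : ℕ) (hq : Fintype.card F = q) (hpq : p ∣ q) (hq3 : 3 ≤ q)
    (hq9 : q ≠ 9)
    (M : Subgroup SL2) (hneg : negOne ∈ M) (T n0 : SL2) (hT : T ∈ M) (hn0 : n0 ∈ M)
    (hoT : orderOf T = q + 1) (hn : n0 * T * n0⁻¹ * T = T * (n0 * T * n0⁻¹))
    (hnc : n0 * T ≠ T * n0) (hpM : p ∣ Nat.card M) :
    M = ⊤ ∨ ((2 : F) = 0 ∧ Nat.card M = 2 * (q + 1)) := by
  have hpp : p.Prime := Fact.out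
  obtain ⟨u, hu⟩ := exists_prime_orderOf_dvd_card' (G := M) p hpM
  have hu1 : (u : SL2) ≠ 1 := by
    intro h
    have h' : u = 1 := Subtype.ext h
    rw [h', orderOf_one] at hu
    exact hpp.one_lt.ne hu
  have hup : (u : SL2) ^ p = 1 := by
    have h := pow_orderOf_eq_one u
    rw [hu] at h
    exact congrArg Subtype.val h
  have htr := unip_tr p (u : SL2) hup
  obtain ⟨g, v0, hv0, hg⟩ := conj_unip (u : SL2) hu1 htr
  obtain ⟨M', hM'⟩ : ∃ M' : Subgroup SL2, M' = M.map (MulAut.conj g).toMonoidHom := ⟨_, rfl⟩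
  have hmem : ∀ x ∈ M, g * x * g⁻¹ ∈ M' := by
    intro x hx
    rw [hM']
    exact ⟨x, hx, by simp [MulAut.conj_apply]⟩
  have hcard : Nat.card M' = Nat.card M := by
    rw [hM']
    exact Subgroup.card_map_of_injective (MulAut.conj g).injective
  have hneg' : negOne ∈ M' := by
    have h := hmem negOne hneg
    rwa [← negOne_comm, mul_inv_cancel_right] at h
  have h1' : xe v0 ∈ M' := by
    rw [← hg]
    exact hmem _ u.2
  have hoT' : orderOf (g * T * g⁻¹) = q + 1 := by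
    have e : g * T * g⁻¹ = MulAut.conj g T := by rw [MulAut.conj_apply]
    rw [e, MulEquiv.orderOf_eq]
    exact hoT
  have hn' : (g * n0 * g⁻¹) * (g * T * g⁻¹) * (g * n0 * g⁻¹)⁻¹ * (g * T * g⁻¹) =
      (g * T * g⁻¹) * ((g * n0 * g⁻¹) * (g * T * g⁻¹) * (g * n0 * g⁻¹)⁻¹) := by
    have e1 : (g * n0 * g⁻¹) * (g * T * g⁻¹) * (g * n0 * g⁻¹)⁻¹ * (g * T * g⁻¹) =
        g * (n0 * T * n0⁻¹ * T) * g⁻¹ := by group
    have e2 : (g * T * g⁻¹) * ((g * n0 * g⁻¹) * (g * T * g⁻¹) * (g * n0 * g⁻¹)⁻¹) =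
        g * (T * (n0 * T * n0⁻¹)) * g⁻¹ := by group
    rw [e1, e2, hn]
  have hnc' : (g * n0 * g⁻¹) * (g * T * g⁻¹) ≠ (g * T * g⁻¹) * (g * n0 * g⁻¹) := by
    intro h
    apply hnc
    have e1 : (g * n0 * g⁻¹) * (g * T * g⁻¹) = g * (n0 * T) * g⁻¹ := by group
    have e2 : (g * T * g⁻¹) * (g * n0 * g⁻¹) = g * (T * n0) * g⁻¹ := by group
    rw [e1, e2] at h
    have h' := congrArg (fun x => g⁻¹ * x * g) h
    have e3 : ∀ y : SL2, g⁻¹ * (g * y * g⁻¹) * g = y := fun y => by group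
    simp only [e3] at h'
    exact h'
  rcases core_b hpar p q hq hpq hq3 hq9 M' hneg' (g * T * g⁻¹) (g * n0 * g⁻¹) (hmem T hT)
    (hmem n0 hn0) hoT' hn' hnc' v0 hv0 h1' with htop | ⟨h2F, hc⟩
  · left
    rw [← Subgroup.card_eq_iff_eq_top] at htop ⊢
    rw [← hcard]
    exact htop
  · right
    exact ⟨h2F, by rw [← hcard]; exact hc⟩

end Cfsg.Agent.Helper14.DF
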