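import Mathlib
import Cfsg.Agent.Helper14.DF

set_option autoImplicit false

namespace Cfsg.Agent.Helper14.DG

open Cfsg.Agent.Helper14.Mat2 Cfsg.Agent.Helper14.SL2Odd Cfsg.Agent.Helper14.PSL2
  Cfsg.Agent.Helper14.SL2Conj Cfsg.Agent.Helper14.Torus Cfsg.Agent.Helper14.TorusB
  Cfsg.Agent.Helper14.TorusC Cfsg.Agent.Helper14.TorusD Cfsg.Agent.Helper14.TorusE
  Cfsg.Agent.Helper14.SL2T Cfsg.Agent.Helper14.SubA Cfsg.Agent.Helper14.SubD
  Cfsg.Agent.Helper14.A4Sub Cfsg.Agent.Helper14.EvA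
  Cfsg.Agent.Helper14.DA Cfsg.Agent.Helper14.DB Cfsg.Agent.Helper14.DC Cfsg.Agent.Helper14.DD
  Cfsg.Agent.Helper14.DE Cfsg.Agent.Helper14.DF

section abs

theorem syl_index {G : Type*} [Group G] [Finite G] (ℓ : ℕ) [Fact ℓ.Prime] (S : Subgroup G)
    (hS : Nat.card S = ℓ) (hℓ : ¬ ℓ ^ 2 ∣ Nat.card G) :
    (Subgroup.normalizer (S : Set G)).index ≡ 1 [MOD ℓ] := by
  have hpp : ℓ.Prime := Fact.out
  have hdvd : ℓ ∣ Nat.card G := by
    rw [← hS]
    exact Subgroup.card_subgroup_dvd_card S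
  have hfact : (Nat.card G).factorization ℓ = 1 := by
    have hne : Nat.card G ≠ 0 := Nat.card_pos.ne'
    have h1 : 1 ≤ (Nat.card G).factorization ℓ :=
      (hpp.pow_dvd_iff_le_factorization hne).mp (by rwa [pow_one])
    have h2 : ¬ 2 ≤ (Nat.card G).factorization ℓ :=
      fun h => hℓ ((hpp.pow_dvd_iff_le_factorization hne).mpr h)
    omega
  obtain ⟨P, hP⟩ : ∃ P : Sylow ℓ G, (P : Subgroup G) = S :=
    ⟨Sylow.ofCard S (by rw [hS, hfact, pow_one]), Sylow.coe_ofCard S _⟩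
  have h1 := Sylow.card_eq_index_normalizer P
  have h2 := card_sylow_modEq_one ℓ G
  rw [h1] at h2
  subst hP
  exact h2

theorem inv_conj {G : Type*} [Group G] (n0 A : G) (h : n0 * A * n0⁻¹ = A⁻¹) (x : G)
    (hx : x ∈ Subgroup.zpowers A) : n0 * x * n0⁻¹ = x⁻¹ := by
  obtain ⟨k, rfl⟩ := Subgroup.mem_zpowers_iff.mp hx
  rw [← conj_zpow, h, inv_zpow]

theorem small_cases : ∀ q ∈ Finset.Icc 5 59, ∀ K ∈ ({24, 48, 120} : Finset ℕ),
    (q % 2 = 1 ∧ q ≠ 7 ∧ q ≠ 9 ∧ 2 * (q + 1) ∣ K ∧ K ≠ 2 * (q + 1) ∧ K ∣ q * (q ^ 2 - 1)) →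
      (q = 5 ∧ K = 24) ∨ (q = 5 ∧ K = 120) ∨ (q = 11 ∧ K = 120) ∨ (q = 19 ∧ K = 120) ∨
        (q = 29 ∧ K = 120) := by decide

end abs

variable {F : Type*} [Field F]

local notation "SL2" => Matrix.SpecialLinearGroup (Fin 2) F
local notation "M2" => Matrix (Fin 2) (Fin 2) F

theorem norm_of_conj_mem (A : SL2)
    (hself : ∀ x ∈ Subgroup.zpowers A, NS (x : M2) →
      Subgroup.centralizer ({x} : Set SL2) = Subgroup.zpowers A)
    (y g : SL2) (hy : y ∈ Subgroup.zpowers A) (hns : NS (y : M2))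
    (hgy : g * y * g⁻¹ ∈ Subgroup.zpowers A) :
    g ∈ Subgroup.normalizer ((Subgroup.zpowers A : Subgroup SL2) : Set SL2) := by
  have hns' : NS ((g * y * g⁻¹ : SL2) : M2) := by
    apply NS_conj g⁻¹ (g * y * g⁻¹)
    have e : g⁻¹ * (g * y * g⁻¹) * g⁻¹⁻¹ = y := by group
    rw [e]
    exact hns
  have h1 := hself y hy hns
  have h2 := hself _ hgy hns'
  rw [Subgroup.mem_normalizer_iff]
  intro x
  constructor
  · intro hx
    rw [← h2, Subgroup.mem_centralizer_singleton_iff]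
    rw [← h1, Subgroup.mem_centralizer_singleton_iff] at hx
    calc g * x * g⁻¹ * (g * y * g⁻¹) = g * (x * y) * g⁻¹ := by group
      _ = g * (y * x) * g⁻¹ := by rw [hx]
      _ = g * y * g⁻¹ * (g * x * g⁻¹) := by group
  · intro hx
    rw [← h2, Subgroup.mem_centralizer_singleton_iff] at hx
    rw [← h1, Subgroup.mem_centralizer_singleton_iff]
    have e1 : x * y = g⁻¹ * (g * x * g⁻¹ * (g * y * g⁻¹)) * g := by group
    have e2 : y * x = g⁻¹ * (g * y * g⁻¹ * (g * x * g⁻¹)) * g := by group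
    rw [e1, e2, hx]

theorem negOne_mem_normalizer (H : Subgroup SL2) :
    negOne ∈ Subgroup.normalizer ((H : Subgroup SL2) : Set SL2) := by
  rw [Subgroup.mem_normalizer_iff]
  intro x
  rw [negOne_comm, mul_inv_cancel_right]

theorem negOne_order_le : orderOf (negOne : SL2) ∣ 2 := by
  apply orderOf_dvd_of_pow_eq_one
  rw [pow_two]
  exact negOne_mul_self

theorem ns_of_order (y : SL2) (ℓ : ℕ) (hℓ : 3 ≤ ℓ) (ho : orderOf y = ℓ) : NS (y : M2) := by
  by_contra hcon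
  rcases scalar_of_not_NS y hcon with h | h
  · rw [h, orderOf_one] at ho
    omega
  · have := negOne_order_le (F := F)
    rw [← h, ho] at this
    have := Nat.le_of_dvd (by norm_num) this
    omega

theorem syl_app [Fintype F] (q : ℕ) (A n0 : SL2) (hA : orderOf A = q + 1)
    (hself : ∀ x ∈ Subgroup.zpowers A, NS (x : M2) →
      Subgroup.centralizer ({x} : Set SL2) = Subgroup.zpowers A)
    (hn0A : n0 * A * n0⁻¹ = A⁻¹) (hnc : n0 * A ≠ A * n0)
    (hNcard : Nat.card (Subgroup.normalizer ((Subgroup.zpowers A : Subgroup SL2) : Set SL2)) =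
      2 * (q + 1))
    (M : Subgroup SL2) (hAM : A ∈ M) (hn0M : n0 ∈ M)
    (ℓ : ℕ) [Fact ℓ.Prime] (hℓ3 : 3 ≤ ℓ) (j : ℕ) (hj : orderOf (A ^ j) = ℓ)
    (hℓ : ¬ ℓ ^ 2 ∣ Nat.card M) :
    ∃ i : ℕ, Nat.card M = 2 * (q + 1) * i ∧ i ≡ 1 [MOD ℓ] := by
  have hjA : A ^ j ∈ Subgroup.zpowers A := Subgroup.npow_mem_zpowers A j
  have hzle : Subgroup.zpowers (A ^ j) ≤ Subgroup.zpowers A := by
    rw [Subgroup.zpowers_le]
    exact hjA
  have hAzM : Subgroup.zpowers A ≤ M := by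
    rw [Subgroup.zpowers_le]
    exact hAM
  have hzM : Subgroup.zpowers (A ^ j) ≤ M := le_trans hzle hAzM
  have hnsj : NS ((A ^ j : SL2) : M2) := ns_of_order _ ℓ hℓ3 hj
  obtain ⟨S, hS⟩ : ∃ S : Subgroup M, S = (Subgroup.zpowers (A ^ j)).subgroupOf M := ⟨_, rfl⟩
  have hmemS : ∀ x : M, x ∈ S ↔ (x : SL2) ∈ Subgroup.zpowers (A ^ j) := by
    intro x
    rw [hS, Subgroup.mem_subgroupOf]
  have hScard : Nat.card S = ℓ := by
    rw [hS, Nat.card_congr (Subgroup.subgroupOfEquivOfLe hzM).toEquiv, Nat.card_zpowers, hj]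
  have hidx := syl_index ℓ S hScard hℓ
  obtain ⟨NM, hNM⟩ : ∃ NM : Subgroup M, NM = Subgroup.normalizer (S : Set M) := ⟨_, rfl⟩
  rw [← hNM] at hidx
  have hmemNM : ∀ x : M, x ∈ NM ↔ ∀ y : M, y ∈ S ↔ x * y * x⁻¹ ∈ S := by
    intro x
    rw [hNM]
    exact Subgroup.mem_normalizer_iff
  have hcm := Subgroup.card_mul_index NM
  -- the image of NM in SL2
  obtain ⟨K, hK⟩ : ∃ K : Subgroup SL2, K = NM.map M.subtype := ⟨_, rfl⟩
  have hKcard : Nat.card K = Nat.card NM := by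
    rw [hK]
    exact Subgroup.card_map_of_injective M.subtype_injective
  have hKle : K ≤ Subgroup.normalizer ((Subgroup.zpowers A : Subgroup SL2) : Set SL2) := by
    intro g hg
    rw [hK] at hg
    obtain ⟨x, hx, rfl⟩ := hg
    have hx' := (hmemNM x).mp hx
    have h1 := (hx' ⟨A ^ j, hzM (Subgroup.mem_zpowers _)⟩).mp
      ((hmemS _).mpr (Subgroup.mem_zpowers _))
    rw [hmemS] at h1
    exact norm_of_conj_mem A hself (A ^ j) (x : SL2) hjA hnsj (hzle h1)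
  have hcommA : ∀ y ∈ Subgroup.zpowers A, A * y * A⁻¹ = y := by
    intro y hy
    obtain ⟨k, rfl⟩ := Subgroup.mem_zpowers_iff.mp hy
    rw [← conj_zpow, mul_inv_cancel_right]
  have hAK : A ∈ K := by
    rw [hK]
    refine ⟨⟨A, hAM⟩, ?_, rfl⟩
    apply (hmemNM _).mpr
    intro x
    rw [hmemS, hmemS]
    show (x : SL2) ∈ Subgroup.zpowers (A ^ j) ↔ A * (x : SL2) * A⁻¹ ∈ Subgroup.zpowers (A ^ j)
    constructor
    · intro hx
      rw [hcommA _ (hzle hx)]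
      exact hx
    · intro hx
      have e : (x : SL2) = A⁻¹ * (A * (x : SL2) * A⁻¹) * A := by group
      have e2 := hcommA _ (hzle hx)
      rw [e, ← e2]
      have e3 : A⁻¹ * (A * (A * (x : SL2) * A⁻¹) * A⁻¹) * A = A * (x : SL2) * A⁻¹ := by group
      rw [e3]
      exact hx
  have hn0K : n0 ∈ K := by
    rw [hK]
    refine ⟨⟨n0, hn0M⟩, ?_, rfl⟩
    apply (hmemNM _).mpr
    intro x
    rw [hmemS, hmemS]
    show (x : SL2) ∈ Subgroup.zpowers (A ^ j) ↔ n0 * (x : SL2) * n0⁻¹ ∈ Subgroup.zpowers (A ^ j)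
    constructor
    · intro hx
      rw [inv_conj n0 A hn0A _ (hzle hx)]
      exact inv_mem hx
    · intro hx
      have hn0A' : n0⁻¹ * A * n0⁻¹⁻¹ = A⁻¹ := by
        have h5 : n0 * A⁻¹ * n0⁻¹ = A := by
          have e : n0 * A⁻¹ * n0⁻¹ = (n0 * A * n0⁻¹)⁻¹ := by group
          rw [e, hn0A, inv_inv]
        calc n0⁻¹ * A * n0⁻¹⁻¹ = n0⁻¹ * (n0 * A⁻¹ * n0⁻¹) * n0⁻¹⁻¹ := by rw [h5]
          _ = A⁻¹ := by group
      have h3 := inv_conj n0⁻¹ A hn0A' _ (hzle hx)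
      have e : (x : SL2) = n0⁻¹ * (n0 * (x : SL2) * n0⁻¹) * n0⁻¹⁻¹ := by group
      rw [e, h3]
      exact inv_mem hx
  have hKge : 2 * (q + 1) ≤ Nat.card K := by
    have hzK : Subgroup.zpowers A ≤ K := by
      rw [Subgroup.zpowers_le]
      exact hAK
    have hd := Subgroup.card_dvd_of_le hzK
    rw [Nat.card_zpowers, hA] at hd
    obtain ⟨c, hc⟩ := hd
    have hc0 : c ≠ 0 := by
      rintro rfl
      have : 0 < Nat.card K := Nat.card_pos
      omega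
    have hc1 : c ≠ 1 := by
      rintro rfl
      have heq : Subgroup.zpowers A = K := Subgroup.eq_of_le_of_card_ge hzK (by
        rw [Nat.card_zpowers, hA, hc, mul_one])
      have hn0z : n0 ∈ Subgroup.zpowers A := by
        rw [heq]
        exact hn0K
      have := hcommA n0 hn0z
      apply hnc
      calc n0 * A = (A * n0 * A⁻¹) * A := by rw [this]
        _ = A * n0 := by group
    have hc2 : 2 ≤ c := by omega
    rw [hc]
    calc 2 * (q + 1) = (q + 1) * 2 := by ring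
      _ ≤ (q + 1) * c := Nat.mul_le_mul_left _ hc2
  have hKcard2 : Nat.card K = 2 * (q + 1) := by
    have := Subgroup.card_le_of_le hKle
    rw [hNcard] at this
    omega
  refine ⟨NM.index, ?_, hidx⟩
  rw [← hcm, ← hKcard, hKcard2]

end Cfsg.Agent.Helper14.DG
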