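import Mathlib
import Cfsg.Agent.Helper14.EvA

set_option autoImplicit false

namespace Cfsg.Agent.Helper14.EvB

open Classical

open Cfsg.Agent.Helper14.Mat2 Cfsg.Agent.Helper14.SL2Odd Cfsg.Agent.Helper14.PSL2
  Cfsg.Agent.Helper14.SL2Conj Cfsg.Agent.Helper14.Torus Cfsg.Agent.Helper14.TorusB
  Cfsg.Agent.Helper14.TorusC Cfsg.Agent.Helper14.TorusD Cfsg.Agent.Helper14.TorusE
  Cfsg.Agent.Helper14.SL2T Cfsg.Agent.Helper14.SubA Cfsg.Agent.Helper14.SubD
  Cfsg.Agent.Helper14.CE3 Cfsg.Agent.Helper14.A4Sub Cfsg.Agent.Helper14.EvA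

variable {F : Type*} [Field F] {K : Type*} [Field K]

local notation "SL2" => Matrix.SpecialLinearGroup (Fin 2) F
local notation "M2" => Matrix (Fin 2) (Fin 2) F

theorem card_cent_x1e (h2 : (2 : F) = 0) (M : Subgroup SL2) (h1 : xe 1 ∈ M) :
    Nat.card (Subgroup.centralizer {(⟨xe 1, h1⟩ : M)}) = Nat.card {v : F // xe v ∈ M} := by
  let f : {v : F // xe v ∈ M} → Subgroup.centralizer {(⟨xe 1, h1⟩ : M)} := fun v =>
    ⟨⟨xe (v : F), v.2⟩, by
      rw [Subgroup.mem_centralizer_singleton_iff]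
      apply Subtype.ext
      show xe (v : F) * xe 1 = xe 1 * xe (v : F)
      rw [xe_add, xe_add, add_comm]⟩
  have hinj : Function.Injective f := by
    intro v v' h
    have e : xe (v : F) = xe (v' : F) :=
      congrArg (fun c : Subgroup.centralizer {(⟨xe 1, h1⟩ : M)} => ((c : M) : SL2)) h
    have e01 := congrArg (fun m : SL2 => (m : M2) 0 1) e
    simp only [xe_coe] at e01
    simp at e01
    exact Subtype.ext e01
  have hsurj : Function.Surjective f := by
    intro c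
    have hc := c.2
    rw [Subgroup.mem_centralizer_singleton_iff] at hc
    have hc' : ((c : M) : SL2) * xe 1 = xe 1 * ((c : M) : SL2) := congrArg Subtype.val hc
    obtain ⟨h10, hd⟩ := SubJ.comm_xe_one _ hc'
    have h := upper_form2 h2 _ h10 hd
    refine ⟨⟨(((c : M) : SL2) : M2) 0 1, ?_⟩, ?_⟩
    · rw [← h]
      exact (c : M).2
    · apply Subtype.ext
      apply Subtype.ext
      exact h.symm
  rw [← Nat.card_congr (Equiv.ofBijective f ⟨hinj, hsurj⟩)]

theorem card_norm_x1e (h2 : (2 : F) = 0) (M : Subgroup SL2) (h1 : xe 1 ∈ M)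
    (hg : Good (1 : M) (⟨xe 1, h1⟩ : M)) :
    Nat.card (Subgroup.normalizer
      ((Subgroup.centralizer {(⟨xe 1, h1⟩ : M)} : Subgroup M) : Set M)) =
      Nat.card {n : M // ((n : SL2) : M2) 1 0 = 0} := by
  apply Nat.card_congr
  apply Equiv.subtypeEquivRight
  intro n
  rw [mem_norm_iff (hyp0_of h2 M) hg n]
  rw [← SubJ.conj_xe_comm]
  constructor
  · intro h
    exact congrArg Subtype.val h.eq
  · intro h
    exact Subtype.ext h

theorem class1e [Fintype K] (h2 : (2 : F) = 0) (ι : K →+* F)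
    (M : Subgroup SL2) [Fintype M]
    (hM : ∀ g : SL2, (∀ i j, (g : M2) i j ∈ Set.range ι) → g ∈ M)
    (hΛ : ∀ b ∈ M, (b : M2) 1 0 = 0 → (b : M2) 0 0 ∈ Set.range ι)
    (h1 : xe 1 ∈ M) :
    (⟨xe 1, h1⟩ : M) ≠ 1 ∧ ((xe (1 : F) : SL2) : M2).trace = 0 ∧ xe (1 : F) * xe 1 = 1 ∧
      Fintype.card M * (Nat.card {v : F // xe v ∈ M} - 1) =
        (cls (1 : M) (⟨xe 1, h1⟩ : M)).card *
          ((Fintype.card K - 1) * Nat.card {v : F // xe v ∈ M}) := by
  have hne : (⟨xe 1, h1⟩ : M) ≠ 1 := by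
    intro h
    have e : xe (1 : F) = 1 := congrArg Subtype.val h
    have e01 := congrArg (fun m : SL2 => (m : M2) 0 1) e
    simp only [xe_coe, Matrix.SpecialLinearGroup.coe_one] at e01
    simp at e01
  have hg : Good (1 : M) (⟨xe 1, h1⟩ : M) := good_of_ne M _ hne
  refine ⟨hne, ?_, ?_, ?_⟩
  · rw [xe_coe, Matrix.trace_fin_two_of]
    linear_combination h2
  · rw [xe_add]
    have : (1 : F) + 1 = 0 := by linear_combination h2
    rw [this, xe_zero]
  · have hdc := double_count (hyp0_of h2 M) hg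
    rw [card_cent_x1e h2 M h1, card_norm_x1e h2 M h1 hg, SubL.card_borel ι M hM hΛ,
      pair_card] at hdc
    exact hdc

theorem class2e [Fintype K] (h2 : (2 : F) = 0) (ι : K →+* F)
    (M : Subgroup SL2) [Fintype M]
    (hM : ∀ g : SL2, (∀ i j, (g : M2) i j ∈ Set.range ι) → g ∈ M)
    (hΛ : ∀ b ∈ M, (b : M2) 1 0 = 0 → (b : M2) 0 0 ∈ Set.range ι)
    (u0 : Kˣ) (hu0 : (u0 : K) ^ 2 ≠ 1) :
    (⟨SubL.dg ι u0, SubL.dg_mem ι M hM u0⟩ : M) ≠ 1 ∧
      ((SubL.dg ι u0 : SL2) : M2).trace ≠ 0 ∧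
      Nat.card (Subgroup.centralizer {(⟨SubL.dg ι u0, SubL.dg_mem ι M hM u0⟩ : M)}) =
        Fintype.card K - 1 ∧
      Fintype.card M * (Fintype.card K - 1 - 1) =
        (cls (1 : M) (⟨SubL.dg ι u0, SubL.dg_mem ι M hM u0⟩ : M)).card *
          (2 * (Fintype.card K - 1)) := by
  have hinv : ι ((u0⁻¹ : Kˣ) : K) = (ι (u0 : K))⁻¹ := by
    rw [Units.val_inv_eq_inv_val, map_inv₀]
  have hne : ι (u0 : K) ≠ ι ((u0⁻¹ : Kˣ) : K) := by
    intro hh
    have h1 := ι.injective hh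
    apply hu0
    rw [pow_two]
    nth_rewrite 2 [h1]
    exact Units.mul_inv u0
  have htr : ((SubL.dg ι u0 : SL2) : M2).trace ≠ 0 := by
    rw [SubL.dg_coe, Matrix.trace_fin_two_of]
    intro h
    apply hne
    linear_combination h - ι ((u0⁻¹ : Kˣ) : K) * h2
  have hne1 : (⟨SubL.dg ι u0, SubL.dg_mem ι M hM u0⟩ : M) ≠ 1 := by
    intro h
    have e : SubL.dg ι u0 = 1 := congrArg Subtype.val h
    apply htr
    rw [e, Matrix.SpecialLinearGroup.coe_one, Matrix.trace_fin_two]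
    simp only [Matrix.one_apply_eq]
    linear_combination h2
  have hg : Good (1 : M) (⟨SubL.dg ι u0, SubL.dg_mem ι M hM u0⟩ : M) := good_of_ne M _ hne1
  have hconj : SubM.wel ι * SubL.dg ι u0 * (SubM.wel ι)⁻¹ = SubL.dg ι u0⁻¹ := by
    apply conj_eq
    rw [SubM.wel_coe, SubL.dg_coe, SubL.dg_coe, Matrix.mul_fin_two, Matrix.mul_fin_two]
    congr 1
    ext i j
    fin_cases i <;> fin_cases j <;> simp
  have hN := norm_card_eq0 (hyp0_of h2 M) hg
    (a2_of2 h2 M (⟨SubL.dg ι u0, SubL.dg_mem ι M hM u0⟩ : M) htr)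
    (⟨SubM.wel ι, SubM.wel_mem ι M hM⟩ : M)
    (by
      apply Subtype.ext
      show SubM.wel ι * SubL.dg ι u0 * (SubM.wel ι)⁻¹ * SubL.dg ι u0 =
        SubL.dg ι u0 * (SubM.wel ι * SubL.dg ι u0 * (SubM.wel ι)⁻¹)
      rw [hconj]
      exact SubM.dg_comm ι _ _)
    (by
      intro hc
      have e : SubM.wel ι * SubL.dg ι u0 = SubL.dg ι u0 * SubM.wel ι := congrArg Subtype.val hc.eq
      have e' := congrArg (fun m : SL2 => (m : M2) 0 1) e
      simp only [Matrix.SpecialLinearGroup.coe_mul, SubM.wel_coe, SubL.dg_coe,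
        Matrix.mul_fin_two] at e'
      simp at e'
      apply hne
      rw [hinv]
      exact e'.symm)
  have hdc := double_count (hyp0_of h2 M) hg
  rw [hN, SubM.card_cent_dg ι M hM hΛ u0 hu0, pair_card] at hdc
  exact ⟨hne1, htr, SubM.card_cent_dg ι M hM hΛ u0 hu0, hdc⟩

theorem class3e (h2 : (2 : F) = 0) (q : ℕ) (hq2 : 2 ≤ q)
    (M : Subgroup SL2) [Fintype M] (T : SL2) (hT : T ∈ M)
    (hoT : orderOf T = q + 1) (n0 : SL2) (hn0 : n0 ∈ M)
    (hn : n0 * T * n0⁻¹ * T = T * (n0 * T * n0⁻¹)) (hnc : n0 * T ≠ T * n0) :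
    (⟨T, hT⟩ : M) ≠ 1 ∧ (T : M2).trace ≠ 0 ∧
      ∃ a3 : ℕ, 0 < a3 ∧ (q + 1) ∣ a3 ∧
        a3 = Nat.card (Subgroup.centralizer {(⟨T, hT⟩ : M)}) ∧
        Fintype.card M * (a3 - 1) = (cls (1 : M) (⟨T, hT⟩ : M)).card * (2 * a3) := by
  have htr : (T : M2).trace ≠ 0 := by
    intro h
    have h1 := sq_of_tr_zero h2 T h
    have h3 : q + 1 ∣ 2 := by
      rw [← hoT]
      apply orderOf_dvd_of_pow_eq_one
      rw [pow_two]
      exact h1
    have := Nat.le_of_dvd (by norm_num) h3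
    omega
  have hne1 : (⟨T, hT⟩ : M) ≠ 1 := by
    intro h
    have e : T = 1 := congrArg Subtype.val h
    rw [e, orderOf_one] at hoT
    omega
  have hg : Good (1 : M) (⟨T, hT⟩ : M) := good_of_ne M _ hne1
  refine ⟨hne1, htr, Nat.card (Subgroup.centralizer {(⟨T, hT⟩ : M)}), Nat.card_pos, ?_, rfl, ?_⟩
  · have hmem : (⟨T, hT⟩ : M) ∈ Subgroup.centralizer {(⟨T, hT⟩ : M)} := by
      rw [Subgroup.mem_centralizer_singleton_iff]
    have ho : orderOf (⟨(⟨T, hT⟩ : M), hmem⟩ : Subgroup.centralizer {(⟨T, hT⟩ : M)}) = q + 1 := by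
      rw [Subgroup.orderOf_mk, Subgroup.orderOf_mk, hoT]
    rw [← ho]
    exact orderOf_dvd_natCard _
  · have hN := norm_card_eq0 (hyp0_of h2 M) hg
      (a2_of2 h2 M (⟨T, hT⟩ : M) htr) (⟨n0, hn0⟩ : M) (Subtype.ext hn)
      (fun hc => hnc (congrArg Subtype.val hc.eq))
    have hdc := double_count (hyp0_of h2 M) hg
    rw [hN, pair_card] at hdc
    exact hdc

theorem V_smul_rat2 [Finite K] [CharP K 2] (ι : K →+* F) (M : Subgroup SL2)
    (hM : ∀ g : SL2, (∀ i j, (g : M2) i j ∈ Set.range ι) → g ∈ M)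
    (k : K) {v : F} (hv : xe v ∈ M) : xe (ι k * v) ∈ M := by
  obtain ⟨s, hs⟩ := FiniteField.isSquare_of_char_two (ringChar.eq K 2) k
  by_cases hs0 : s = 0
  · rw [hs, hs0, mul_zero, map_zero, zero_mul, xe_zero]
    exact M.one_mem
  · have hd : ι s * ι s⁻¹ - ι 0 * ι 0 = 1 := by
      rw [← map_mul, mul_inv_cancel₀ hs0, map_one, map_zero]
      ring
    have hmem := SubK.rat_mk2 ι M hM s 0 0 s⁻¹ hd
    have := SubK.V_conj_upper M _ hmem (by rw [mk2_coe]; simp) hv
    rw [mk2_coe] at this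
    have e : ι k * v = ι s ^ 2 * v := by
      rw [hs, map_mul]
      ring
    rw [e]
    simpa using this

theorem diag_rational2 [Fintype F] [Fintype K] [CharP K 2] (ι : K →+* F) (h2 : (2 : F) = 0)
    (r : ℕ) (hr : r.Prime)
    (hcard : Fintype.card F = Fintype.card K ^ r)
    (M : Subgroup SL2) (hM : ∀ g : SL2, (∀ i j, (g : M2) i j ∈ Set.range ι) → g ∈ M)
    (hV : ¬ ∀ v : F, xe v ∈ M) (b : SL2) (hb : b ∈ M) (h10 : (b : M2) 1 0 = 0) :
    (b : M2) 0 0 ∈ Set.range ι := by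
  letI : Algebra K F := ι.toAlgebra
  have halg : ∀ k : K, algebraMap K F k = ι k := fun k => rfl
  have hK1 : 1 < Fintype.card K := Fintype.one_lt_card
  have hfin : Module.finrank K F = r := by
    have h1 := Module.card_eq_pow_finrank (K := K) (V := F)
    rw [hcard] at h1
    exact (Nat.pow_right_injective hK1 h1).symm
  have hdich : ∀ x : F, x ∈ Set.range ι ∨ IntermediateField.adjoin K {x} = ⊤ := by
    intro x
    have hmul := Module.finrank_mul_finrank K (IntermediateField.adjoin K {x}) F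
    rw [hfin] at hmul
    have hd : Module.finrank K (IntermediateField.adjoin K {x}) ∣ r := ⟨_, hmul.symm⟩
    rcases (Nat.dvd_prime hr).mp hd with h | h
    · left
      have hbot := IntermediateField.finrank_eq_one_iff.mp h
      have hx : x ∈ IntermediateField.adjoin K {x} := IntermediateField.mem_adjoin_simple_self K x
      rw [hbot, IntermediateField.mem_bot] at hx
      exact hx
    · right
      apply IntermediateField.eq_of_le_of_finrank_eq le_top
      rw [IntermediateField.finrank_top', hfin, h]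
  have h1M : xe (1 : F) ∈ M := by
    have hd : ι 1 * ι 1 - ι 1 * ι 0 = 1 := by simp
    have := SubK.rat_mk2 ι M hM 1 1 0 1 hd
    have e : mk2 (ι 1) (ι 1) (ι 0) (ι 1) hd = xe (1 : F) := by
      apply Subtype.ext
      rw [mk2_coe, xe_coe]
      simp
    rwa [e] at this
  let S : Subalgebra K F :=
    { carrier := {x | ∀ v : F, xe v ∈ M → xe (x * v) ∈ M}
      mul_mem' := by
        intro x y hx hy v hv
        rw [mul_assoc]
        exact hx _ (hy v hv)
      one_mem' := by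
        intro v hv
        rwa [one_mul]
      add_mem' := by
        intro x y hx hy v hv
        rw [add_mul]
        exact SubK.V_add M (hx v hv) (hy v hv)
      zero_mem' := by
        intro v _
        rw [zero_mul, xe_zero]
        exact M.one_mem
      algebraMap_mem' := by
        intro k v hv
        rw [halg]
        exact V_smul_rat2 ι M hM k hv }
  have hμ : (b : M2) 0 0 ^ 2 ∈ S := fun v hv => SubK.V_conj_upper M b hb h10 hv
  rcases hdich ((b : M2) 0 0 ^ 2) with ⟨k0, hk0⟩ | htop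
  · obtain ⟨s, hs⟩ := FiniteField.isSquare_of_char_two (ringChar.eq K 2) k0
    refine ⟨s, ?_⟩
    have e0 : ι s ^ 2 = (b : M2) 0 0 ^ 2 := by
      rw [← hk0, hs, map_mul]
      ring
    have e : (ι s - (b : M2) 0 0) ^ 2 = 0 := by
      linear_combination e0 + ((b : M2) 0 0 ^ 2 - ι s * (b : M2) 0 0) * h2
    exact sub_eq_zero.mp (pow_eq_zero_iff (two_ne_zero) |>.mp e)
  · exfalso
    apply hV
    intro v
    have hv : v ∈ IntermediateField.adjoin K {(b : M2) 0 0 ^ 2} := by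
      rw [htop]
      trivial
    have hsub := IntermediateField.adjoin_simple_toSubalgebra_of_isAlgebraic
      (IsAlgebraic.of_finite K ((b : M2) 0 0 ^ 2))
    have hle : Algebra.adjoin K {(b : M2) 0 0 ^ 2} ≤ S := by
      apply Algebra.adjoin_le
      intro x hx
      rw [Set.mem_singleton_iff] at hx
      rw [hx]
      exact hμ
    have hvS : v ∈ S := by
      apply hle
      rw [← hsub]
      exact hv
    have := hvS 1 h1M
    rwa [mul_one] at this

end Cfsg.Agent.Helper14.EvB
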