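import Mathlib
import Cfsg.Agent.Helper14.CE2

set_option autoImplicit false

namespace Cfsg.Agent.Helper14.SubN

open Cfsg.Agent.Helper14.CE2

section abs

variable {G : Type*} [Group G]

theorem rel_symm {x y : G} (h : Rel x y) : Rel y x := by
  obtain ⟨g, hg⟩ := h
  refine ⟨g⁻¹, ?_⟩
  have h1 := (Commute.conj_iff g⁻¹).mpr hg
  have e : g⁻¹ * (g * x * g⁻¹) * g⁻¹⁻¹ = x := by group
  rw [e] at h1
  exact h1.symm

theorem pow_odd_of_sq {z : G} (hz2 : z * z = 1) (n : ℕ) (hn : Odd n) : z ^ n = z := by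
  obtain ⟨m, rfl⟩ := hn
  rw [pow_succ, pow_mul, pow_two, hz2, one_pow, one_mul]

theorem unip_rel [Finite G] {z : G} (H : Hyp1 z) (hz2 : z * z = 1) (p : ℕ) [Fact p.Prime]
    (hp2 : p ≠ 2) (x w : G) (hx : Good z x) (hxp : x ^ p = 1) (hw : Good z w)
    (hwp : (w * w) ^ p = 1) (hw1 : w * w ≠ 1) : Rel x w := by
  have hpp : p.Prime := Fact.out
  have hpodd : Odd p := hpp.odd_of_ne_two hp2
  have hw2z : w * w ≠ z := by
    intro h
    rw [h, pow_odd_of_sq hz2 p hpodd] at hwp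
    exact H.ne1 hwp
  have hpg1 : IsPGroup p (Subgroup.zpowers (w * w)) := by
    apply IsPGroup.of_card (n := 1)
    rw [Nat.card_zpowers, pow_one]
    exact orderOf_eq_prime hwp hw1
  have hpg0 : IsPGroup p (Subgroup.zpowers x) := by
    apply IsPGroup.of_card (n := 1)
    rw [Nat.card_zpowers, pow_one]
    exact orderOf_eq_prime hxp hx.1
  obtain ⟨P1, hP1⟩ := hpg1.exists_le_sylow
  obtain ⟨P0, hP0⟩ := hpg0.exists_le_sylow
  obtain ⟨g, hg⟩ := MulAction.exists_smul_eq G P0 P1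
  have hw2P1 : w * w ∈ (P1 : Subgroup G) := hP1 (Subgroup.mem_zpowers _)
  have hxP0 : x ∈ (P0 : Subgroup G) := hP0 (Subgroup.mem_zpowers _)
  rw [← hg, Sylow.coe_subgroup_smul, Subgroup.mem_pointwise_smul_iff_inv_smul_mem,
    MulAut.smul_def, MulAut.conj_inv_apply] at hw2P1
  haveI : Nontrivial (P0 : Subgroup G) :=
    ⟨⟨⟨x, hxP0⟩, 1, fun h => hx.1 (congrArg Subtype.val h)⟩⟩
  haveI := IsPGroup.center_nontrivial P0.isPGroup'
  obtain ⟨s, hs⟩ := exists_ne (1 : Subgroup.center (P0 : Subgroup G))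
  have hs1 : ((s : (P0 : Subgroup G)) : G) ≠ 1 := by
    intro h
    apply hs
    apply Subtype.ext
    apply Subtype.ext
    exact h
  have hsz : ((s : (P0 : Subgroup G)) : G) ≠ z := by
    intro h
    obtain ⟨k, hk⟩ := P0.isPGroup' (s : (P0 : Subgroup G))
    have hk' : ((s : (P0 : Subgroup G)) : G) ^ p ^ k = 1 := by
      have := congrArg Subtype.val hk
      simpa using this
    rw [h, pow_odd_of_sq hz2 _ hpodd.pow] at hk'
    exact H.ne1 hk'
  have hcen := Subgroup.mem_center_iff.mp s.2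
  have hc1 : Commute (g⁻¹ * (w * w) * g) ((s : (P0 : Subgroup G)) : G) := by
    have := hcen ⟨g⁻¹ * (w * w) * g, hw2P1⟩
    exact congrArg Subtype.val this
  have hc2 : Commute x ((s : (P0 : Subgroup G)) : G) := by
    have := hcen ⟨x, hxP0⟩
    exact congrArg Subtype.val this
  have hc3 : Commute (g⁻¹ * (w * w) * g) x := H.a1 _ hs1 hsz _ _ hc1 hc2
  have hc4 : Commute (w * w) (g * x * g⁻¹) := by
    have := (Commute.conj_iff g).mpr hc3
    have e : g * (g⁻¹ * (w * w) * g) * g⁻¹ = w * w := by group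
    rw [e] at this
    exact this
  have hc5 : Commute w (w * w) := by
    show w * (w * w) = w * w * w
    rw [mul_assoc]
  exact ⟨g, H.a1 _ hw1 hw2z _ _ hc4.symm hc5⟩

end abs

theorem ar1 (k s t c1 c2 c3 b : ℕ) (hk : 0 < k)
    (h1 : k * (2 * t) = c1 * ((s + 2) * (t + 1)))
    (h2 : k * s = c2 * (2 * (s + 2)))
    (h3 : k * b = c3 * (2 * (b + 2))) (ha3 : (s + 4) ∣ (b + 2))
    (hs : c1 + c3 + c2 + 2 ≤ k) : t + 1 ≤ s + 3 := by
  by_contra hcon
  push Not at hcon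
  have hb : s + 4 ≤ b + 2 := Nat.le_of_dvd (by omega) ha3
  zify at h1 h2 h3 hs hcon hb hk
  have i3 : (k : ℤ) * (s + 2) ≤ 2 * c3 * (s + 4) := by
    have hpos : (0 : ℤ) < (b : ℤ) + 2 := by positivity
    apply le_of_mul_le_mul_right _ hpos
    have e : (2 * (c3 : ℤ) * (s + 4)) * (b + 2) = k * b * (s + 4) := by
      rw [h3]
      ring
    rw [e]
    nlinarith [mul_nonneg hk.le (by linarith : (0 : ℤ) ≤ (b : ℤ) - s - 2)]
  have e1 : (c1 : ℤ) * (2 * (t + 1) * (s + 2) * (s + 4)) = k * (2 * t) * (2 * (s + 4)) := by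
    rw [h1]
    ring
  have e2 : (c2 : ℤ) * (2 * (t + 1) * (s + 2) * (s + 4)) = k * s * ((t + 1) * (s + 4)) := by
    rw [h2]
    ring
  have e3 : (k : ℤ) * (s + 2) * ((t + 1) * (s + 2)) ≤
      (c3 : ℤ) * (2 * (t + 1) * (s + 2) * (s + 4)) := by
    have := mul_le_mul_of_nonneg_right i3 (by positivity : (0 : ℤ) ≤ ((t : ℤ) + 1) * (s + 2))
    linarith
  have e4 := mul_le_mul_of_nonneg_right hs
    (by positivity : (0 : ℤ) ≤ 2 * ((t : ℤ) + 1) * (s + 2) * (s + 4))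
  have t1 : (0 : ℤ) ≤ k * ((t : ℤ) - s - 3) := mul_nonneg hk.le (by linarith)
  have t2 : (0 : ℤ) < ((t : ℤ) + 1) * (s + 2) * (s + 4) := by positivity
  nlinarith [e1, e2, e3, e4, t1, t2]

theorem ar2 (k s c1 c2 c3 c4 b : ℕ) (hk : 0 < k)
    (h1 : k * (2 * (s + 2)) = c1 * ((s + 2) * (s + 3)))
    (h2 : k * s = c2 * (2 * (s + 2)))
    (h3 : k * b = c3 * (2 * (b + 2))) (ha3 : (s + 4) ∣ (b + 2))
    (h4 : k ≤ 4 * c4)
    (hs : c4 + (c1 + c3 + c2) + 2 ≤ k) : False := by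
  have hb : s + 4 ≤ b + 2 := Nat.le_of_dvd (by omega) ha3
  zify at h1 h2 h3 hs h4 hb hk
  have i3 : (k : ℤ) * (s + 2) ≤ 2 * c3 * (s + 4) := by
    have hpos : (0 : ℤ) < (b : ℤ) + 2 := by positivity
    apply le_of_mul_le_mul_right _ hpos
    have e : (2 * (c3 : ℤ) * (s + 4)) * (b + 2) = k * b * (s + 4) := by
      rw [h3]
      ring
    rw [e]
    nlinarith [mul_nonneg hk.le (by linarith : (0 : ℤ) ≤ (b : ℤ) - s - 2)]
  have h1' : (2 : ℤ) * k = c1 * (s + 3) := by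
    have hpos : (0 : ℤ) < (s : ℤ) + 2 := by positivity
    apply mul_right_cancel₀ hpos.ne'
    linarith
  have e1 : (c1 : ℤ) * (4 * (s + 2) * (s + 3) * (s + 4)) = 2 * k * (4 * (s + 2) * (s + 4)) := by
    rw [h1']
    ring
  have e2 : (c2 : ℤ) * (4 * (s + 2) * (s + 3) * (s + 4)) = k * s * (2 * (s + 3) * (s + 4)) := by
    rw [h2]
    ring
  have e3 : (k : ℤ) * (s + 2) * (2 * (s + 2) * (s + 3)) ≤
      (c3 : ℤ) * (4 * (s + 2) * (s + 3) * (s + 4)) := by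
    have := mul_le_mul_of_nonneg_right i3 (by positivity : (0 : ℤ) ≤ 2 * ((s : ℤ) + 2) * (s + 3))
    linarith
  have e4 : (k : ℤ) * ((s + 2) * (s + 3) * (s + 4)) ≤
      (c4 : ℤ) * (4 * (s + 2) * (s + 3) * (s + 4)) := by
    have := mul_le_mul_of_nonneg_right h4
      (by positivity : (0 : ℤ) ≤ ((s : ℤ) + 2) * (s + 3) * (s + 4))
    linarith
  have e5 := mul_le_mul_of_nonneg_right hs
    (by positivity : (0 : ℤ) ≤ 4 * ((s : ℤ) + 2) * (s + 3) * (s + 4))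
  have t2 : (0 : ℤ) < ((s : ℤ) + 2) * (s + 3) * (s + 4) := by positivity
  have t3 : (0 : ℤ) ≤ (k : ℤ) * ((s + 2) * (s + 3) * (s + 4) - 8) := by
    apply mul_nonneg hk.le
    nlinarith [sq_nonneg (s : ℤ), (Nat.cast_nonneg s : (0 : ℤ) ≤ s)]
  nlinarith [e1, e2, e3, e4, e5, t2, t3]

theorem ar3 (k s c1 c2 c3 b : ℕ) (hk : 0 < k)
    (h1 : k * (2 * (s + 2)) = c1 * ((s + 2) * (s + 3)))
    (h2 : k * s = c2 * (2 * (s + 2)))
    (h3 : k * b = c3 * (2 * (b + 2))) (ha3 : (s + 4) ∣ (b + 2))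
    (hs : c1 + c3 + c2 + 2 = k) : k = (s + 3) * ((s + 3) ^ 2 - 1) := by
  obtain ⟨m, hm⟩ := ha3
  have hm1 : 1 ≤ m := by
    rcases Nat.eq_zero_or_pos m with rfl | h
    · omega
    · exact h
  have e0 : (s + 3) ^ 2 - 1 = (s + 2) * (s + 4) := by
    have : (s + 3) ^ 2 = (s + 2) * (s + 4) + 1 := by ring
    omega
  rw [e0]
  zify at h1 h2 h3 hs hm hk hm1 ⊢
  have h1' : (2 : ℤ) * k = c1 * (s + 3) := by
    have hpos : (0 : ℤ) < (s : ℤ) + 2 := by positivity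
    apply mul_right_cancel₀ hpos.ne'
    linarith
  have key : 4 * (k : ℤ) * (s + 2) * (b + 2) + k * s * (s + 3) * (b + 2) +
      k * b * (s + 2) * (s + 3) + 4 * (s + 2) * (s + 3) * (b + 2) =
      2 * k * (s + 2) * (s + 3) * (b + 2) := by
    have e1 : (c1 : ℤ) * (2 * (s + 2) * (s + 3) * (b + 2)) = 2 * k * (2 * (s + 2) * (b + 2)) := by
      rw [h1']
      ring
    have e2 : (c2 : ℤ) * (2 * (s + 2) * (s + 3) * (b + 2)) = k * s * ((s + 3) * (b + 2)) := by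
      rw [h2]
      ring
    have e3 : (c3 : ℤ) * (2 * (s + 2) * (s + 3) * (b + 2)) = k * b * ((s + 2) * (s + 3)) := by
      rw [h3]
      ring
    have e4 : ((c1 : ℤ) + c3 + c2 + 2) * (2 * ((s : ℤ) + 2) * (s + 3) * (b + 2)) =
        k * (2 * ((s : ℤ) + 2) * (s + 3) * (b + 2)) := by rw [hs]
    linarith
  by_cases hm2 : (2 : ℤ) ≤ m
  · exfalso
    have hb2 : (2 : ℤ) * (s + 4) ≤ (b : ℤ) + 2 := by
      rw [hm]
      nlinarith
    have t1 : (0 : ℤ) < k * ((b + 2) * (s + 1) - (s + 3) * (s + 2)) := by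
      apply mul_pos hk
      nlinarith [sq_nonneg (s : ℤ), (Nat.cast_nonneg s : (0 : ℤ) ≤ s)]
    have t2 : (0 : ℤ) < ((s : ℤ) + 2) * (s + 3) * (b + 2) := by positivity
    nlinarith [key, t1, t2]
  · have hm3 : (m : ℤ) = 1 := by omega
    rw [hm3, mul_one] at hm
    have hb : (b : ℤ) = s + 2 := by linarith
    rw [hb] at key
    have hpos : (0 : ℤ) < 4 := by norm_num
    apply mul_left_cancel₀ hpos.ne'
    linear_combination -key

end Cfsg.Agent.Helper14.SubN
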