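import Mathlib
import Cfsg.Agent.Helper14.SubM
import Cfsg.Agent.Helper14.SubN

set_option autoImplicit false

namespace Cfsg.Agent.Helper14.SubO

open Cfsg.Agent.Helper14.Mat2 Cfsg.Agent.Helper14.SL2Odd Cfsg.Agent.Helper14.PSL2
  Cfsg.Agent.Helper14.SL2Conj Cfsg.Agent.Helper14.Torus Cfsg.Agent.Helper14.TorusB
  Cfsg.Agent.Helper14.TorusC Cfsg.Agent.Helper14.TorusD Cfsg.Agent.Helper14.TorusE
  Cfsg.Agent.Helper14.SL2T Cfsg.Agent.Helper14.SubA Cfsg.Agent.Helper14.SubD
  Cfsg.Agent.Helper14.CE2 Cfsg.Agent.Helper14.SLc Cfsg.Agent.Helper14.SubJ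
  Cfsg.Agent.Helper14.SubK Cfsg.Agent.Helper14.SubL Cfsg.Agent.Helper14.SubM
  Cfsg.Agent.Helper14.SubN

variable {F : Type*} [Field F] {K : Type*} [Field K]

local notation "SL2" => Matrix.SpecialLinearGroup (Fin 2) F
local notation "M2" => Matrix (Fin 2) (Fin 2) F

theorem negOne_rat (ι : K →+* F) (M : Subgroup SL2)
    (hM : ∀ g : SL2, (∀ i j, (g : M2) i j ∈ Set.range ι) → g ∈ M) : negOne ∈ M := by
  have hd : ι (-1) * ι (-1) - ι 0 * ι 0 = 1 := by simp
  have := rat_mk2 ι M hM (-1) 0 0 (-1) hd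
  have e : mk2 (ι (-1)) (ι 0) (ι 0) (ι (-1)) hd = (negOne : SL2) := by
    apply Subtype.ext
    rw [mk2_coe, coe_negOne]
    simp
  rwa [e] at this

theorem xe_rat (ι : K →+* F) (M : Subgroup SL2)
    (hM : ∀ g : SL2, (∀ i j, (g : M2) i j ∈ Set.range ι) → g ∈ M) (k : K) : xe (ι k) ∈ M := by
  have hd : ι 1 * ι 1 - ι k * ι 0 = 1 := by simp
  have := rat_mk2 ι M hM 1 k 0 1 hd
  have e : mk2 (ι 1) (ι k) (ι 0) (ι 1) hd = xe (ι k) := by
    apply Subtype.ext
    rw [mk2_coe, xe_coe]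
    simp
  rwa [e] at this

theorem ye_rat (ι : K →+* F) (M : Subgroup SL2)
    (hM : ∀ g : SL2, (∀ i j, (g : M2) i j ∈ Set.range ι) → g ∈ M) (k : K) : ye (ι k) ∈ M := by
  have hd : ι 1 * ι 1 - ι 0 * ι k = 1 := by simp
  have := rat_mk2 ι M hM 1 0 k 1 hd
  have e : mk2 (ι 1) (ι 0) (ι k) (ι 1) hd = ye (ι k) := by
    apply Subtype.ext
    rw [mk2_coe, ye_coe]
    simp
  rwa [e] at this

theorem rel_zero (M : Subgroup SL2) (hneg : negOne ∈ M) (x y : M)
    (hx : Good (⟨negOne, hneg⟩ : M) x) (hy : Good (⟨negOne, hneg⟩ : M) y)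
    (h0 : chi (x : SL2) = 0) (h1 : chi (y : SL2) ≠ 0) : ¬ Rel x y ∧ ¬ Rel y x := by
  constructor
  · intro h
    obtain ⟨β, -, e⟩ := rel_chi M hneg x y hx hy h
    rw [h0, mul_zero] at e
    exact h1 e
  · intro h
    obtain ⟨β, hβ, e⟩ := rel_chi M hneg y x hy hx h
    rw [h0] at e
    rcases mul_eq_zero.mp e.symm with h2 | h2
    · exact hβ (pow_eq_zero_iff (by norm_num) |>.mp h2)
    · exact h1 h2

theorem rel_sq (M : Subgroup SL2) (hneg : negOne ∈ M) (x y : M)
    (hx : Good (⟨negOne, hneg⟩ : M) x) (hy : Good (⟨negOne, hneg⟩ : M) y)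
    (h0 : IsSquare (chi (x : SL2))) (h1 : ¬ IsSquare (chi (y : SL2))) :
    ¬ Rel x y ∧ ¬ Rel y x := by
  obtain ⟨δ, hδ⟩ := h0
  constructor
  · intro h
    obtain ⟨β, -, e⟩ := rel_chi M hneg x y hx hy h
    apply h1
    exact ⟨β * δ, by rw [e, hδ]; ring⟩
  · intro h
    obtain ⟨β, hβ, e⟩ := rel_chi M hneg y x hy hx h
    apply h1
    refine ⟨δ / β, ?_⟩
    field_simp
    rw [hδ] at e
    linear_combination -e

theorem four_le_cent {G : Type*} [Group G] [Fintype G] {z : G} (H : Hyp1 z) (hz2 : z * z = 1)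
    (w : G) (hw : Good z w) : 4 ≤ Nat.card (Subgroup.centralizer {w}) := by
  classical
  have h1 := card_good_cent H w
  have hmem : w ∈ Finset.univ.filter (fun w' : G => Good z w' ∧ Commute w' w) := by
    rw [Finset.mem_filter]
    exact ⟨Finset.mem_univ _, hw, Commute.refl w⟩
  have hpos : 0 < (Finset.univ.filter (fun w' : G => Good z w' ∧ Commute w' w)).card :=
    Finset.card_pos.mpr ⟨w, hmem⟩
  have hzc : z ∈ Subgroup.centralizer {w} := by
    rw [Subgroup.mem_centralizer_singleton_iff]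
    exact ((H.cen w).eq).symm
  have ho : orderOf (⟨z, hzc⟩ : Subgroup.centralizer {w}) = 2 := by
    rw [Subgroup.orderOf_mk]
    exact orderOf_eq_prime (by rw [pow_two]; exact hz2) H.ne1
  have hd : 2 ∣ Nat.card (Subgroup.centralizer {w}) := by
    rw [← ho]
    exact orderOf_dvd_natCard _
  omega

set_option maxHeartbeats 1000000 in
theorem max_core [Fintype F] [Fintype K] (ι : K →+* F) (p : ℕ) [Fact p.Prime] [CharP F p]
    (q r : ℕ) (hK : Fintype.card K = q) (hcard : Fintype.card F = q ^ r) (hqodd : Odd q)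
    (hr : r.Prime) (hr2 : r ≠ 2) (hpq : p ∣ q)
    (M : Subgroup SL2) (hM : ∀ g : SL2, (∀ i j, (g : M2) i j ∈ Set.range ι) → g ∈ M)
    (T n0 : SL2) (hT : T ∈ M) (hn0 : n0 ∈ M) (hoT : orderOf T = q + 1)
    (hn : n0 * T * n0⁻¹ * T = T * (n0 * T * n0⁻¹)) (hnc : n0 * T ≠ T * n0) :
    M = ⊤ ∨ Nat.card M = q * (q ^ 2 - 1) := by
  classical
  haveI : Fintype M := Fintype.ofFinite M
  have hpp : p.Prime := Fact.out
  have hq1 : 1 < q := by
    rw [← hK]
    exact Fintype.one_lt_card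
  have hq3 : 3 ≤ q := by
    obtain ⟨m, hm⟩ := hqodd
    omega
  have hodd : Odd (Fintype.card F) := by
    rw [hcard]
    exact hqodd.pow
  have hoddK : Odd (Fintype.card K) := by
    rw [hK]
    exact hqodd
  have h2 := two_ne_zero_of_odd hodd
  have h2K : (2 : K) ≠ 0 := two_ne_zero_of_odd hoddK
  have hp2 : p ≠ 2 := by
    rintro rfl
    obtain ⟨m, hm⟩ := hqodd
    omega
  have hrodd : Odd r := hr.odd_of_ne_two hr2
  have hneg : negOne ∈ M := negOne_rat ι M hM
  have h1 : xe (1 : F) ∈ M := by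
    have := xe_rat ι M hM 1
    rwa [map_one] at this
  have hye : ye (-1 : F) ∈ M := by
    have := ye_rat ι M hM (-1)
    rwa [map_neg, map_one] at this
  by_cases hV : ∀ v : F, xe v ∈ M
  · left
    exact top_of_upper M hV hye
  right
  have hcard' : Fintype.card F = Fintype.card K ^ r := by
    rw [hK]
    exact hcard
  have hΛ : ∀ b ∈ M, (b : M2) 1 0 = 0 → (b : M2) 0 0 ∈ Set.range ι := fun b hb h10 =>
    diag_rational ι r hr hr2 hcard' h2K M hM hV b hb h10
  have H := hyp1_of hodd M hneg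
  have hz2 : (⟨negOne, hneg⟩ : M) * ⟨negOne, hneg⟩ = 1 := Subtype.ext negOne_mul_self
  obtain ⟨P, hPdef⟩ : ∃ P : ℕ, P = Nat.card {v : F // xe v ∈ M} := ⟨_, rfl⟩
  have hPq : q ≤ P := by
    rw [hPdef, ← hK, ← Nat.card_eq_fintype_card]
    apply Nat.card_le_card_of_injective (fun k : K => (⟨ι k, xe_rat ι M hM k⟩ : {v : F // xe v ∈ M}))
    intro a b hab
    exact ι.injective (congrArg Subtype.val hab)
  obtain ⟨hg1, hchi1, hdc1⟩ := class1 hodd ι M hM hΛ hneg h1
  obtain ⟨hg3, hchi3, hsq3, a3, ha3pos, ha3, hdc3⟩ :=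
    class3 hodd p q r hpq (by omega) hrodd hcard M hneg T hT hoT n0 hn0 hn hnc
  rw [hK, ← hPdef] at hdc1
  obtain ⟨S2, hS2, hS2pw, hdc2⟩ : ∃ S2 : Finset M,
      (∀ x ∈ S2, Good (⟨negOne, hneg⟩ : M) x ∧ chi (x : SL2) ≠ 0 ∧ IsSquare (chi (x : SL2))) ∧
      (∀ x ∈ S2, ∀ y ∈ S2, x ≠ y → ¬ Rel x y) ∧
      Fintype.card M * (q - 3) =
        (∑ x ∈ S2, (cls (⟨negOne, hneg⟩ : M) x).card) * (2 * (q - 1)) := by
    by_cases hq5 : 5 ≤ q
    · obtain ⟨u0, hu0⟩ : ∃ u0 : Kˣ, (u0 : K) ^ 2 ≠ 1 := by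
        obtain ⟨g, hg⟩ := IsCyclic.exists_ofOrder_eq_natCard (α := Kˣ)
        refine ⟨g, ?_⟩
        intro h
        have h' : g ^ 2 = 1 := Units.ext (by simpa using h)
        have hd := orderOf_dvd_of_pow_eq_one h'
        rw [hg, Nat.card_units, Nat.card_eq_fintype_card, hK] at hd
        have := Nat.le_of_dvd (by norm_num) hd
        omega
      obtain ⟨hg2, hchi2, hsq2, hdc2⟩ := class2 hodd ι M hM hΛ hneg u0 hu0
      refine ⟨{⟨dg ι u0, dg_mem ι M hM u0⟩}, ?_, ?_, ?_⟩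
      · intro x hx
        rw [Finset.mem_singleton] at hx
        subst hx
        exact ⟨hg2, hchi2, hsq2⟩
      · intro x hx y hy hxy
        rw [Finset.mem_singleton] at hx hy
        exact absurd (hx.trans hy.symm) hxy
      · rw [Finset.sum_singleton]
        rw [hK] at hdc2
        have e : q - 1 - 2 = q - 3 := by omega
        rw [e] at hdc2
        exact hdc2
    · have hq : q = 3 := by
        obtain ⟨m, hm⟩ := hqodd
        omega
      refine ⟨∅, by simp, by simp, ?_⟩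
      rw [hq]
      simp
  have hx1S : (⟨xe 1, h1⟩ : M) ∉ insert (⟨T, hT⟩ : M) S2 := by
    intro h
    rw [Finset.mem_insert] at h
    rcases h with h | h
    · have e : xe (1 : F) = T := congrArg Subtype.val h
      rw [e] at hchi1
      exact hchi3 hchi1
    · exact (hS2 _ h).2.1 hchi1
  have hx3S : (⟨T, hT⟩ : M) ∉ S2 := fun h => hsq3 (hS2 _ h).2.2
  have hpw : ∀ x ∈ insert (⟨xe 1, h1⟩ : M) (insert (⟨T, hT⟩ : M) S2),
      ∀ y ∈ insert (⟨xe 1, h1⟩ : M) (insert (⟨T, hT⟩ : M) S2), x ≠ y → ¬ Rel x y := by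
    intro x hx y hy hxy
    rw [Finset.mem_insert, Finset.mem_insert] at hx hy
    rcases hx with rfl | rfl | hx <;> rcases hy with rfl | rfl | hy
    · exact absurd rfl hxy
    · exact (rel_zero M hneg _ _ hg1 hg3 hchi1 hchi3).1
    · exact (rel_zero M hneg _ _ hg1 (hS2 y hy).1 hchi1 (hS2 y hy).2.1).1
    · exact (rel_zero M hneg _ _ hg1 hg3 hchi1 hchi3).2
    · exact absurd rfl hxy
    · exact (rel_sq M hneg _ _ (hS2 y hy).1 hg3 (hS2 y hy).2.2 hsq3).2
    · exact (rel_zero M hneg _ _ hg1 (hS2 x hx).1 hchi1 (hS2 x hx).2.1).2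
    · exact (rel_sq M hneg _ _ (hS2 x hx).1 hg3 (hS2 x hx).2.2 hsq3).1
    · exact hS2pw x hx y hy hxy
  have hGoodS : ∀ x ∈ insert (⟨xe 1, h1⟩ : M) (insert (⟨T, hT⟩ : M) S2),
      Good (⟨negOne, hneg⟩ : M) x := by
    intro x hx
    rw [Finset.mem_insert, Finset.mem_insert] at hx
    rcases hx with rfl | rfl | hx
    · exact hg1
    · exact hg3
    · exact (hS2 x hx).1
  have hsum_le := sum_le H _ hGoodS hpw
  rw [Finset.sum_insert hx1S, Finset.sum_insert hx3S] at hsum_le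
  have hk : 0 < Fintype.card M := Fintype.card_pos
  obtain ⟨s, rfl⟩ : ∃ s, q = s + 3 := ⟨q - 3, by omega⟩
  obtain ⟨t, rfl⟩ : ∃ t, P = t + 1 := ⟨P - 1, by omega⟩
  obtain ⟨b, rfl⟩ : ∃ b, a3 = b + 2 := by
    have := Nat.le_of_dvd ha3pos ha3
    exact ⟨a3 - 2, by omega⟩
  have e1 : 2 * (t + 1) - 2 = 2 * t := by omega
  have e2 : s + 3 - 1 = s + 2 := by omega
  have e3 : s + 3 - 3 = s := by omega
  have e4 : b + 2 - 2 = b := by omega
  have e5 : s + 3 + 1 = s + 4 := by omega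
  rw [e1, e2] at hdc1
  rw [e3, e2] at hdc2
  rw [e4] at hdc3
  rw [e5] at ha3
  have hP := ar1 _ s t _ _ _ b hk hdc1 hdc2 hdc3 ha3 (by omega)
  have ht : t = s + 2 := by omega
  subst ht
  have hx1p : (⟨xe 1, h1⟩ : M) ^ p = 1 := by
    apply Subtype.ext
    rw [Subgroup.coe_pow]
    apply pow_char_of_trace_two p
    rw [xe_coe, Matrix.trace_fin_two_of]
    ring
  have hall : ∀ w : M, Good (⟨negOne, hneg⟩ : M) w →
      ∃ x ∈ insert (⟨xe 1, h1⟩ : M) (insert (⟨T, hT⟩ : M) S2), Rel x w := by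
    intro w hw
    by_contra hcon
    push Not at hcon
    by_cases hchiw : chi (w : SL2) = 0
    · apply hcon (⟨xe 1, h1⟩ : M) (Finset.mem_insert_self _ _)
      have htr : ((w : SL2) : M2).trace ^ 2 = 4 := by
        unfold chi at hchiw
        linear_combination hchiw
      have hwp : (w * w) ^ p = 1 := by
        apply Subtype.ext
        rw [Subgroup.coe_pow, Subgroup.coe_mul, ← pow_two, ← pow_mul]
        exact pow_two_mul_char p (w : SL2) htr
      have hw1 : w * w ≠ 1 := by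
        intro h
        have h' : (w : SL2) * (w : SL2) = 1 := congrArg Subtype.val h
        rcases sq_one h2 _ h' with h3 | h3
        · exact hw.1 (Subtype.ext h3)
        · exact hw.2 (Subtype.ext h3)
      exact unip_rel H hz2 p hp2 _ w hg1 hx1p hw hwp hw1
    · have ha2 := a2_of hodd M w hchiw
      have hN4 := norm_card_le H hw ha2
      have hdc4 := double_count H hw
      have hC4 := four_le_cent H hz2 w hw
      have h4 : Fintype.card M ≤ 4 * (cls (⟨negOne, hneg⟩ : M) w).card := by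
        obtain ⟨a, ha⟩ : ∃ a, Nat.card (Subgroup.centralizer {w}) = a + 4 :=
          ⟨Nat.card (Subgroup.centralizer {w}) - 4, by omega⟩
        rw [ha] at hdc4 hN4
        have e6 : a + 4 - 2 = a + 2 := by omega
        rw [e6] at hdc4
        have h5 := Nat.mul_le_mul_left (cls (⟨negOne, hneg⟩ : M) w).card hN4
        by_contra hcon2
        push Not at hcon2
        nlinarith
      have hwS : w ∉ insert (⟨xe 1, h1⟩ : M) (insert (⟨T, hT⟩ : M) S2) := by
        intro h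
        exact hcon w h ⟨1, by simp⟩
      have hpw' : ∀ x ∈ insert w (insert (⟨xe 1, h1⟩ : M) (insert (⟨T, hT⟩ : M) S2)),
          ∀ y ∈ insert w (insert (⟨xe 1, h1⟩ : M) (insert (⟨T, hT⟩ : M) S2)),
          x ≠ y → ¬ Rel x y := by
        intro x hx y hy hxy
        rw [Finset.mem_insert] at hx hy
        rcases hx with rfl | hx <;> rcases hy with rfl | hy
        · exact absurd rfl hxy
        · intro h
          exact hcon y hy (rel_symm h)
        · exact hcon x hx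
        · exact hpw x hx y hy hxy
      have hGood' : ∀ x ∈ insert w (insert (⟨xe 1, h1⟩ : M) (insert (⟨T, hT⟩ : M) S2)),
          Good (⟨negOne, hneg⟩ : M) x := by
        intro x hx
        rw [Finset.mem_insert] at hx
        rcases hx with rfl | hx
        · exact hw
        · exact hGoodS x hx
      have hsum4 := sum_le H _ hGood' hpw'
      rw [Finset.sum_insert hwS, Finset.sum_insert hx1S, Finset.sum_insert hx3S] at hsum4
      exact ar2 _ s _ _ _ _ b hk hdc1 hdc2 hdc3 ha3 h4 (by omega)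
  have hsum_eq := sum_eq H _ hGoodS hpw hall
  rw [Finset.sum_insert hx1S, Finset.sum_insert hx3S] at hsum_eq
  have hfin := ar3 _ s _ _ _ b hk hdc1 hdc2 hdc3 ha3 (by omega)
  rw [Nat.card_eq_fintype_card, hfin]

end Cfsg.Agent.Helper14.SubO
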