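import Mathlib
import Cfsg.Agent.Helper14.EvB
import Cfsg.Agent.Helper14.SubO

set_option autoImplicit false

namespace Cfsg.Agent.Helper14.EvC

open Classical

open Cfsg.Agent.Helper14.Mat2 Cfsg.Agent.Helper14.SL2Odd Cfsg.Agent.Helper14.PSL2
  Cfsg.Agent.Helper14.SL2Conj Cfsg.Agent.Helper14.Torus Cfsg.Agent.Helper14.TorusB
  Cfsg.Agent.Helper14.TorusC Cfsg.Agent.Helper14.TorusD Cfsg.Agent.Helper14.TorusE
  Cfsg.Agent.Helper14.SL2T Cfsg.Agent.Helper14.SubA Cfsg.Agent.Helper14.SubD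
  Cfsg.Agent.Helper14.CE3 Cfsg.Agent.Helper14.A4Sub Cfsg.Agent.Helper14.EvA
  Cfsg.Agent.Helper14.EvB

theorem ar1e (k s t c1 c2 c3 b : ℕ) (hk : 0 < k)
    (h1 : k * t = c1 * ((s + 3) * (t + 1)))
    (h2 : k * (s + 2) = c2 * (2 * (s + 3)))
    (h3 : k * b = c3 * (2 * (b + 1))) (ha3 : (s + 5) ∣ (b + 1))
    (hs : c1 + c3 + c2 + 1 ≤ k) : t + 1 ≤ s + 4 := by
  by_contra hcon
  push Not at hcon
  have hb : s + 5 ≤ b + 1 := Nat.le_of_dvd (by omega) ha3
  zify at h1 h2 h3 hs hcon hb hk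
  have i3 : (k : ℤ) * (s + 4) ≤ 2 * c3 * (s + 5) := by
    have hpos : (0 : ℤ) < (b : ℤ) + 1 := by positivity
    apply le_of_mul_le_mul_right _ hpos
    have e : (2 * (c3 : ℤ) * (s + 5)) * (b + 1) = k * b * (s + 5) := by
      rw [h3]
      ring
    rw [e]
    nlinarith [mul_nonneg hk.le (by linarith : (0 : ℤ) ≤ (b : ℤ) - s - 4)]
  have e1 : (c1 : ℤ) * (2 * (t + 1) * (s + 3) * (s + 5)) = k * t * (2 * (s + 5)) := by
    rw [h1]
    ring
  have e2 : (c2 : ℤ) * (2 * (t + 1) * (s + 3) * (s + 5)) =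
      k * (s + 2) * ((t + 1) * (s + 5)) := by
    rw [h2]
    ring
  have e3 : (k : ℤ) * (s + 4) * ((t + 1) * (s + 3)) ≤
      (c3 : ℤ) * (2 * (t + 1) * (s + 3) * (s + 5)) := by
    have := mul_le_mul_of_nonneg_right i3 (by positivity : (0 : ℤ) ≤ ((t : ℤ) + 1) * (s + 3))
    linarith
  have e4 := mul_le_mul_of_nonneg_right hs
    (by positivity : (0 : ℤ) ≤ 2 * ((t : ℤ) + 1) * (s + 3) * (s + 5))
  have t1 : (0 : ℤ) ≤ k * ((t : ℤ) - s - 4) := mul_nonneg hk.le (by linarith)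
  have t2 : (0 : ℤ) < ((t : ℤ) + 1) * (s + 3) * (s + 5) := by positivity
  nlinarith [e1, e2, e3, e4, t1, t2]

theorem ar2e (k s c1 c2 c3 c4 b : ℕ) (hk : 0 < k)
    (h1 : k * (s + 3) = c1 * ((s + 3) * (s + 4)))
    (h2 : k * (s + 2) = c2 * (2 * (s + 3)))
    (h3 : k * b = c3 * (2 * (b + 1))) (ha3 : (s + 5) ∣ (b + 1))
    (h4 : k ≤ 3 * c4)
    (hs : c4 + (c1 + c3 + c2) + 1 ≤ k) : False := by
  have hb : s + 5 ≤ b + 1 := Nat.le_of_dvd (by omega) ha3
  zify at h1 h2 h3 hs h4 hb hk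
  have i3 : (k : ℤ) * (s + 4) ≤ 2 * c3 * (s + 5) := by
    have hpos : (0 : ℤ) < (b : ℤ) + 1 := by positivity
    apply le_of_mul_le_mul_right _ hpos
    have e : (2 * (c3 : ℤ) * (s + 5)) * (b + 1) = k * b * (s + 5) := by
      rw [h3]
      ring
    rw [e]
    nlinarith [mul_nonneg hk.le (by linarith : (0 : ℤ) ≤ (b : ℤ) - s - 4)]
  have h1' : (k : ℤ) = c1 * (s + 4) := by
    have hpos : (0 : ℤ) < (s : ℤ) + 3 := by positivity
    apply mul_right_cancel₀ hpos.ne'
    linarith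
  have e1 : (c1 : ℤ) * (6 * (s + 3) * (s + 4) * (s + 5)) = k * (6 * (s + 3) * (s + 5)) := by
    rw [h1']
    ring
  have e2 : (c2 : ℤ) * (6 * (s + 3) * (s + 4) * (s + 5)) =
      k * (s + 2) * (3 * (s + 4) * (s + 5)) := by
    rw [h2]
    ring
  have e3 : (k : ℤ) * (s + 4) * (3 * (s + 3) * (s + 4)) ≤
      (c3 : ℤ) * (6 * (s + 3) * (s + 4) * (s + 5)) := by
    have := mul_le_mul_of_nonneg_right i3 (by positivity : (0 : ℤ) ≤ 3 * ((s : ℤ) + 3) * (s + 4))
    linarith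
  have e4 : (k : ℤ) * (2 * (s + 3) * (s + 4) * (s + 5)) ≤
      (c4 : ℤ) * (6 * (s + 3) * (s + 4) * (s + 5)) := by
    have := mul_le_mul_of_nonneg_right h4
      (by positivity : (0 : ℤ) ≤ 2 * ((s : ℤ) + 3) * (s + 4) * (s + 5))
    linarith
  have e5 := mul_le_mul_of_nonneg_right hs
    (by positivity : (0 : ℤ) ≤ 6 * ((s : ℤ) + 3) * (s + 4) * (s + 5))
  have t2 : (0 : ℤ) < ((s : ℤ) + 3) * (s + 4) * (s + 5) := by positivity
  have t3 : (0 : ℤ) ≤ (k : ℤ) * (6 * (s + 3) * (s + 5) + 2 * (s + 3) * (s + 4) * (s + 5) -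
      6 * (s + 4) ^ 2) := by
    apply mul_nonneg hk.le
    have e : (6 * ((s : ℤ) + 3) * (s + 5) + 2 * (s + 3) * (s + 4) * (s + 5) - 6 * (s + 4) ^ 2) =
        2 * (s : ℤ) ^ 3 + 24 * (s : ℤ) ^ 2 + 94 * s + 114 := by ring
    rw [e]
    positivity
  nlinarith [e1, e2, e3, e4, e5, t2, t3]

theorem ar3e (k s c1 c2 c3 b : ℕ) (hk : 0 < k)
    (h1 : k * (s + 3) = c1 * ((s + 3) * (s + 4)))
    (h2 : k * (s + 2) = c2 * (2 * (s + 3)))
    (h3 : k * b = c3 * (2 * (b + 1))) (ha3 : (s + 5) ∣ (b + 1))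
    (hs : c1 + c3 + c2 + 1 = k) : k = (s + 4) * ((s + 4) ^ 2 - 1) := by
  obtain ⟨m, hm⟩ := ha3
  have hm1 : 1 ≤ m := by
    rcases Nat.eq_zero_or_pos m with rfl | h
    · omega
    · exact h
  have e0 : (s + 4) ^ 2 - 1 = (s + 3) * (s + 5) := by
    have : (s + 4) ^ 2 = (s + 3) * (s + 5) + 1 := by ring
    omega
  rw [e0]
  zify at h1 h2 h3 hs hm hk hm1 ⊢
  have h1' : (k : ℤ) = c1 * (s + 4) := by
    have hpos : (0 : ℤ) < (s : ℤ) + 3 := by positivity
    apply mul_right_cancel₀ hpos.ne'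
    linarith
  have key : 2 * (k : ℤ) * (s + 3) * (b + 1) + k * (s + 2) * (s + 4) * (b + 1) +
      k * b * (s + 3) * (s + 4) + 2 * (s + 3) * (s + 4) * (b + 1) =
      2 * k * (s + 3) * (s + 4) * (b + 1) := by
    have e1 : (c1 : ℤ) * (2 * (s + 3) * (s + 4) * (b + 1)) = k * (2 * (s + 3) * (b + 1)) := by
      rw [h1']
      ring
    have e2 : (c2 : ℤ) * (2 * (s + 3) * (s + 4) * (b + 1)) =
        k * (s + 2) * ((s + 4) * (b + 1)) := by
      rw [h2]
      ring
    have e3 : (c3 : ℤ) * (2 * (s + 3) * (s + 4) * (b + 1)) = k * b * ((s + 3) * (s + 4)) := by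
      rw [h3]
      ring
    have e4 : ((c1 : ℤ) + c3 + c2 + 1) * (2 * ((s : ℤ) + 3) * (s + 4) * (b + 1)) =
        k * (2 * ((s : ℤ) + 3) * (s + 4) * (b + 1)) := by rw [hs]
    linarith
  by_cases hm2 : (2 : ℤ) ≤ m
  · exfalso
    have hb2 : (2 : ℤ) * (s + 5) ≤ (b : ℤ) + 1 := by
      rw [hm]
      nlinarith
    have t1 : (0 : ℤ) < k * ((b + 1) * (s + 2) - (s + 3) * (s + 4)) := by
      apply mul_pos hk
      nlinarith [sq_nonneg (s : ℤ), (Nat.cast_nonneg s : (0 : ℤ) ≤ s),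
        mul_le_mul_of_nonneg_right hb2 (by positivity : (0 : ℤ) ≤ (s : ℤ) + 2)]
    have t2 : (0 : ℤ) < ((s : ℤ) + 3) * (s + 4) * (b + 1) := by positivity
    nlinarith [key, t1, t2]
  · have hm3 : (m : ℤ) = 1 := by omega
    rw [hm3, mul_one] at hm
    have hb : (b : ℤ) = s + 4 := by linarith
    rw [hb] at key
    have hpos : (0 : ℤ) < 2 := by norm_num
    apply mul_left_cancel₀ hpos.ne'
    linear_combination -key

variable {F : Type*} [Field F] {K : Type*} [Field K]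

local notation "SL2" => Matrix.SpecialLinearGroup (Fin 2) F
local notation "M2" => Matrix (Fin 2) (Fin 2) F

set_option maxHeartbeats 1000000 in
theorem max_core2 [Fintype F] [Fintype K] [CharP F 2] [CharP K 2] (ι : K →+* F)
    (q r : ℕ) (hK : Fintype.card K = q) (hcard : Fintype.card F = q ^ r) (hq4 : 4 ≤ q)
    (hr : r.Prime)
    (M : Subgroup SL2) (hM : ∀ g : SL2, (∀ i j, (g : M2) i j ∈ Set.range ι) → g ∈ M)
    (T n0 : SL2) (hT : T ∈ M) (hn0 : n0 ∈ M) (hoT : orderOf T = q + 1)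
    (hn : n0 * T * n0⁻¹ * T = T * (n0 * T * n0⁻¹)) (hnc : n0 * T ≠ T * n0) :
    M = ⊤ ∨ Nat.card M = q * (q ^ 2 - 1) := by
  haveI : Fintype M := Fintype.ofFinite M
  have h2 : (2 : F) = 0 := CharTwo.two_eq_zero
  have h1 : xe (1 : F) ∈ M := by
    have := SubO.xe_rat ι M hM 1
    rwa [map_one] at this
  have hye : ye (-1 : F) ∈ M := by
    have := SubO.ye_rat ι M hM (-1)
    rwa [map_neg, map_one] at this
  by_cases hV : ∀ v : F, xe v ∈ M
  · left
    exact top_of_upper M hV hye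
  right
  have hcard' : Fintype.card F = Fintype.card K ^ r := by
    rw [hK]
    exact hcard
  have hΛ : ∀ b ∈ M, (b : M2) 1 0 = 0 → (b : M2) 0 0 ∈ Set.range ι := fun b hb h10 =>
    diag_rational2 ι h2 r hr hcard' M hM hV b hb h10
  have H := hyp0_of h2 M
  obtain ⟨P, hPdef⟩ : ∃ P : ℕ, P = Nat.card {v : F // xe v ∈ M} := ⟨_, rfl⟩
  have hPq : q ≤ P := by
    rw [hPdef, ← hK, ← Nat.card_eq_fintype_card]
    apply Nat.card_le_card_of_injective
      (fun k : K => (⟨ι k, SubO.xe_rat ι M hM k⟩ : {v : F // xe v ∈ M}))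
    intro a b hab
    exact ι.injective (congrArg Subtype.val hab)
  obtain ⟨hne1, htr1, hsq1, hdc1⟩ := class1e h2 ι M hM hΛ h1
  obtain ⟨hne3, htr3, a3, ha3pos, ha3, ha3def, hdc3⟩ :=
    class3e h2 q (by omega) M T hT hoT n0 hn0 hn hnc
  rw [hK, ← hPdef] at hdc1
  obtain ⟨u0, hu0⟩ : ∃ u0 : Kˣ, (u0 : K) ^ 2 ≠ 1 := by
    obtain ⟨g, hg⟩ := IsCyclic.exists_ofOrder_eq_natCard (α := Kˣ)
    refine ⟨g, ?_⟩
    intro h
    have h' : g ^ 2 = 1 := Units.ext (by simpa using h)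
    have hd := orderOf_dvd_of_pow_eq_one h'
    rw [hg, Nat.card_units, Nat.card_eq_fintype_card, hK] at hd
    have := Nat.le_of_dvd (by norm_num) hd
    omega
  obtain ⟨hne2, htr2, hC2, hdc2⟩ := class2e h2 ι M hM hΛ u0 hu0
  rw [hK] at hdc2 hC2
  obtain ⟨x1, hx1def⟩ : ∃ x1 : M, x1 = ⟨xe 1, h1⟩ := ⟨_, rfl⟩
  obtain ⟨x2, hx2def⟩ : ∃ x2 : M, x2 = ⟨SubL.dg ι u0, SubL.dg_mem ι M hM u0⟩ := ⟨_, rfl⟩
  obtain ⟨x3, hx3def⟩ : ∃ x3 : M, x3 = ⟨T, hT⟩ := ⟨_, rfl⟩
  rw [← hx1def] at hne1 hdc1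
  rw [← hx2def] at hne2 hdc2 hC2
  rw [← hx3def] at hne3 hdc3 ha3def
  have ht1 : ((x1 : SL2) : M2).trace = 0 := by
    rw [hx1def]
    exact htr1
  have ht2 : ((x2 : SL2) : M2).trace ≠ 0 := by
    rw [hx2def]
    exact htr2
  have ht3 : ((x3 : SL2) : M2).trace ≠ 0 := by
    rw [hx3def]
    exact htr3
  have hx1sq : x1 * x1 = 1 := by
    rw [hx1def]
    exact Subtype.ext hsq1
  have hg1 : Good (1 : M) x1 := good_of_ne M x1 hne1
  have hg2 : Good (1 : M) x2 := good_of_ne M x2 hne2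
  have hg3 : Good (1 : M) x3 := good_of_ne M x3 hne3
  have hr_zero : ∀ y : M, y ≠ 1 → ((y : SL2) : M2).trace ≠ 0 → ¬ Rel x1 y ∧ ¬ Rel y x1 := by
    intro y hy hty
    constructor
    · intro h
      obtain ⟨β, -, e⟩ := rel_tr h2 M x1 y hne1 hy h
      rw [ht1, mul_zero] at e
      exact hty e
    · intro h
      obtain ⟨β, hβ, e⟩ := rel_tr h2 M y x1 hy hne1 h
      rw [ht1] at e
      rcases mul_eq_zero.mp e.symm with h3 | h3
      · exact hβ h3
      · exact hty h3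
  have hr23 : ¬ Rel x2 x3 ∧ ¬ Rel x3 x2 := by
    have hcne : Nat.card (Subgroup.centralizer {x2}) ≠ Nat.card (Subgroup.centralizer {x3}) := by
      rw [hC2, ← ha3def]
      intro h
      have := Nat.le_of_dvd ha3pos ha3
      omega
    constructor
    · intro h
      exact hcne (rel_card H hg2 hg3 h)
    · intro h
      exact hcne (rel_card H hg3 hg2 h).symm
  have hx12 : x1 ≠ x2 := by
    intro h
    apply ht2
    rw [← h]
    exact ht1
  have hx13 : x1 ≠ x3 := by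
    intro h
    apply ht3
    rw [← h]
    exact ht1
  have hx23 : x2 ≠ x3 := by
    intro h
    apply hr23.1
    rw [h]
    exact ⟨1, by simp⟩
  have hx1S : x1 ∉ insert x3 ({x2} : Finset M) := by
    rw [Finset.mem_insert, Finset.mem_singleton]
    rintro (h | h)
    · exact hx13 h
    · exact hx12 h
  have hx3S : x3 ∉ ({x2} : Finset M) := by
    rw [Finset.mem_singleton]
    exact fun h => hx23 h.symm
  have hpw : ∀ x ∈ insert x1 (insert x3 ({x2} : Finset M)),
      ∀ y ∈ insert x1 (insert x3 ({x2} : Finset M)), x ≠ y → ¬ Rel x y := by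
    intro x hx y hy hxy
    rw [Finset.mem_insert, Finset.mem_insert, Finset.mem_singleton] at hx hy
    rcases hx with hx | hx | hx <;> rcases hy with hy | hy | hy
    · exact absurd (hx.trans hy.symm) hxy
    · rw [hx, hy]
      exact (hr_zero x3 hne3 ht3).1
    · rw [hx, hy]
      exact (hr_zero x2 hne2 ht2).1
    · rw [hx, hy]
      exact (hr_zero x3 hne3 ht3).2
    · exact absurd (hx.trans hy.symm) hxy
    · rw [hx, hy]
      exact hr23.2
    · rw [hx, hy]
      exact (hr_zero x2 hne2 ht2).2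
    · rw [hx, hy]
      exact hr23.1
    · exact absurd (hx.trans hy.symm) hxy
  have hGoodS : ∀ x ∈ insert x1 (insert x3 ({x2} : Finset M)), Good (1 : M) x := by
    intro x hx
    rw [Finset.mem_insert, Finset.mem_insert, Finset.mem_singleton] at hx
    rcases hx with hx | hx | hx <;> rw [hx]
    · exact hg1
    · exact hg3
    · exact hg2
  have hsum_le := sum_le H _ hGoodS hpw
  rw [Finset.sum_insert hx1S, Finset.sum_insert hx3S, Finset.sum_singleton, pair_card] at hsum_le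
  have hk : 0 < Fintype.card M := Fintype.card_pos
  obtain ⟨s, rfl⟩ : ∃ s, q = s + 4 := ⟨q - 4, by omega⟩
  obtain ⟨t, rfl⟩ : ∃ t, P = t + 1 := ⟨P - 1, by omega⟩
  obtain ⟨b, rfl⟩ : ∃ b, a3 = b + 1 := ⟨a3 - 1, by omega⟩
  have e1 : t + 1 - 1 = t := by omega
  have e2 : s + 4 - 1 = s + 3 := by omega
  have e3 : s + 3 - 1 = s + 2 := by omega
  have e4 : b + 1 - 1 = b := by omega
  have e5 : s + 4 + 1 = s + 5 := by omega
  rw [e1, e2] at hdc1
  rw [e2, e3] at hdc2
  rw [e4] at hdc3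
  rw [e5] at ha3
  have hP := ar1e _ s t _ _ _ b hk hdc1 hdc2 hdc3 ha3 (by omega)
  have ht : t = s + 3 := by omega
  subst ht
  have hall : ∀ w : M, Good (1 : M) w →
      ∃ x ∈ insert x1 (insert x3 ({x2} : Finset M)), Rel x w := by
    intro w hw
    by_contra hcon
    push Not at hcon
    by_cases hww : w * w = 1
    · exact hcon x1 (Finset.mem_insert_self _ _) (invol_rel H x1 w hne1 hx1sq hw.1 hww)
    · have htw : ((w : SL2) : M2).trace ≠ 0 := by
        intro h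
        apply hww
        exact Subtype.ext (sq_of_tr_zero h2 (w : SL2) h)
      have ha2 := a2_of2 h2 M w htw
      have hN4 := norm_card_le H hw ha2
      have hdc4 := double_count H hw
      rw [pair_card] at hdc4
      have hC4 := three_le_cent w hw.1 hww
      have h4 : Fintype.card M ≤ 3 * (cls (1 : M) w).card := by
        obtain ⟨a, ha⟩ : ∃ a, Nat.card (Subgroup.centralizer {w}) = a + 3 :=
          ⟨Nat.card (Subgroup.centralizer {w}) - 3, by omega⟩
        rw [ha] at hdc4 hN4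
        have e6 : a + 3 - 1 = a + 2 := by omega
        rw [e6] at hdc4
        have h5 := Nat.mul_le_mul_left (cls (1 : M) w).card hN4
        by_contra hcon2
        push Not at hcon2
        have h6 := Nat.mul_le_mul_right (a + 2) (Nat.succ_le_of_lt hcon2)
        nlinarith
      have hwS : w ∉ insert x1 (insert x3 ({x2} : Finset M)) := by
        intro h
        exact hcon w h ⟨1, by simp⟩
      have hpw' : ∀ x ∈ insert w (insert x1 (insert x3 ({x2} : Finset M))),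
          ∀ y ∈ insert w (insert x1 (insert x3 ({x2} : Finset M))),
          x ≠ y → ¬ Rel x y := by
        intro x hx y hy hxy
        rw [Finset.mem_insert] at hx hy
        rcases hx with hx | hx <;> rcases hy with hy | hy
        · exact absurd (hx.trans hy.symm) hxy
        · rw [hx]
          intro h
          exact hcon y hy (rel_symm h)
        · rw [hy]
          exact hcon x hx
        · exact hpw x hx y hy hxy
      have hGood' : ∀ x ∈ insert w (insert x1 (insert x3 ({x2} : Finset M))),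
          Good (1 : M) x := by
        intro x hx
        rw [Finset.mem_insert] at hx
        rcases hx with hx | hx
        · rw [hx]
          exact hw
        · exact hGoodS x hx
      have hsum4 := sum_le H _ hGood' hpw'
      rw [Finset.sum_insert hwS, Finset.sum_insert hx1S, Finset.sum_insert hx3S,
        Finset.sum_singleton, pair_card] at hsum4
      exact ar2e _ s _ _ _ _ b hk hdc1 hdc2 hdc3 ha3 h4 (by omega)
  have hsum_eq := sum_eq H _ hGoodS hpw hall
  rw [Finset.sum_insert hx1S, Finset.sum_insert hx3S, Finset.sum_singleton, pair_card] at hsum_eq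
  have hfin := ar3e _ s _ _ _ b hk hdc1 hdc2 hdc3 ha3 (by omega)
  rw [Nat.card_eq_fintype_card, hfin]

end Cfsg.Agent.Helper14.EvC
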