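import Mathlib
import Cfsg.Agent.Helper14.SubO

set_option autoImplicit false

namespace Cfsg.Agent.Helper14.SubP

open Cfsg.Agent.Helper14.Mat2 Cfsg.Agent.Helper14.SL2Odd Cfsg.Agent.Helper14.PSL2
  Cfsg.Agent.Helper14.SL2Conj Cfsg.Agent.Helper14.Torus Cfsg.Agent.Helper14.TorusB
  Cfsg.Agent.Helper14.TorusC Cfsg.Agent.Helper14.TorusD Cfsg.Agent.Helper14.TorusE
  Cfsg.Agent.Helper14.SL2T Cfsg.Agent.Helper14.SubA Cfsg.Agent.Helper14.SubD
  Cfsg.Agent.Helper14.CE2 Cfsg.Agent.Helper14.SLc Cfsg.Agent.Helper14.SubJ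
  Cfsg.Agent.Helper14.SubK Cfsg.Agent.Helper14.SubL Cfsg.Agent.Helper14.SubM
  Cfsg.Agent.Helper14.SubN Cfsg.Agent.Helper14.SubO

variable {F : Type*} [Field F] {K : Type*} [Field K]

local notation "SL2" => Matrix.SpecialLinearGroup (Fin 2) F
local notation "M2" => Matrix (Fin 2) (Fin 2) F

theorem exists_hom_r [Fintype F] [Fintype K] (q r : ℕ) (hK : Fintype.card K = q)
    (hF : Fintype.card F = q ^ r) :
    ∃ (p n : ℕ), p.Prime ∧ q = p ^ n ∧ n ≠ 0 ∧ CharP F p ∧ CharP K p ∧ Nonempty (K →+* F) := by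
  obtain ⟨p, hp⟩ := CharP.exists K
  haveI := hp
  have hpp : p.Prime := CharP.char_is_prime K p
  haveI : Fact p.Prime := ⟨hpp⟩
  obtain ⟨n, -, hn⟩ := FiniteField.card K p
  obtain ⟨p', hp'⟩ := CharP.exists F
  haveI := hp'
  have hpp' : p'.Prime := CharP.char_is_prime F p'
  obtain ⟨m, -, hm⟩ := FiniteField.card F p'
  have hpeq : p' = p := by
    have h1 : p' ∣ q ^ r := by
      rw [← hF, hm]
      exact dvd_pow_self p' m.pos.ne'
    rw [← hK, hn, ← pow_mul] at h1
    exact (Nat.prime_dvd_prime_iff_eq hpp' hpp).mp (hpp'.dvd_of_dvd_pow h1)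
  subst hpeq
  letI : Algebra (ZMod p') K := ZMod.algebra K p'
  letI : Algebra (ZMod p') F := ZMod.algebra F p'
  have h1 := FiniteField.pow_finrank_eq_card p' K
  have h2 := FiniteField.pow_finrank_eq_card p' F
  rw [hn] at h1
  rw [hF, ← hK, hn, ← pow_mul] at h2
  have e1 := Nat.pow_right_injective hpp.two_le h1
  have e2 := Nat.pow_right_injective hpp.two_le h2
  obtain ⟨f⟩ := FiniteField.nonempty_algHom_of_finrank_dvd (F := ZMod p') (K := K) (L := F)
    (by rw [e1, e2]; exact dvd_mul_right _ _)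
  exact ⟨p', n, hpp, by rw [← hK, hn], n.pos.ne', inferInstance, inferInstance, ⟨f.toRingHom⟩⟩

theorem map_inj (ι : K →+* F) :
    Function.Injective (Matrix.SpecialLinearGroup.map ι :
      Matrix.SpecialLinearGroup (Fin 2) K →* SL2) := by
  intro a b h
  apply Subtype.ext
  have h' := congrArg Subtype.val h
  ext i j
  have := congrFun (congrFun h' i) j
  simp only [Matrix.SpecialLinearGroup.map_apply_coe, RingHom.mapMatrix_apply,
    Matrix.map_apply] at this
  exact ι.injective this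

theorem mem_range_map (ι : K →+* F) (g : SL2) (h : ∀ i j, (g : M2) i j ∈ Set.range ι) :
    g ∈ (Matrix.SpecialLinearGroup.map ι :
      Matrix.SpecialLinearGroup (Fin 2) K →* SL2).range := by
  choose a ha using h
  have hdet : (Matrix.of a : Matrix (Fin 2) (Fin 2) K).det = 1 := by
    apply ι.injective
    have hg := g.det_coe
    rw [Matrix.det_fin_two] at hg
    rw [map_one, Matrix.det_fin_two]
    simp only [Matrix.of_apply, map_sub, map_mul, ha]
    exact hg
  obtain ⟨g0, hg0⟩ : ∃ g0 : Matrix.SpecialLinearGroup (Fin 2) K,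
      (g0 : Matrix (Fin 2) (Fin 2) K) = Matrix.of a := ⟨⟨_, hdet⟩, rfl⟩
  refine ⟨g0, ?_⟩
  apply Subtype.ext
  rw [Matrix.SpecialLinearGroup.map_apply_coe, hg0]
  ext i j
  simp only [RingHom.mapMatrix_apply, Matrix.map_apply, Matrix.of_apply, ha]

theorem entries_of_mem_range (ι : K →+* F) (g : SL2)
    (hg : g ∈ (Matrix.SpecialLinearGroup.map ι :
      Matrix.SpecialLinearGroup (Fin 2) K →* SL2).range) :
    ∀ i j, (g : M2) i j ∈ Set.range ι := by
  obtain ⟨g0, rfl⟩ := hg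
  intro i j
  refine ⟨(g0 : Matrix (Fin 2) (Fin 2) K) i j, ?_⟩
  simp only [Matrix.SpecialLinearGroup.map_apply_coe, RingHom.mapMatrix_apply, Matrix.map_apply]

theorem exists_torus_K [Fintype K] (p : ℕ) [Fact p.Prime] [CharP K p]
    (hodd : Odd (Fintype.card K)) :
    ∃ Y g0 : Matrix.SpecialLinearGroup (Fin 2) K, orderOf Y = Fintype.card K + 1 ∧
      g0 * Y * g0⁻¹ * Y = Y * (g0 * Y * g0⁻¹) ∧ g0 * Y ≠ Y * g0 := by
  classical
  have hpp : p.Prime := Fact.out
  obtain ⟨Y, hY⟩ := exists_orderOf_of_dvd_card_add_one (F := K) p (Fintype.card K + 1) dvd_rfl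
  obtain ⟨n, -, hn⟩ := FiniteField.card K p
  have hq1 : 1 < Fintype.card K := Fintype.one_lt_card
  have hq3 : 3 ≤ Fintype.card K := by
    obtain ⟨m, hm⟩ := hodd
    omega
  have hpq : p ∣ Fintype.card K := by
    rw [hn]
    exact dvd_pow_self p n.pos.ne'
  have hτ : (Y : Matrix (Fin 2) (Fin 2) K).trace ^ 2 ≠ 4 := by
    intro h
    have h1 := pow_two_mul_char p Y h
    have h3 : Fintype.card K + 1 ∣ 2 * p := by
      rw [← hY]
      exact orderOf_dvd_of_pow_eq_one h1
    have hnd : ¬ p ∣ Fintype.card K + 1 := by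
      intro hd
      have := (Nat.dvd_add_right hpq).mp hd
      exact hpp.one_lt.ne' (Nat.dvd_one.mp this)
    have hcop : Nat.Coprime (Fintype.card K + 1) p :=
      ((Nat.Prime.coprime_iff_not_dvd hpp).mpr hnd).symm
    have h4 := hcop.dvd_of_dvd_mul_right h3
    have := Nat.le_of_dvd (by norm_num) h4
    omega
  have hself := zpowers_self_cent Y hY
  obtain ⟨m, hm⟩ : ∃ m, Fintype.card K + 1 = 2 * m := by
    obtain ⟨j, hj⟩ := hodd
    exact ⟨j + 1, by omega⟩
  have hm2 : 2 ≤ m := by omega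
  obtain ⟨hNc, -, -⟩ := normalizer_structure hodd Y hτ hself m (by rw [hY, hm]) hm2
  have hcz : Nat.card (Subgroup.zpowers Y) = 2 * m := by rw [Nat.card_zpowers, hY, hm]
  have hex : ∃ g0 ∈ Subgroup.normalizer ((Subgroup.zpowers Y :
      Subgroup (Matrix.SpecialLinearGroup (Fin 2) K)) : Set (Matrix.SpecialLinearGroup (Fin 2) K)),
      g0 ∉ Subgroup.zpowers Y := by
    by_contra hcon
    push Not at hcon
    have hle : Subgroup.normalizer ((Subgroup.zpowers Y :
      Subgroup (Matrix.SpecialLinearGroup (Fin 2) K)) : Set (Matrix.SpecialLinearGroup (Fin 2) K)) ≤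
        Subgroup.zpowers Y := hcon
    have := Subgroup.card_le_of_le hle
    omega
  obtain ⟨g0, hg0N, hg0⟩ := hex
  have hns : NS (Y : Matrix (Fin 2) (Fin 2) K) := nonscalar_of_trace Y hτ
  refine ⟨Y, g0, hY, ?_, ?_⟩
  · have hmem := (Subgroup.mem_normalizer_iff.mp hg0N Y).mp (Subgroup.mem_zpowers Y)
    obtain ⟨i, hi⟩ := Subgroup.mem_zpowers_iff.mp hmem
    rw [← hi]
    have := zpow_mul_comm Y i 1
    rw [zpow_one] at this
    exact this
  · intro h
    apply hg0
    rw [← hself Y (Subgroup.mem_zpowers Y) hns, Subgroup.mem_centralizer_singleton_iff]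
    exact h

end Cfsg.Agent.Helper14.SubP
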