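import Mathlib
import Cfsg.Agent.Helper14.EvC
import Cfsg.Agent.Helper14.SubP

set_option autoImplicit false

namespace Cfsg.Agent.Helper14.EvD

open Cfsg.Agent.Helper14.Mat2 Cfsg.Agent.Helper14.SL2Odd Cfsg.Agent.Helper14.PSL2
  Cfsg.Agent.Helper14.SL2Conj Cfsg.Agent.Helper14.Torus Cfsg.Agent.Helper14.TorusB
  Cfsg.Agent.Helper14.TorusC Cfsg.Agent.Helper14.TorusD Cfsg.Agent.Helper14.TorusE
  Cfsg.Agent.Helper14.SL2T Cfsg.Agent.Helper14.SubA Cfsg.Agent.Helper14.SubD
  Cfsg.Agent.Helper14.A4Sub

variable {K : Type*} [Field K]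

local notation "SL2" => Matrix.SpecialLinearGroup (Fin 2) K
local notation "M2" => Matrix (Fin 2) (Fin 2) K

theorem exists_torus_K2 [Fintype K] [CharP K 2] :
    ∃ Y g0 : SL2, orderOf Y = Fintype.card K + 1 ∧
      g0 * Y * g0⁻¹ * Y = Y * (g0 * Y * g0⁻¹) ∧ g0 * Y ≠ Y * g0 := by
  classical
  haveI : Fact (Nat.Prime 2) := ⟨Nat.prime_two⟩
  have h2 : (2 : K) = 0 := CharTwo.two_eq_zero
  obtain ⟨Y, hY⟩ := exists_orderOf_of_dvd_card_add_one (F := K) 2 (Fintype.card K + 1) dvd_rfl
  have hq1 : 1 < Fintype.card K := Fintype.one_lt_card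
  obtain ⟨a, b, c, d, hk⟩ : ∃ a b c d : K, (Y : M2) = !![a, b; c, d] :=
    ⟨_, _, _, _, Matrix.eta_fin_two _⟩
  have hdet := Y.det_coe
  rw [hk, Matrix.det_fin_two_of] at hdet
  have hinv : ((Y⁻¹ : SL2) : M2) = !![d, -b; -c, a] := by
    rw [Matrix.SpecialLinearGroup.coe_inv, hk, Matrix.adjugate_fin_two_of]
  have hkey : ∃ g0 : SL2, g0 * Y * g0⁻¹ = Y⁻¹ := by
    by_cases hb : b = 0
    · by_cases hc : c = 0
      · exfalso
        subst hb
        subst hc
        have had : a * d = 1 := by linear_combination hdet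
        have ha0 : a ≠ 0 := left_ne_zero_of_mul_eq_one had
        have hYd : Y = diag (Units.mk0 a ha0) := by
          apply Subtype.ext
          rw [hk, coe_diag, Units.val_inv_eq_inv_val, Units.val_mk0]
          have hd : a⁻¹ = d := by
            rw [inv_eq_iff_eq_inv]
            exact eq_inv_of_mul_eq_one_left had
          rw [hd]
        have hpow : Y ^ (Fintype.card K - 1) = 1 := by
          rw [hYd, ← map_pow]
          have : (Units.mk0 a ha0) ^ (Fintype.card K - 1) = 1 := by
            apply Units.ext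
            rw [Units.val_pow_eq_pow_val, Units.val_mk0, Units.val_one]
            exact FiniteField.pow_card_sub_one_eq_one a ha0
          rw [this, map_one]
        have hd := orderOf_dvd_of_pow_eq_one hpow
        rw [hY] at hd
        have := Nat.le_of_dvd (by omega) hd
        omega
      · obtain ⟨t, ht⟩ : ∃ t : K, t * c = a + d := ⟨(a + d) / c, div_mul_cancel₀ _ hc⟩
        refine ⟨xe t, ?_⟩
        apply conj_eq
        rw [hinv, hk, xe_coe, Matrix.mul_fin_two, Matrix.mul_fin_two]
        subst hb
        congr 1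
        ext i j
        fin_cases i <;> fin_cases j <;> simp <;>
          first | ring1 | linear_combination ht + a * h2 | linear_combination c * h2 |
            linear_combination ht + d * h2 | linear_combination -ht - a * h2 |
            linear_combination -c * h2 | linear_combination -ht - d * h2
    · obtain ⟨t, ht⟩ : ∃ t : K, t * b = a + d := ⟨(a + d) / b, div_mul_cancel₀ _ hb⟩
      refine ⟨ye t, ?_⟩
      apply conj_eq
      rw [hinv, hk, ye_coe, Matrix.mul_fin_two, Matrix.mul_fin_two]
      congr 1
      ext i j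
      fin_cases i <;> fin_cases j <;> simp <;>
        first | ring1 | linear_combination ht + a * h2 | linear_combination c * h2 |
          linear_combination b * h2 | linear_combination -b * h2 |
          linear_combination ht + d * h2 | linear_combination -ht - a * h2 |
          linear_combination -c * h2 | linear_combination -ht - d * h2
  obtain ⟨g0, hg0⟩ := hkey
  refine ⟨Y, g0, hY, ?_, ?_⟩
  · rw [hg0, inv_mul_cancel, mul_inv_cancel]
  · intro h
    have e : g0 * Y * g0⁻¹ = Y := by rw [h, mul_inv_cancel_right]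
    rw [hg0] at e
    have hsq : Y ^ 2 = 1 := by
      rw [pow_two]
      nth_rewrite 1 [← e]
      exact inv_mul_cancel Y
    have hd := orderOf_dvd_of_pow_eq_one hsq
    rw [hY] at hd
    have := Nat.le_of_dvd (by norm_num) hd
    omega

end Cfsg.Agent.Helper14.EvD
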