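import Mathlib
import Cfsg.Agent.Helper14.DG
import Cfsg.Agent.Helper14.EvD
import Cfsg.Agent.Helper4.Dih

set_option autoImplicit false

namespace Cfsg.Agent.Helper14.DH

open Cfsg.Agent.Helper14.Mat2 Cfsg.Agent.Helper14.SL2Odd Cfsg.Agent.Helper14.PSL2
  Cfsg.Agent.Helper14.SL2Conj Cfsg.Agent.Helper14.Torus Cfsg.Agent.Helper14.TorusB
  Cfsg.Agent.Helper14.TorusC Cfsg.Agent.Helper14.TorusD Cfsg.Agent.Helper14.TorusE
  Cfsg.Agent.Helper14.SL2T Cfsg.Agent.Helper14.SubA Cfsg.Agent.Helper14.SubD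
  Cfsg.Agent.Helper14.A4Sub Cfsg.Agent.Helper14.EvA Cfsg.Agent.Helper14.EvD
  Cfsg.Agent.Helper14.DA Cfsg.Agent.Helper14.DB Cfsg.Agent.Helper14.DC Cfsg.Agent.Helper14.DD
  Cfsg.Agent.Helper14.DE Cfsg.Agent.Helper14.DF Cfsg.Agent.Helper14.DG

variable {F : Type*} [Field F]

local notation "SL2" => Matrix.SpecialLinearGroup (Fin 2) F
local notation "M2" => Matrix (Fin 2) (Fin 2) F
local notation "PSL2" => Matrix.ProjectiveSpecialLinearGroup (Fin 2) F

theorem nc_of_inv (q : ℕ) (hq2 : 2 ≤ q) (A n0 : SL2) (hA : orderOf A = q + 1)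
    (hn0A : n0 * A * n0⁻¹ = A⁻¹) : n0 * A ≠ A * n0 := by
  intro h
  have h1 : n0 * A * n0⁻¹ = A := by rw [h, mul_inv_cancel_right]
  rw [hn0A] at h1
  have h2 : A * A = 1 := by
    nth_rewrite 1 [← h1]
    exact inv_mul_cancel A
  have h3 : orderOf A ∣ 2 := by
    apply orderOf_dvd_of_pow_eq_one
    rw [pow_two]
    exact h2
  rw [hA] at h3
  have := Nat.le_of_dvd (by norm_num) h3
  omega

theorem hn_of_inv (A n0 : SL2) (hn0A : n0 * A * n0⁻¹ = A⁻¹) :
    n0 * A * n0⁻¹ * A = A * (n0 * A * n0⁻¹) := by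
  rw [hn0A, inv_mul_cancel, mul_inv_cancel]

theorem card_ge [Fintype F] (q : ℕ) (A n0 : SL2) (hA : orderOf A = q + 1)
    (hnc : n0 * A ≠ A * n0) (K : Subgroup SL2) (hAK : A ∈ K) (hn0K : n0 ∈ K) :
    2 * (q + 1) ≤ Nat.card K := by
  have hcommA : ∀ y ∈ Subgroup.zpowers A, A * y * A⁻¹ = y := by
    intro y hy
    obtain ⟨k, rfl⟩ := Subgroup.mem_zpowers_iff.mp hy
    rw [← conj_zpow, mul_inv_cancel_right]
  have hzK : Subgroup.zpowers A ≤ K := by
    rw [Subgroup.zpowers_le]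
    exact hAK
  have hd := Subgroup.card_dvd_of_le hzK
  rw [Nat.card_zpowers, hA] at hd
  obtain ⟨c, hc⟩ := hd
  have hc0 : c ≠ 0 := by
    rintro rfl
    have : 0 < Nat.card K := Nat.card_pos
    omega
  have hc1 : c ≠ 1 := by
    rintro rfl
    have heq : Subgroup.zpowers A = K := Subgroup.eq_of_le_of_card_ge hzK (by
      rw [Nat.card_zpowers, hA, hc, mul_one])
    have hn0z : n0 ∈ Subgroup.zpowers A := by
      rw [heq]
      exact hn0K
    have := hcommA n0 hn0z
    apply hnc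
    calc n0 * A = (A * n0 * A⁻¹) * A := by rw [this]
      _ = A * n0 := by group
  have hc2 : 2 ≤ c := by omega
  rw [hc]
  calc 2 * (q + 1) = (q + 1) * 2 := by ring
    _ ≤ (q + 1) * c := Nat.mul_le_mul_left _ hc2

theorem tau_ne (p : ℕ) [Fact p.Prime] [CharP F p] (q : ℕ) (hpq : p ∣ q) (hq2 : 2 ≤ q) (T : SL2)
    (hoT : orderOf T = q + 1) : (T : M2).trace ^ 2 ≠ 4 := by
  have hpp : p.Prime := Fact.out
  intro htr
  have h1 := pow_two_mul_char p T htr
  have h3 : q + 1 ∣ 2 * p := by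
    rw [← hoT]
    exact orderOf_dvd_of_pow_eq_one h1
  have hnd : ¬ p ∣ q + 1 := by
    intro hd
    have := (Nat.dvd_add_right hpq).mp hd
    exact hpp.one_lt.ne' (Nat.dvd_one.mp this)
  have hcop : Nat.Coprime (q + 1) p := ((Nat.Prime.coprime_iff_not_dvd hpp).mpr hnd).symm
  have h4 := hcop.dvd_of_dvd_mul_right h3
  have := Nat.le_of_dvd (by norm_num) h4
  omega

theorem core_odd_a [Fintype F] (hodd : Odd (Fintype.card F)) (p : ℕ) [Fact p.Prime] [CharP F p]
    (q : ℕ) (hq : Fintype.card F = q) (hpq : p ∣ q) (hq5 : 5 ≤ q) (hq7 : q ≠ 7) (hq9 : q ≠ 9)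
    (A n0 : SL2) (hA : orderOf A = q + 1) (hn0A : n0 * A * n0⁻¹ = A⁻¹)
    (hNcard : Nat.card (Subgroup.normalizer ((Subgroup.zpowers A : Subgroup SL2) : Set SL2)) =
      2 * (q + 1))
    (M : Subgroup SL2) (hneg : negOne ∈ M) (hAM : A ∈ M) (hn0M : n0 ∈ M)
    (hNM : Subgroup.normalizer ((Subgroup.zpowers A : Subgroup SL2) : Set SL2) ≤ M)
    (hp : ¬ p ∣ Nat.card M) : Nat.card M = 2 * (q + 1) := by
  have hpp : p.Prime := Fact.out
  have hself := zpowers_self_cent A (by rw [hq]; exact hA)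
  have hnc := nc_of_inv q (by omega) A n0 hA hn0A
  have hKdvd1 : 2 * (q + 1) ∣ Nat.card M := by
    rw [← hNcard]
    exact Subgroup.card_dvd_of_le hNM
  have hKdvd2 : Nat.card M ∣ q * (q ^ 2 - 1) := by
    rw [← hq, ← card_SL2]
    exact Subgroup.card_subgroup_dvd_card M
  by_contra hne
  have hcases : Nat.card M = 24 ∨ Nat.card M = 48 ∨ Nat.card M = 120 := by
    rcases main_sl2 hodd p M hneg hp with hsq | h | h | h
    · exfalso
      apply hne
      have hAA : A * A ∈ Subgroup.zpowers A :=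
        mul_mem (Subgroup.mem_zpowers A) (Subgroup.mem_zpowers A)
      have hnsAA : NS ((A * A : SL2) : M2) := by
        by_contra hcon
        have h4 : A ^ 4 = 1 := by
          rcases scalar_of_not_NS _ hcon with h | h
          · calc A ^ 4 = (A * A) * (A * A) := by simp only [pow_succ, pow_zero, one_mul, mul_assoc]
              _ = 1 := by rw [h, one_mul]
          · calc A ^ 4 = (A * A) * (A * A) := by simp only [pow_succ, pow_zero, one_mul, mul_assoc]
              _ = 1 := by rw [h, negOne_mul_self]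
        have h3 : orderOf A ∣ 4 := orderOf_dvd_of_pow_eq_one h4
        rw [hA] at h3
        have := Nat.le_of_dvd (by norm_num) h3
        omega
      have hMN : M ≤ Subgroup.normalizer ((Subgroup.zpowers A : Subgroup SL2) : Set SL2) := by
        intro g hg
        apply norm_of_conj_mem A hself (A * A) g hAA hnsAA
        have h1 := hsq (g * A * g⁻¹) (mul_mem (mul_mem hg hAM) (inv_mem hg)) A hAM
        have e : g * A * g⁻¹ * (g * A * g⁻¹) = g * (A * A) * g⁻¹ := by group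
        rw [e] at h1
        rw [← hself (A * A) hAA hnsAA, Subgroup.mem_centralizer_singleton_iff]
        exact h1
      have hMeq : M = Subgroup.normalizer ((Subgroup.zpowers A : Subgroup SL2) : Set SL2) :=
        le_antisymm hMN hNM
      rw [hMeq]
      exact hNcard
    · exact Or.inl h
    · exact Or.inr (Or.inl h)
    · exact Or.inr (Or.inr h)
  have hq59 : q ≤ 59 := by
    have := Nat.le_of_dvd Nat.card_pos hKdvd1
    rcases hcases with h | h | h <;> omega
  have hqodd : q % 2 = 1 := by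
    rw [← hq]
    exact Nat.odd_iff.mp hodd
  have hK : Nat.card M ∈ ({24, 48, 120} : Finset ℕ) := by
    simp only [Finset.mem_insert, Finset.mem_singleton]
    exact hcases
  have hsc := small_cases q (Finset.mem_Icc.mpr ⟨hq5, hq59⟩) (Nat.card M) hK
    ⟨hqodd, hq7, hq9, hKdvd1, hne, hKdvd2⟩
  rcases hsc with ⟨h5, hK⟩ | ⟨h5, hK⟩ | ⟨h11, hK⟩ | ⟨h19, hK⟩ | ⟨h29, hK⟩
  · subst h5
    have : Fact (Nat.Prime 3) := ⟨by norm_num⟩
    have hj : orderOf (A ^ 2) = 3 := by 
      rw [orderOf_pow' A (by norm_num), hA]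
      decide
    obtain ⟨i, hi, hmod⟩ := syl_app 5 A n0 hA hself hn0A hnc hNcard M hAM hn0M 3 le_rfl 2 hj
      (by rw [hK]; norm_num)
    rw [hK] at hi
    have hi2 : i = 2 := by omega
    subst hi2
    exact absurd hmod (by decide)
  · subst h5
    have hp5 : p = 5 := (Nat.prime_dvd_prime_iff_eq hpp (by norm_num)).mp hpq
    apply hp
    rw [hK, hp5]
    norm_num
  · subst h11
    have : Fact (Nat.Prime 3) := ⟨by norm_num⟩
    have hj : orderOf (A ^ 4) = 3 := by 
      rw [orderOf_pow' A (by norm_num), hA]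
      decide
    obtain ⟨i, hi, hmod⟩ := syl_app 11 A n0 hA hself hn0A hnc hNcard M hAM hn0M 3 le_rfl 4 hj
      (by rw [hK]; norm_num)
    rw [hK] at hi
    have hi2 : i = 5 := by omega
    subst hi2
    exact absurd hmod (by decide)
  · subst h19
    have : Fact (Nat.Prime 5) := ⟨by norm_num⟩
    have hj : orderOf (A ^ 4) = 5 := by 
      rw [orderOf_pow' A (by norm_num), hA]
      decide
    obtain ⟨i, hi, hmod⟩ := syl_app 19 A n0 hA hself hn0A hnc hNcard M hAM hn0M 5 (by norm_num) 4 hj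
      (by rw [hK]; norm_num)
    rw [hK] at hi
    have hi2 : i = 3 := by omega
    subst hi2
    exact absurd hmod (by decide)
  · subst h29
    have : Fact (Nat.Prime 3) := ⟨by norm_num⟩
    have hj : orderOf (A ^ 10) = 3 := by 
      rw [orderOf_pow' A (by norm_num), hA]
      decide
    obtain ⟨i, hi, hmod⟩ := syl_app 29 A n0 hA hself hn0A hnc hNcard M hAM hn0M 3 le_rfl 10 hj
      (by rw [hK]; norm_num)
    rw [hK] at hi
    have hi2 : i = 2 := by omega
    subst hi2
    exact absurd hmod (by decide)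

theorem core_odd [Fintype F] (hodd : Odd (Fintype.card F)) (p : ℕ) [Fact p.Prime] [CharP F p]
    (q : ℕ) (hq : Fintype.card F = q) (hpq : p ∣ q) (hq3 : 3 ≤ q) (hq7 : q ≠ 7) (hq9 : q ≠ 9)
    (A n0 : SL2) (hA : orderOf A = q + 1) (hn0A : n0 * A * n0⁻¹ = A⁻¹)
    (hNcard : Nat.card (Subgroup.normalizer ((Subgroup.zpowers A : Subgroup SL2) : Set SL2)) =
      2 * (q + 1))
    (M : Subgroup SL2) (hAM : A ∈ M) (hn0M : n0 ∈ M)
    (hNM : Subgroup.normalizer ((Subgroup.zpowers A : Subgroup SL2) : Set SL2) ≤ M)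
    (hM : Nat.card M ≠ 2 * (q + 1)) : M = ⊤ := by
  have hpp : p.Prime := Fact.out
  have hneg : negOne ∈ M := hNM (negOne_mem_normalizer _)
  have hnc := nc_of_inv q (by omega) A n0 hA hn0A
  have hKdvd1 : 2 * (q + 1) ∣ Nat.card M := by
    rw [← hNcard]
    exact Subgroup.card_dvd_of_le hNM
  have hKdvd2 : Nat.card M ∣ q * (q ^ 2 - 1) := by
    rw [← hq, ← card_SL2]
    exact Subgroup.card_subgroup_dvd_card M
  by_cases hp : p ∣ Nat.card M
  · rcases core_p (Or.inr hodd) p q hq hpq hq3 hq9 M hneg A n0 hAM hn0M hA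
      (hn_of_inv A n0 hn0A) hnc hp with h | ⟨h, -⟩
    · exact h
    · exact absurd h (two_ne_zero_of_odd hodd)
  · exfalso
    have hqodd : q % 2 = 1 := by
      rw [← hq]
      exact Nat.odd_iff.mp hodd
    by_cases hq5 : 5 ≤ q
    · exact hM (core_odd_a hodd p q hq hpq hq5 hq7 hq9 A n0 hA hn0A hNcard M hneg hAM hn0M hNM hp)
    · have hq3' : q = 3 := by omega
      subst hq3'
      have hp3 : p = 3 := (Nat.prime_dvd_prime_iff_eq hpp (by norm_num)).mp hpq
      rw [hp3] at hp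
      obtain ⟨c, hc⟩ := hKdvd1
      rw [hc] at hKdvd2 hp hM
      have hc3 : c ∣ 3 := by
        have h8 : 8 * c ∣ 8 * 3 := by
          norm_num at hKdvd2 ⊢
          exact hKdvd2
        exact Nat.dvd_of_mul_dvd_mul_left (by norm_num) h8
      rcases (Nat.dvd_prime (by norm_num : Nat.Prime 3)).mp hc3 with h | h
      · subst h
        exact hM (by norm_num)
      · subst h
        exact hp (by norm_num)

theorem core_even [Fintype F] [CharP F 2] (q : ℕ) (hq : Fintype.card F = q) (hq4 : 4 ≤ q)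
    (A n0 : SL2) (hA : orderOf A = q + 1) (hn0A : n0 * A * n0⁻¹ = A⁻¹) (hn02 : n0 * n0 = 1)
    (M : Subgroup SL2) (hAM : A ∈ M) (hn0M : n0 ∈ M) (hM : Nat.card M ≠ 2 * (q + 1)) :
    M = ⊤ := by
  have : Fact (Nat.Prime 2) := ⟨Nat.prime_two⟩
  have h2 : (2 : F) = 0 := CharTwo.two_eq_zero
  have hneg : negOne ∈ M := by
    rw [negOne_eq_one h2]
    exact M.one_mem
  have hnc := nc_of_inv q (by omega) A n0 hA hn0A
  obtain ⟨n, -, hn⟩ := FiniteField.card F 2
  have hpq : 2 ∣ q := by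
    rw [← hq, hn]
    exact dvd_pow_self 2 n.pos.ne'
  have hq9 : q ≠ 9 := by omega
  have h2M : 2 ∣ Nat.card M := by
    have ho : orderOf n0 = 2 := by
      apply orderOf_eq_prime
      · rw [pow_two]
        exact hn02
      · intro h1
        apply hnc
        rw [h1, one_mul, mul_one]
    have h3 : orderOf (⟨n0, hn0M⟩ : M) = 2 := by rw [Subgroup.orderOf_mk, ho]
    have h4 := orderOf_dvd_natCard (⟨n0, hn0M⟩ : M)
    rw [h3] at h4
    exact h4
  rcases core_p (Or.inl h2) 2 q hq hpq (by omega) hq9 M hneg A n0 hAM hn0M hA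
    (hn_of_inv A n0 hn0A) hnc h2M with h | ⟨-, h⟩
  · exact h
  · exact absurd h hM

theorem data_odd [Fintype F] (hodd : Odd (Fintype.card F)) (p : ℕ) [Fact p.Prime] [CharP F p] :
    ∃ A n0 : SL2, orderOf A = Fintype.card F + 1 ∧
      n0 ∈ Subgroup.normalizer ((Subgroup.zpowers A : Subgroup SL2) : Set SL2) ∧
      n0 * A * n0⁻¹ = A⁻¹ ∧ n0 * n0 = negOne ∧
      Nat.card (Subgroup.normalizer ((Subgroup.zpowers A : Subgroup SL2) : Set SL2)) =
        2 * (Fintype.card F + 1) := by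
  classical
  have hpp : p.Prime := Fact.out
  obtain ⟨Y, hY⟩ := exists_orderOf_of_dvd_card_add_one (F := F) p (Fintype.card F + 1) dvd_rfl
  obtain ⟨n, -, hn⟩ := FiniteField.card F p
  have hq1 : 1 < Fintype.card F := Fintype.one_lt_card
  have hq3 : 3 ≤ Fintype.card F := by
    obtain ⟨m, hm⟩ := hodd
    omega
  have hpq : p ∣ Fintype.card F := by
    rw [hn]
    exact dvd_pow_self p n.pos.ne'
  have hτ := tau_ne p (Fintype.card F) hpq (by omega) Y hY
  have hself := zpowers_self_cent Y hY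
  obtain ⟨m, hm⟩ : ∃ m, Fintype.card F + 1 = 2 * m := by
    obtain ⟨j, hj⟩ := hodd
    exact ⟨j + 1, by omega⟩
  have hm2 : 2 ≤ m := by omega
  obtain ⟨hNc, hsq, -⟩ := normalizer_structure hodd Y hτ hself m (by rw [hY, hm]) hm2
  have hcz : Nat.card (Subgroup.zpowers Y) = 2 * m := by rw [Nat.card_zpowers, hY, hm]
  have hex : ∃ g0 ∈ Subgroup.normalizer ((Subgroup.zpowers Y : Subgroup SL2) : Set SL2),
      g0 ∉ Subgroup.zpowers Y := by
    by_contra hcon
    push Not at hcon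
    have hle : Subgroup.normalizer ((Subgroup.zpowers Y : Subgroup SL2) : Set SL2) ≤
        Subgroup.zpowers Y := hcon
    have := Subgroup.card_le_of_le hle
    omega
  obtain ⟨g0, hg0N, hg0⟩ := hex
  have hns : NS (Y : M2) := nonscalar_of_trace Y hτ
  have hmem := (Subgroup.mem_normalizer_iff.mp hg0N Y).mp (Subgroup.mem_zpowers Y)
  have hc : g0 * Y * g0⁻¹ * Y = Y * (g0 * Y * g0⁻¹) := by
    obtain ⟨i, hi⟩ := Subgroup.mem_zpowers_iff.mp hmem
    rw [← hi]
    have := zpow_mul_comm Y i 1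
    rw [zpow_one] at this
    exact this
  refine ⟨Y, g0, hY, hg0N, ?_, hsq g0 hg0N hg0, ?_⟩
  · rcases conj_mem_pair hodd Y (g0 * Y * g0⁻¹) hτ hc (trace_conj g0 Y) with h | h
    · exfalso
      apply hg0
      rw [← hself Y (Subgroup.mem_zpowers Y) hns, Subgroup.mem_centralizer_singleton_iff]
      calc g0 * Y = g0 * Y * g0⁻¹ * g0 := by group
        _ = Y * g0 := by rw [h]
    · exact h
  · rw [hNc]
    omega

theorem data_even [Fintype F] [CharP F 2] :
    ∃ A n0 : SL2, orderOf A = Fintype.card F + 1 ∧ n0 * A * n0⁻¹ = A⁻¹ ∧ n0 * n0 = 1 := by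
  have h2 : (2 : F) = 0 := CharTwo.two_eq_zero
  obtain ⟨Y, g0, hY, hcomm, hnc⟩ := exists_torus_K2 (K := F)
  have hq1 : 1 < Fintype.card F := Fintype.one_lt_card
  have hY1 : Y ≠ 1 := by
    intro h
    rw [h, orderOf_one] at hY
    omega
  have hns : NS (Y : M2) := NS_of_char_two h2 Y hY1
  have hτ : (Y : M2).trace ≠ 0 := by
    intro h
    have h1 := sq_of_tr_zero h2 Y h
    have h3 : orderOf Y ∣ 2 := by
      apply orderOf_dvd_of_pow_eq_one
      rw [pow_two]
      exact h1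
    rw [hY] at h3
    have := Nat.le_of_dvd (by norm_num) h3
    omega
  have hself := zpowers_self_cent Y hY
  have hinv : g0 * Y * g0⁻¹ = Y⁻¹ := by
    rcases conj_mem_pair2 h2 Y (g0 * Y * g0⁻¹) hτ hcomm (trace_conj g0 Y) with h | h
    · exfalso
      apply hnc
      calc g0 * Y = g0 * Y * g0⁻¹ * g0 := by group
        _ = Y * g0 := by rw [h]
    · exact h
  refine ⟨Y, g0, hY, hinv, ?_⟩
  have hcen : g0 * g0 ∈ Subgroup.zpowers Y := by
    rw [← hself Y (Subgroup.mem_zpowers Y) hns, Subgroup.mem_centralizer_singleton_iff]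
    have h1 : g0 * Y = Y⁻¹ * g0 := by
      calc g0 * Y = g0 * Y * g0⁻¹ * g0 := by group
        _ = Y⁻¹ * g0 := by rw [hinv]
    have h1' : g0 * Y⁻¹ = Y * g0 := by
      calc g0 * Y⁻¹ = Y * (Y⁻¹ * g0) * Y⁻¹ := by group
        _ = Y * (g0 * Y) * Y⁻¹ := by rw [h1]
        _ = Y * g0 := by group
    calc g0 * g0 * Y = g0 * (g0 * Y) := by group
      _ = g0 * (Y⁻¹ * g0) := by rw [h1]
      _ = (g0 * Y⁻¹) * g0 := by group
      _ = Y * g0 * g0 := by rw [h1']
      _ = Y * (g0 * g0) := by group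
  have hi := inv_conj g0 Y hinv (g0 * g0) hcen
  have hsq : (g0 * g0) ^ 2 = 1 := by
    have e : g0 * (g0 * g0) * g0⁻¹ = g0 * g0 := by group
    rw [e] at hi
    rw [pow_two]
    nth_rewrite 1 [hi]
    exact inv_mul_cancel _
  have ho1 : orderOf (g0 * g0) ∣ 2 := orderOf_dvd_of_pow_eq_one hsq
  have ho2 : orderOf (g0 * g0) ∣ Fintype.card F + 1 := by
    rw [← hY]
    exact orderOf_dvd_of_mem_zpowers hcen
  obtain ⟨n, -, hn⟩ := FiniteField.card F 2
  have heven : 2 ∣ Fintype.card F := by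
    rw [hn]
    exact dvd_pow_self 2 n.pos.ne'
  have ho3 : orderOf (g0 * g0) = 1 := by
    rcases (Nat.dvd_prime Nat.prime_two).mp ho1 with h | h
    · exact h
    · rw [h] at ho2
      omega
  exact orderOf_eq_one_iff.mp ho3

theorem pkg_iso (q : ℕ) (hq2 : 2 ≤ q) (A n0 : SL2) (hA : orderOf A = q + 1)
    (hn0A : n0 * A * n0⁻¹ = A⁻¹) (hn02 : n0 * n0 = negOne)
    (hcen : ∀ z ∈ Subgroup.center SL2, z = 1 ∨ z = negOne) (m : ℕ)
    (hord : orderOf (QuotientGroup.mk' (Subgroup.center SL2) A) = m) :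
    Nonempty (((Subgroup.closure ({n0, n0 * A} : Set SL2)).map
      (QuotientGroup.mk' (Subgroup.center SL2)) : Subgroup PSL2) ≃* DihedralGroup m) := by
  obtain ⟨π, hπ⟩ : ∃ π : SL2 →* PSL2, π = QuotientGroup.mk' (Subgroup.center SL2) := ⟨_, rfl⟩
  rw [← hπ] at hord ⊢
  have hnc := nc_of_inv q hq2 A n0 hA hn0A
  have hker : ∀ g : SL2, π g = 1 ↔ g ∈ Subgroup.center SL2 := by
    intro g
    rw [hπ, QuotientGroup.mk'_apply, QuotientGroup.eq_one_iff]
  have hπneg : π negOne = 1 := (hker _).mpr negOne_mem_center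
  have hcomm_of_center : ∀ g : SL2, g ∈ Subgroup.center SL2 → g * A = A * g := by
    intro g hg
    exact (Subgroup.mem_center_iff.mp hg A).symm
  have hx2 : π n0 * π n0 = 1 := by rw [← map_mul, hn02, hπneg]
  have hyy : n0 * A * (n0 * A) = negOne := by
    calc n0 * A * (n0 * A) = (n0 * A * n0⁻¹) * (n0 * n0) * A := by group
      _ = A⁻¹ * negOne * A := by rw [hn0A, hn02]
      _ = negOne := by rw [mul_assoc, negOne_comm, ← mul_assoc, inv_mul_cancel, one_mul]
  have hy2 : π (n0 * A) * π (n0 * A) = 1 := by rw [← map_mul, hyy, hπneg]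
  have hx1 : π n0 ≠ 1 := by
    intro h
    exact hnc (hcomm_of_center n0 ((hker _).mp h))
  have hy1 : π (n0 * A) ≠ 1 := by
    intro h
    have h1 := hcomm_of_center _ ((hker _).mp h)
    apply hnc
    have h3 : n0 * A * A * A⁻¹ = A * (n0 * A) * A⁻¹ := by rw [h1]
    calc n0 * A = n0 * A * A * A⁻¹ := by group
      _ = A * (n0 * A) * A⁻¹ := h3
      _ = A * n0 := by group
  have hAA : A * A ≠ 1 := by
    intro h
    have h3 : orderOf A ∣ 2 := by
      apply orderOf_dvd_of_pow_eq_one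
      rw [pow_two]
      exact h
    rw [hA] at h3
    have := Nat.le_of_dvd (by norm_num) h3
    omega
  have hxy : π n0 ≠ π (n0 * A) := by
    intro h
    rw [map_mul] at h
    have h1 : π A = 1 := by
      have := congrArg (fun t => (π n0)⁻¹ * t) h
      simpa using this.symm
    rcases hcen A ((hker _).mp h1) with h | h
    · apply hAA
      rw [h, one_mul]
    · apply hAA
      rw [h, negOne_mul_self]
  have hprod : π n0 * π (n0 * A) = π A := by
    rw [← map_mul, ← mul_assoc, hn02, map_mul, hπneg, one_mul]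
  have hcl : (Subgroup.closure ({n0, n0 * A} : Set SL2)).map π =
      Subgroup.closure ({π n0, π (n0 * A)} : Set PSL2) := by
    rw [MonoidHom.map_closure, Set.image_pair]
  obtain ⟨e⟩ := Cfsg.Agent.Helper4.closure_pair_mulEquiv_dihedral (π n0) (π (n0 * A))
    hx2 hy2 hx1 hy1 hxy
  rw [hprod, hord] at e
  exact ⟨(MulEquiv.subgroupCongr hcl).trans e⟩

theorem pkg_coatom [Fintype F] (q : ℕ) (hF : Fintype.card F = q) (hq3 : 3 ≤ q) (A n0 : SL2)
    (hn02 : n0 * n0 = negOne)
    (hcen : ∀ z ∈ Subgroup.center SL2, z = 1 ∨ z = negOne)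
    (hHt : Nat.card (Subgroup.closure ({n0, n0 * A} : Set SL2)) = 2 * (q + 1))
    (hcore : ∀ M : Subgroup SL2, A ∈ M → n0 ∈ M → Nat.card M ≠ 2 * (q + 1) → M = ⊤) :
    IsCoatom ((Subgroup.closure ({n0, n0 * A} : Set SL2)).map
      (QuotientGroup.mk' (Subgroup.center SL2)) : Subgroup PSL2) := by
  obtain ⟨Ht, hHtdef⟩ : ∃ Ht : Subgroup SL2, Ht = Subgroup.closure ({n0, n0 * A} : Set SL2) :=
    ⟨_, rfl⟩
  rw [← hHtdef] at hHt ⊢
  have hn0 : n0 ∈ Ht := by
    rw [hHtdef]
    exact Subgroup.subset_closure (by simp)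
  have hn0A' : n0 * A ∈ Ht := by
    rw [hHtdef]
    exact Subgroup.subset_closure (by simp)
  have hAHt : A ∈ Ht := by
    have h := mul_mem (inv_mem hn0) hn0A'
    rwa [inv_mul_cancel_left] at h
  have hcenle : Subgroup.center SL2 ≤ Ht := by
    intro z hz
    rcases hcen z hz with h | h
    · rw [h]
      exact Ht.one_mem
    · rw [h, ← hn02]
      exact mul_mem hn0 hn0
  have hcomap : (Ht.map (QuotientGroup.mk' (Subgroup.center SL2))).comap
      (QuotientGroup.mk' (Subgroup.center SL2)) = Ht := by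
    rw [Subgroup.comap_map_eq, QuotientGroup.ker_mk', sup_eq_left.mpr hcenle]
  refine ⟨?_, ?_⟩
  · intro htop
    have hHtop : Ht = ⊤ := by
      rw [← hcomap, htop, Subgroup.comap_top]
    have hc : Nat.card Ht = Nat.card SL2 := by
      rw [hHtop]
      exact Subgroup.card_top
    rw [hHt, card_SL2, hF] at hc
    have h1 : q ^ 2 - 1 = (q - 1) * (q + 1) := by
      obtain ⟨k, rfl⟩ : ∃ k, q = k + 1 := ⟨q - 1, by omega⟩
      simp only [Nat.add_sub_cancel]
      have e : (k + 1) ^ 2 = k * (k + 1 + 1) + 1 := by ring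
      rw [e, Nat.add_sub_cancel]
    rw [h1] at hc
    have h2 : 2 ≤ q - 1 := by omega
    have h3 : 3 * 2 * (q + 1) ≤ q * (q - 1) * (q + 1) := by
      apply Nat.mul_le_mul_right
      exact Nat.mul_le_mul hq3 h2
    have hc' : 2 * (q + 1) = q * (q - 1) * (q + 1) := by
      rw [hc]
      ring
    generalize q * (q - 1) * (q + 1) = R at hc' h3
    omega
  · intro Mb hMb
    obtain ⟨Mt, hMt⟩ : ∃ Mt : Subgroup SL2,
        Mt = Mb.comap (QuotientGroup.mk' (Subgroup.center SL2)) := ⟨_, rfl⟩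
    have hle : Ht ≤ Mt := by
      rw [hMt, ← hcomap]
      exact Subgroup.comap_mono hMb.le
    by_cases hcard : Nat.card Mt = 2 * (q + 1)
    · exfalso
      have hEq : Ht = Mt := Subgroup.eq_of_le_of_card_ge hle (by rw [hcard, hHt])
      have hMb2 : Mb = Ht.map (QuotientGroup.mk' (Subgroup.center SL2)) := by
        rw [hEq, hMt, Subgroup.map_comap_eq_self_of_surjective (QuotientGroup.mk'_surjective _)]
      exact hMb.ne hMb2.symm
    · have htop := hcore Mt (hle hAHt) (hle hn0) hcard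
      rw [hMt] at htop
      apply top_unique
      intro x _
      obtain ⟨y, rfl⟩ := QuotientGroup.mk'_surjective _ x
      have hy : y ∈ Mb.comap (QuotientGroup.mk' (Subgroup.center SL2)) := by
        rw [htop]
        trivial
      exact hy

end Cfsg.Agent.Helper14.DH
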