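import Mathlib
import Cfsg.Agent.Helper14.DH

set_option autoImplicit false

namespace Cfsg.Agent.Helper14.DI

open Classical

open Cfsg.Agent.Helper14.Mat2 Cfsg.Agent.Helper14.SL2Odd Cfsg.Agent.Helper14.PSL2
  Cfsg.Agent.Helper14.SL2Conj Cfsg.Agent.Helper14.Torus Cfsg.Agent.Helper14.TorusB
  Cfsg.Agent.Helper14.TorusC Cfsg.Agent.Helper14.TorusD Cfsg.Agent.Helper14.TorusE
  Cfsg.Agent.Helper14.SL2T Cfsg.Agent.Helper14.SubA Cfsg.Agent.Helper14.SubD
  Cfsg.Agent.Helper14.CE3 Cfsg.Agent.Helper14.A4Sub Cfsg.Agent.Helper14.EvA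
  Cfsg.Agent.Helper14.DA Cfsg.Agent.Helper14.DB Cfsg.Agent.Helper14.DC

theorem P_of_ge (s P d : ℕ) (hd : d = 1 ∨ (d = 2 ∧ Odd (s + 2))) (hPq : P ∣ s + 2)
    (hP : 1 ≤ P) (h : s + 1 ≤ d * (P - 1)) : P = s + 2 := by
  obtain ⟨m, hm⟩ := hPq
  obtain ⟨t, rfl⟩ : ∃ t, P = t + 1 := ⟨P - 1, by omega⟩
  have e : t + 1 - 1 = t := by omega
  rw [e] at h
  have hm0 : m ≠ 0 := by
    rintro rfl
    omega
  by_cases hm1 : m = 1
  · rw [hm1, mul_one] at hm
    exact hm.symm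
  exfalso
  rcases hd with rfl | ⟨rfl, hodd⟩
  · have hm2 : 2 ≤ m := by omega
    have := Nat.mul_le_mul_left (t + 1) hm2
    omega
  · rw [hm] at hodd
    have hmodd : Odd m := (Nat.odd_mul.mp hodd).2
    have hm3 : 3 ≤ m := by
      obtain ⟨j, hj⟩ := hmodd
      omega
    have := Nat.mul_le_mul_left (t + 1) hm3
    omega

theorem P_eq_odd_s (s P β : ℕ) (hqodd : Odd (s + 2)) (hq9 : s ≠ 7) (hPq : P ∣ s + 2)
    (hP2 : 2 ≤ P) (h1 : (s + 1) * P < β + 2 * (s + 1)) (h2 : β ≤ 2 * P * (P - 1)) :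
    P = s + 2 := by
  obtain ⟨m, hm⟩ := hPq
  by_contra hne
  rw [hm] at hqodd
  have hmodd : Odd m := (Nat.odd_mul.mp hqodd).2
  have hPodd : Odd P := (Nat.odd_mul.mp hqodd).1
  have hm1 : m ≠ 1 := by
    rintro rfl
    apply hne
    rw [hm, mul_one]
  have hm3 : 3 ≤ m := by
    obtain ⟨j, hj⟩ := hmodd
    omega
  have hP3 : 3 ≤ P := by
    obtain ⟨j, hj⟩ := hPodd
    omega
  obtain ⟨t, rfl⟩ : ∃ t, P = t + 3 := ⟨P - 3, by omega⟩
  have e : t + 3 - 1 = t + 2 := by omega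
  rw [e] at h2
  have hQ8 : 3 * t + 8 ≤ s + 1 := by
    have := Nat.mul_le_mul_left (t + 3) hm3
    omega
  have ht : t = 0 := by
    by_contra ht
    have ht2 : 2 ≤ t := by
      obtain ⟨j, hj⟩ := hPodd
      omega
    nlinarith [Nat.mul_le_mul_right (t + 1) hQ8, Nat.mul_le_mul_left t ht2, h1, h2]
  subst ht
  have hm' : m = 3 := by
    obtain ⟨j, hj⟩ := hmodd
    norm_num at h1 h2 hm
    omega
  subst hm'
  omega

theorem P_eq_even_s (s P β : ℕ) (hPq : P ∣ s + 2) (hP2 : 2 ≤ P) (hPe : 2 ∣ P)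
    (h1 : (s + 1) * P < β + 2 * (s + 1)) (h2 : β ≤ P * (P - 1)) : P = s + 2 ∨ P = 2 := by
  obtain ⟨m, hm⟩ := hPq
  by_cases hm1 : m = 1
  · left
    rw [hm, hm1, mul_one]
  right
  have hm0 : m ≠ 0 := by
    rintro rfl
    omega
  have hm2 : 2 ≤ m := by omega
  obtain ⟨t, rfl⟩ : ∃ t, P = t + 2 := ⟨P - 2, by omega⟩
  have e : t + 2 - 1 = t + 1 := by omega
  rw [e] at h2
  have hQ : 2 * t + 3 ≤ s + 1 := by
    have := Nat.mul_le_mul_left (t + 2) hm2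
    omega
  have ht : t = 0 := by
    by_contra ht
    have ht2 : 2 ≤ t := by omega
    nlinarith [Nat.mul_le_mul_right t hQ, Nat.mul_le_mul_left t ht2, h1, h2]
  rw [ht]

variable {F : Type*} [Field F]

local notation "SL2" => Matrix.SpecialLinearGroup (Fin 2) F
local notation "M2" => Matrix (Fin 2) (Fin 2) F

theorem class3g [Fintype F] (hpar : (2 : F) = 0 ∨ Odd (Fintype.card F)) (r : ℕ)
    (M : Subgroup SL2) [Fintype M] (hneg : negOne ∈ M) (T : SL2) (hT : T ∈ M)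
    (hoT : orderOf T = r) (hchi0 : SLc.chi T ≠ 0) (n0 : SL2) (hn0 : n0 ∈ M)
    (hn : n0 * T * n0⁻¹ * T = T * (n0 * T * n0⁻¹)) (hnc : n0 * T ≠ T * n0) :
    Good (⟨negOne, hneg⟩ : M) (⟨T, hT⟩ : M) ∧
      ∃ a3 : ℕ, 0 < a3 ∧ r ∣ a3 ∧
        a3 = Nat.card (Subgroup.centralizer {(⟨T, hT⟩ : M)}) ∧
        Fintype.card M * (a3 - (zfin (⟨negOne, hneg⟩ : M)).card) =
          (cls (⟨negOne, hneg⟩ : M) (⟨T, hT⟩ : M)).card * (2 * a3) := by
  have hns : NS (T : M2) := by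
    apply nonscalar_of_trace
    intro h
    apply hchi0
    unfold SLc.chi
    rw [h]
    ring
  have hg : Good (⟨negOne, hneg⟩ : M) (⟨T, hT⟩ : M) := good_of_nsn M hneg _ hns
  refine ⟨hg, Nat.card (Subgroup.centralizer {(⟨T, hT⟩ : M)}), Nat.card_pos, ?_, rfl, ?_⟩
  · have hmem : (⟨T, hT⟩ : M) ∈ Subgroup.centralizer {(⟨T, hT⟩ : M)} := by
      rw [Subgroup.mem_centralizer_singleton_iff]
    have ho : orderOf (⟨(⟨T, hT⟩ : M), hmem⟩ : Subgroup.centralizer {(⟨T, hT⟩ : M)}) = r := by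
      rw [Subgroup.orderOf_mk, Subgroup.orderOf_mk, hoT]
    rw [← ho]
    exact orderOf_dvd_natCard _
  · have hN := norm_card_eq0 (hyp0n M hneg) hg
      (a2_uni hpar M (⟨T, hT⟩ : M) hchi0) (⟨n0, hn0⟩ : M) (Subtype.ext hn)
      (fun hc => hnc (congrArg Subtype.val hc.eq))
    have hdc := double_count_z (hyp0n M hneg) hg
    rw [hN] at hdc
    exact hdc

theorem ker_ge [Fintype F] (M : Subgroup SL2) :
    Nat.card {v : F // xe v ∈ M} ≤ Nat.card (d00 M).ker := by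
  have h10 : ∀ v : {v : F // xe v ∈ M}, (⟨xe v.1, v.2⟩ : M) ∈ borM M := by
    intro v
    rw [mem_borM]
    exact xe_10 _
  have hk : ∀ v : {v : F // xe v ∈ M}, (⟨⟨xe v.1, v.2⟩, h10 v⟩ : borM M) ∈ (d00 M).ker := by
    intro v
    rw [MonoidHom.mem_ker]
    apply Units.ext
    rw [d00_val, Units.val_one]
    exact xe_00 _
  apply Nat.card_le_card_of_injective (fun v : {v : F // xe v ∈ M} =>
    (⟨⟨⟨xe v.1, v.2⟩, h10 v⟩, hk v⟩ : (d00 M).ker))
  intro v v' h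
  have e : xe v.1 = xe v'.1 :=
    congrArg (fun n : (d00 M).ker => (((n : borM M) : M) : SL2)) h
  apply Subtype.ext
  have e01 := congrArg (fun m : SL2 => (m : M2) 0 1) e
  simp only [xe_01] at e01
  exact e01

theorem beta_ge_of_upper [Fintype F] (p : ℕ) [Fact p.Prime] [CharP F p] (M : Subgroup SL2)
    (t : M) (h10 : ((t : SL2) : M2) 1 0 = 0) (r : ℕ) (ho : orderOf (t : SL2) = r)
    (hr : Nat.Coprime r p) :
    Nat.card {v : F // xe v ∈ M} * r ≤ Nat.card (borM M) := by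
  obtain ⟨tb, htb⟩ : ∃ tb : borM M, (tb : M) = t := ⟨⟨t, h10⟩, rfl⟩
  obtain ⟨j, hj⟩ : ∃ j, j = orderOf (d00 M tb) := ⟨_, rfl⟩
  have hjpos : 0 < j := by
    rw [hj]
    exact orderOf_pos _
  have hpow : (d00 M tb) ^ j = 1 := by
    rw [hj]
    exact pow_orderOf_eq_one _
  have h00 : ((t : SL2) : M2) 0 0 ^ j = 1 := by
    have := congrArg (fun u : Fˣ => (u : F)) hpow
    simp only [Units.val_pow_eq_pow_val, d00_val, Units.val_one, htb] at this
    exact this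
  obtain ⟨hp10, hp00⟩ := upper_pow (t : SL2) h10 j
  rw [h00] at hp00
  have hform := upper_one_form _ hp10 hp00
  have htr : (((t : SL2) ^ j : SL2) : M2).trace = 2 := by
    rw [hform, xe_coe, Matrix.trace_fin_two_of]
    norm_num
  have h1 := SLc.pow_char_of_trace_two p _ htr
  rw [← pow_mul] at h1
  have hd : r ∣ j * p := by
    rw [← ho]
    exact orderOf_dvd_of_pow_eq_one h1
  have hrj : r ∣ j := hr.dvd_of_dvd_mul_right hd
  have hrle : r ≤ j := Nat.le_of_dvd hjpos hrj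
  have hjr : j ≤ Nat.card (d00 M).range := by
    obtain ⟨y, hy⟩ : ∃ y : (d00 M).range, (y : Fˣ) = d00 M tb := ⟨⟨d00 M tb, ⟨tb, rfl⟩⟩, rfl⟩
    have h3 := orderOf_dvd_natCard y
    rw [← Subgroup.orderOf_coe, hy, ← hj] at h3
    exact Nat.le_of_dvd Nat.card_pos h3
  rw [card_borM]
  exact Nat.mul_le_mul (ker_ge M) (le_trans hrle hjr)

theorem exists_lower (T n0 : SL2) (hchi : SLc.chi T ≠ 0) (hinv : n0 * T * n0⁻¹ = T⁻¹) :
    (T : M2) 1 0 ≠ 0 ∨ (n0 : M2) 1 0 ≠ 0 := by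
  by_contra hcon
  push Not at hcon
  obtain ⟨hT10, hn10⟩ := hcon
  have hni := upper_inv_10 n0 hn10
  have e1 : ((n0 * T * n0⁻¹ : SL2) : M2) 0 0 =
      (n0 : M2) 0 0 * (T : M2) 0 0 * ((n0⁻¹ : SL2) : M2) 0 0 := by
    rw [upper_mul_00 _ _ hni, upper_mul_00 _ _ hT10]
  have e2 : (n0 : M2) 0 0 * ((n0⁻¹ : SL2) : M2) 0 0 = 1 := by
    rw [← upper_mul_00 _ _ hni, mul_inv_cancel]
    simp
  have e3 : ((T⁻¹ : SL2) : M2) 0 0 = (T : M2) 1 1 := by
    rw [Matrix.SpecialLinearGroup.coe_inv, Matrix.adjugate_fin_two]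
    simp
  rw [hinv, e3] at e1
  have e4 : (T : M2) 1 1 = (T : M2) 0 0 := by
    rw [e1]
    linear_combination (T : M2) 0 0 * e2
  have hd := upper_diag T hT10
  apply hchi
  unfold SLc.chi
  rw [Matrix.trace_fin_two, e4]
  rw [e4] at hd
  linear_combination 4 * hd

theorem cent_T_le_s [Fintype F] (M : Subgroup SL2) (T : SL2) (hT : T ∈ M) (r : ℕ)
    (hoT : orderOf T = r) (hcentT : ∀ c : SL2, c * T = T * c → c ∈ Subgroup.zpowers T) :
    Nat.card (Subgroup.centralizer {(⟨T, hT⟩ : M)}) ≤ r := by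
  have hcz : Nat.card (Subgroup.zpowers T) = r := by
    rw [Nat.card_zpowers, hoT]
  rw [← hcz]
  apply Nat.card_le_card_of_injective (fun c : Subgroup.centralizer {(⟨T, hT⟩ : M)} =>
    (⟨((c : M) : SL2), by
      apply hcentT
      have h := c.2
      rw [Subgroup.mem_centralizer_singleton_iff] at h
      exact congrArg Subtype.val h⟩ : Subgroup.zpowers T))
  intro c c' h
  have e : ((c : M) : SL2) = ((c' : M) : SL2) :=
    congrArg (fun z : Subgroup.zpowers T => (z : SL2)) h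
  exact Subtype.ext (Subtype.ext e)

end Cfsg.Agent.Helper14.DI
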