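import Mathlib
import Cfsg.Agent.Helper14.DK

set_option autoImplicit false

namespace Cfsg.Agent.Helper14.DL

open Cfsg.Agent.Helper14.Mat2 Cfsg.Agent.Helper14.SL2Odd Cfsg.Agent.Helper14.PSL2
  Cfsg.Agent.Helper14.SL2Conj Cfsg.Agent.Helper14.Torus Cfsg.Agent.Helper14.TorusB
  Cfsg.Agent.Helper14.TorusC Cfsg.Agent.Helper14.TorusD Cfsg.Agent.Helper14.TorusE
  Cfsg.Agent.Helper14.SL2T Cfsg.Agent.Helper14.SubA Cfsg.Agent.Helper14.SubD
  Cfsg.Agent.Helper14.A4Sub Cfsg.Agent.Helper14.EvA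
  Cfsg.Agent.Helper14.DA Cfsg.Agent.Helper14.DB Cfsg.Agent.Helper14.DC Cfsg.Agent.Helper14.DD
  Cfsg.Agent.Helper14.DE Cfsg.Agent.Helper14.DF Cfsg.Agent.Helper14.DG Cfsg.Agent.Helper14.DH
  Cfsg.Agent.Helper14.DI Cfsg.Agent.Helper14.DJ Cfsg.Agent.Helper14.DK

section abs

theorem mem_norm_of_inv {G : Type*} [Group G] (n0 A : G) (h : n0 * A * n0⁻¹ = A⁻¹) :
    n0 ∈ Subgroup.normalizer ((Subgroup.zpowers A : Subgroup G) : Set G) := by
  rw [Subgroup.mem_normalizer_iff]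
  intro x
  constructor
  · intro hx
    rw [inv_conj n0 A h x hx]
    exact inv_mem hx
  · intro hx
    have hn0A' : n0⁻¹ * A * n0⁻¹⁻¹ = A⁻¹ := by
      have h5 : n0 * A⁻¹ * n0⁻¹ = A := by
        have e : n0 * A⁻¹ * n0⁻¹ = (n0 * A * n0⁻¹)⁻¹ := by group
        rw [e, h, inv_inv]
      calc n0⁻¹ * A * n0⁻¹⁻¹ = n0⁻¹ * (n0 * A⁻¹ * n0⁻¹) * n0⁻¹⁻¹ := by rw [h5]
        _ = A⁻¹ := by group
    have h3 := inv_conj n0⁻¹ A hn0A' _ hx
    have e : x = n0⁻¹ * (n0 * x * n0⁻¹) * n0⁻¹⁻¹ := by group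
    rw [e, h3]
    exact inv_mem hx

theorem small_cases_s : ∀ s ∈ Finset.Icc 11 59, ∀ K ∈ ({24, 48, 120} : Finset ℕ),
    ((s + 2) % 2 = 1 ∧ 2 * (s + 1) ∣ K ∧ K ≠ 2 * (s + 1) ∧ K ∣ (s + 2) * ((s + 2) ^ 2 - 1)) →
      (s = 19 ∧ K = 120) ∨ (s = 29 ∧ K = 120) := by decide

end abs

variable {F : Type*} [Field F]

local notation "SL2" => Matrix.SpecialLinearGroup (Fin 2) F
local notation "M2" => Matrix (Fin 2) (Fin 2) F
local notation "PSL2" => Matrix.ProjectiveSpecialLinearGroup (Fin 2) F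

theorem core_ps [Fintype F] (hpar : (2 : F) = 0 ∨ Odd (Fintype.card F)) (p : ℕ)
    [Fact p.Prime] [CharP F p] (s : ℕ) (hq : Fintype.card F = s + 2) (hpq : p ∣ s + 2)
    (hs2 : 2 ≤ s) (hs7 : s ≠ 7)
    (M : Subgroup SL2) (hneg : negOne ∈ M) (T n0 : SL2) (hT : T ∈ M) (hn0 : n0 ∈ M)
    (hoT : orderOf T = s + 1) (hinv : n0 * T * n0⁻¹ = T⁻¹)
    (hcentT : ∀ c : SL2, c * T = T * c → c ∈ Subgroup.zpowers T)
    (hpM : p ∣ Nat.card M) :
    M = ⊤ ∨ ((2 : F) = 0 ∧ Nat.card M = 2 * (s + 1)) := by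
  have hpp : p.Prime := Fact.out
  obtain ⟨u, hu⟩ := exists_prime_orderOf_dvd_card' (G := M) p hpM
  have hu1 : (u : SL2) ≠ 1 := by
    intro h
    have h' : u = 1 := Subtype.ext h
    rw [h', orderOf_one] at hu
    exact hpp.one_lt.ne hu
  have hup : (u : SL2) ^ p = 1 := by
    have h := pow_orderOf_eq_one u
    rw [hu] at h
    exact congrArg Subtype.val h
  have htr := unip_tr p (u : SL2) hup
  obtain ⟨g, v0, hv0, hg⟩ := conj_unip (u : SL2) hu1 htr
  obtain ⟨M', hM'⟩ : ∃ M' : Subgroup SL2, M' = M.map (MulAut.conj g).toMonoidHom := ⟨_, rfl⟩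
  have hmem : ∀ x ∈ M, g * x * g⁻¹ ∈ M' := by
    intro x hx
    rw [hM']
    exact ⟨x, hx, by simp [MulAut.conj_apply]⟩
  have hcard : Nat.card M' = Nat.card M := by
    rw [hM']
    exact Subgroup.card_map_of_injective (MulAut.conj g).injective
  have hneg' : negOne ∈ M' := by
    have h := hmem negOne hneg
    rwa [← negOne_comm, mul_inv_cancel_right] at h
  have h1' : xe v0 ∈ M' := by
    rw [← hg]
    exact hmem _ u.2
  have hoT' : orderOf (g * T * g⁻¹) = s + 1 := by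
    have e : g * T * g⁻¹ = MulAut.conj g T := by rw [MulAut.conj_apply]
    rw [e, MulEquiv.orderOf_eq]
    exact hoT
  have hinv' : (g * n0 * g⁻¹) * (g * T * g⁻¹) * (g * n0 * g⁻¹)⁻¹ = (g * T * g⁻¹)⁻¹ := by
    have e1 : (g * n0 * g⁻¹) * (g * T * g⁻¹) * (g * n0 * g⁻¹)⁻¹ =
        g * (n0 * T * n0⁻¹) * g⁻¹ := by group
    rw [e1, hinv]
    group
  have hcentT' : ∀ c : SL2, c * (g * T * g⁻¹) = (g * T * g⁻¹) * c →
      c ∈ Subgroup.zpowers (g * T * g⁻¹) := by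
    intro c hc
    have h2 : (g⁻¹ * c * g) * T = T * (g⁻¹ * c * g) := by
      calc (g⁻¹ * c * g) * T = g⁻¹ * (c * (g * T * g⁻¹)) * g := by group
        _ = g⁻¹ * ((g * T * g⁻¹) * c) * g := by rw [hc]
        _ = T * (g⁻¹ * c * g) := by group
    obtain ⟨k, hk⟩ := Subgroup.mem_zpowers_iff.mp (hcentT _ h2)
    rw [Subgroup.mem_zpowers_iff]
    refine ⟨k, ?_⟩
    rw [conj_zpow, hk]
    group
  rcases core_bs hpar p s hq hpq hs2 hs7 M' hneg' (g * T * g⁻¹) (g * n0 * g⁻¹) (hmem T hT)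
    (hmem n0 hn0) hoT' hinv' hcentT' v0 hv0 h1' with htop | ⟨h2F, hc⟩
  · left
    rw [← Subgroup.card_eq_iff_eq_top] at htop ⊢
    rw [← hcard]
    exact htop
  · right
    exact ⟨h2F, by rw [← hcard]; exact hc⟩

/-- the diagonal embedding -/
def dg : Fˣ →* SL2 where
  toFun u := mk2 (u : F) 0 0 ((u⁻¹ : Fˣ) : F) (by rw [mul_zero, sub_zero, Units.mul_inv])
  map_one' := by
    apply Subtype.ext
    rw [mk2_coe, Matrix.SpecialLinearGroup.coe_one]
    ext i j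
    fin_cases i <;> fin_cases j <;> simp
  map_mul' := by
    intro u v
    apply Subtype.ext
    rw [Matrix.SpecialLinearGroup.coe_mul, mk2_coe, mk2_coe, mk2_coe, Matrix.mul_fin_two]
    congr 1
    ext i j
    fin_cases i <;> fin_cases j <;> simp [mul_comm]

theorem dg_coe (u : Fˣ) :
    ((dg u : SL2) : M2) = !![(u : F), 0; 0, ((u⁻¹ : Fˣ) : F)] := rfl

theorem dg_00 (u : Fˣ) : ((dg u : SL2) : M2) 0 0 = (u : F) := rfl
theorem dg_01 (u : Fˣ) : ((dg u : SL2) : M2) 0 1 = 0 := rfl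
theorem dg_10 (u : Fˣ) : ((dg u : SL2) : M2) 1 0 = 0 := rfl
theorem dg_11 (u : Fˣ) : ((dg u : SL2) : M2) 1 1 = ((u⁻¹ : Fˣ) : F) := rfl

theorem dg_inj : Function.Injective (dg : Fˣ →* SL2) := by
  intro u v h
  apply Units.ext
  have := congrArg (fun m : SL2 => (m : M2) 0 0) h
  simpa only [dg_00] using this

theorem comm_diag (u : Fˣ) (hu : (u : F) ≠ ((u⁻¹ : Fˣ) : F)) (c : SL2)
    (hc : c * dg u = dg u * c) : ∃ v : Fˣ, c = dg v := by
  have h10 : (c : M2) 1 0 = 0 := comm_upper (dg u) c (dg_10 u) (by rw [dg_00, dg_11]; exact hu) hc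
  have e := congrArg Subtype.val hc
  rw [Matrix.SpecialLinearGroup.coe_mul, Matrix.SpecialLinearGroup.coe_mul] at e
  have e01 := congrFun (congrFun e 0) 1
  simp only [Matrix.mul_apply, Fin.sum_univ_two, dg_00, dg_01, dg_10, dg_11] at e01
  have h01 : (c : M2) 0 1 = 0 := by
    have h : (c : M2) 0 1 * ((u : F) - ((u⁻¹ : Fˣ) : F)) = 0 := by linear_combination -e01
    exact (mul_eq_zero.mp h).resolve_right (sub_ne_zero.mpr hu)
  have hd := upper_diag c h10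
  have h00 : (c : M2) 0 0 ≠ 0 := left_ne_zero_of_mul_eq_one hd
  refine ⟨Units.mk0 _ h00, ?_⟩
  apply Subtype.ext
  rw [dg_coe]
  have h11 : (c : M2) 1 1 = ((c : M2) 0 0)⁻¹ := eq_inv_of_mul_eq_one_right hd
  ext i j
  fin_cases i <;> fin_cases j <;> simp [h10, h01, h11]

theorem dg_NS (u : Fˣ) (h : NS ((dg u : SL2) : M2)) : (u : F) ≠ ((u⁻¹ : Fˣ) : F) := by
  unfold NS at h
  rcases h with h | h | h
  · exact absurd (dg_10 u) h
  · exact absurd (dg_01 u) h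
  · exact h

theorem split_data [Fintype F] (s : ℕ) (hq : Fintype.card F = s + 2) (hs2 : 2 ≤ s) :
    ∃ A n0 : SL2, orderOf A = s + 1 ∧ n0 * A * n0⁻¹ = A⁻¹ ∧ n0 * n0 = negOne ∧
      (∀ c : SL2, c * A = A * c → c ∈ Subgroup.zpowers A) ∧
      (∀ x ∈ Subgroup.zpowers A, NS (x : M2) →
        Subgroup.centralizer ({x} : Set SL2) = Subgroup.zpowers A) := by
  classical
  obtain ⟨a, ha⟩ := IsCyclic.exists_ofOrder_eq_natCard (α := Fˣ)
  have hcard : Nat.card Fˣ = s + 1 := by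
    rw [Nat.card_units, Nat.card_eq_fintype_card, hq]
    omega
  have hoa : orderOf a = s + 1 := by rw [ha, hcard]
  have hgen : ∀ u : Fˣ, u ∈ Subgroup.zpowers a := by
    have htop : Subgroup.zpowers a = ⊤ := by
      rw [← Subgroup.card_eq_iff_eq_top, Nat.card_zpowers, ha]
    intro u
    rw [htop]
    trivial
  have hoA : orderOf (dg a : SL2) = s + 1 := by
    rw [orderOf_injective dg dg_inj a, hoa]
  have hrange : ∀ v : Fˣ, (dg v : SL2) ∈ Subgroup.zpowers (dg a : SL2) := by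
    intro v
    obtain ⟨k, rfl⟩ := Subgroup.mem_zpowers_iff.mp (hgen v)
    rw [map_zpow]
    exact Subgroup.zpow_mem_zpowers _ k
  have hau : (a : F) ≠ ((a⁻¹ : Fˣ) : F) := by
    intro h
    have h1 : a = a⁻¹ := Units.ext h
    have h2 : a ^ 2 = 1 := by
      rw [pow_two]
      nth_rewrite 2 [h1]
      exact mul_inv_cancel a
    have h3 : orderOf a ∣ 2 := orderOf_dvd_of_pow_eq_one h2
    rw [hoa] at h3
    have := Nat.le_of_dvd (by norm_num) h3
    omega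
  obtain ⟨n0, hn0⟩ : ∃ n0 : SL2, n0 = mk2 0 1 (-1) 0 (by ring) := ⟨_, rfl⟩
  refine ⟨dg a, n0, hoA, ?_, ?_, ?_, ?_⟩
  · rw [← map_inv]
    apply conj_eq
    rw [hn0, mk2_coe, dg_coe, dg_coe, Matrix.mul_fin_two, Matrix.mul_fin_two]
    congr 1
    ext i j
    fin_cases i <;> fin_cases j <;> simp
  · apply Subtype.ext
    rw [Matrix.SpecialLinearGroup.coe_mul, hn0, mk2_coe, coe_negOne, Matrix.mul_fin_two]
    congr 1
    ext i j
    fin_cases i <;> fin_cases j <;> simp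
  · intro c hc
    obtain ⟨v, rfl⟩ := comm_diag a hau c hc
    exact hrange v
  · intro x hx hns
    obtain ⟨k, rfl⟩ := Subgroup.mem_zpowers_iff.mp hx
    rw [← map_zpow] at hns ⊢
    have hu := dg_NS _ hns
    ext c
    rw [Subgroup.mem_centralizer_singleton_iff]
    constructor
    · intro h
      obtain ⟨v, rfl⟩ := comm_diag _ hu c h
      exact hrange v
    · intro h
      obtain ⟨j, rfl⟩ := Subgroup.mem_zpowers_iff.mp h
      rw [← map_zpow, ← map_mul, ← map_mul, mul_comm]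

theorem tau_ne_s (p : ℕ) [Fact p.Prime] [CharP F p] (s : ℕ) (hpq : p ∣ s + 2) (hs2 : 2 ≤ s)
    (T : SL2) (hoT : orderOf T = s + 1) : (T : M2).trace ^ 2 ≠ 4 := by
  have hpp : p.Prime := Fact.out
  intro htr
  have h1 := pow_two_mul_char p T htr
  have h3 : s + 1 ∣ 2 * p := by
    rw [← hoT]
    exact orderOf_dvd_of_pow_eq_one h1
  have hnd : ¬ p ∣ s + 1 := by
    intro hd
    have h5 : p ∣ 1 := (Nat.dvd_add_right hd).mp hpq
    exact hpp.one_lt.ne' (Nat.dvd_one.mp h5)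
  have hcop : Nat.Coprime (s + 1) p := ((Nat.Prime.coprime_iff_not_dvd hpp).mpr hnd).symm
  have h4 := hcop.dvd_of_dvd_mul_right h3
  have := Nat.le_of_dvd (by norm_num) h4
  omega

theorem norm_le_closure [Fintype F] (hodd : Odd (Fintype.card F)) (A n0 : SL2)
    (hτ : (A : M2).trace ^ 2 ≠ 4)
    (hcentA : ∀ c : SL2, c * A = A * c → c ∈ Subgroup.zpowers A)
    (hn0A : n0 * A * n0⁻¹ = A⁻¹) :
    Subgroup.normalizer ((Subgroup.zpowers A : Subgroup SL2) : Set SL2) ≤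
      Subgroup.closure ({n0, n0 * A} : Set SL2) := by
  have hn0 : n0 ∈ Subgroup.closure ({n0, n0 * A} : Set SL2) :=
    Subgroup.subset_closure (by simp)
  have hn0A' : n0 * A ∈ Subgroup.closure ({n0, n0 * A} : Set SL2) :=
    Subgroup.subset_closure (by simp)
  have hA : A ∈ Subgroup.closure ({n0, n0 * A} : Set SL2) := by
    have h := mul_mem (inv_mem hn0) hn0A'
    rwa [inv_mul_cancel_left] at h
  have hz : Subgroup.zpowers A ≤ Subgroup.closure ({n0, n0 * A} : Set SL2) := by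
    rw [Subgroup.zpowers_le]
    exact hA
  intro g hg
  have hmem := (Subgroup.mem_normalizer_iff.mp hg A).mp (Subgroup.mem_zpowers A)
  have hc : g * A * g⁻¹ * A = A * (g * A * g⁻¹) := by
    obtain ⟨i, hi⟩ := Subgroup.mem_zpowers_iff.mp hmem
    rw [← hi]
    have := zpow_mul_comm A i 1
    rw [zpow_one] at this
    exact this
  rcases conj_mem_pair hodd A (g * A * g⁻¹) hτ hc (trace_conj g A) with h | h
  · apply hz
    apply hcentA
    calc g * A = g * A * g⁻¹ * g := by group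
      _ = A * g := by rw [h]
  · have h3 : n0⁻¹ * A⁻¹ * n0 = A := by
      rw [← hn0A]
      group
    have h2 : (n0⁻¹ * g) * A = A * (n0⁻¹ * g) := by
      calc (n0⁻¹ * g) * A = n0⁻¹ * (g * A * g⁻¹) * g := by group
        _ = n0⁻¹ * A⁻¹ * g := by rw [h]
        _ = (n0⁻¹ * A⁻¹ * n0) * (n0⁻¹ * g) := by group
        _ = A * (n0⁻¹ * g) := by rw [h3]
    have h4 := hz (hcentA _ h2)
    have h5 := mul_mem hn0 h4
    rwa [mul_inv_cancel_left] at h5

end Cfsg.Agent.Helper14.DL
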