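import Mathlib
import Cfsg.Agent.Helper14.SL2T
import Cfsg.Agent.Helper25.SL2

set_option autoImplicit false

namespace Cfsg.Agent.Helper14.SL2U

open Cfsg.Agent.Helper14.Mat2 Cfsg.Agent.Helper14.SL2Odd Cfsg.Agent.Helper14.PSL2
  Cfsg.Agent.Helper14.SL2Conj Cfsg.Agent.Helper14.Torus Cfsg.Agent.Helper14.TorusB
  Cfsg.Agent.Helper14.TorusC Cfsg.Agent.Helper14.TorusD Cfsg.Agent.Helper14.TorusE

variable {F : Type*} [Field F]

local notation "SL2" => Matrix.SpecialLinearGroup (Fin 2) F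
local notation "M2" => Matrix (Fin 2) (Fin 2) F

theorem exists_R (h2 : (2 : F) ≠ 0) (u : SL2) (hu1 : u ≠ 1) (htr : (u : M2).trace = 2) :
    ∃ R R' : M2, R * R' = 1 ∧ R' * R = 1 ∧ (u : M2) * R = R * !![1, 1; 0, 1] := by
  have hns : NS (u : M2) := by
    by_contra hcon
    rcases scalar_of_not_NS u hcon with h | h
    · exact hu1 h
    · rw [h, coe_negOne, Matrix.trace_fin_two_of] at htr
      apply h2
      have e : (2 : F) * 2 = 0 := by linear_combination -htr
      exact mul_self_eq_zero.mp e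
  obtain ⟨P, hP, hc⟩ := exists_conj_compSL u hns
  rw [htr, coe_compSL] at hc
  have hdet : (P * !![-1, 1; 1, 0]).det ≠ 0 := by
    rw [Matrix.det_mul, Matrix.det_fin_two_of]
    simpa using hP
  have hunit : IsUnit (P * !![-1, 1; 1, 0]).det := isUnit_iff_ne_zero.mpr hdet
  refine ⟨P * !![-1, 1; 1, 0], (P * !![-1, 1; 1, 0])⁻¹, Matrix.mul_nonsing_inv _ hunit,
    Matrix.nonsing_inv_mul _ hunit, ?_⟩
  rw [← mul_assoc, hc, mul_assoc, mul_assoc]
  congr 1
  simp only [comp]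
  rw [Matrix.mul_fin_two, Matrix.mul_fin_two]
  congr 1
  ext i j
  fin_cases i <;> fin_cases j <;> simp <;> ring

theorem ut_of_comm (R R' : M2) (hRR' : R * R' = 1) (hR'R : R' * R = 1) (u : SL2)
    (hu : (u : M2) * R = R * !![1, 1; 0, 1]) (h : SL2) (hc : Commute (h * u * h⁻¹) u) :
    (R' * (h : M2) * R) 1 0 = 0 := by
  obtain ⟨A, hA⟩ : ∃ A : M2, A = R' * (h : M2) * R := ⟨_, rfl⟩
  obtain ⟨A', hA'⟩ : ∃ A' : M2, A' = R' * ((h⁻¹ : SL2) : M2) * R := ⟨_, rfl⟩
  obtain ⟨U, hU⟩ : ∃ U : M2, U = R' * ((h * u * h⁻¹ : SL2) : M2) * R := ⟨_, rfl⟩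
  have hX : R' * (u : M2) * R = !![1, 1; 0, 1] := by
    rw [mul_assoc, hu, ← mul_assoc, hR'R, one_mul]
  have hins : ∀ B C : M2, R' * (B * C) * R = (R' * B * R) * (R' * C * R) := by
    intro B C
    calc R' * (B * C) * R = R' * B * (1 : M2) * C * R := by
          rw [mul_one]
          simp only [mul_assoc]
      _ = (R' * B * R) * (R' * C * R) := by
          rw [← hRR']
          simp only [mul_assoc]
  have hA'A : A' * A = 1 := by
    rw [hA, hA', ← hins, ← Matrix.SpecialLinearGroup.coe_mul, inv_mul_cancel,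
      Matrix.SpecialLinearGroup.coe_one, mul_one, hR'R]
  have hUA : U * A = A * !![1, 1; 0, 1] := by
    have e : h * u * h⁻¹ * h = h * u := by group
    rw [hU, hA, ← hins, ← hX, ← hins, ← Matrix.SpecialLinearGroup.coe_mul,
      ← Matrix.SpecialLinearGroup.coe_mul, e]
  have hUX : U * !![1, 1; 0, 1] = !![1, 1; 0, 1] * U := by
    rw [hU, ← hX, ← hins, ← hins, ← Matrix.SpecialLinearGroup.coe_mul,
      ← Matrix.SpecialLinearGroup.coe_mul, hc.eq]
  rw [← hA]
  have hdet : A.det ≠ 0 := by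
    intro h0
    have := congrArg Matrix.det hA'A
    rw [Matrix.det_mul, h0, mul_zero, Matrix.det_one] at this
    exact zero_ne_one this
  rw [Matrix.eta_fin_two U, Matrix.eta_fin_two A, Matrix.mul_fin_two, Matrix.mul_fin_two] at hUA
  rw [Matrix.eta_fin_two U, Matrix.mul_fin_two, Matrix.mul_fin_two] at hUX
  have c00 := congrFun (congrFun hUX 0) 0
  have c01 := congrFun (congrFun hUX 0) 1
  have a10 := congrFun (congrFun hUA 1) 0
  have a11 := congrFun (congrFun hUA 1) 1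
  simp at c00 c01 a10 a11
  -- c00 : U 1 0 = 0 ; c01 : U 0 0 = U 1 1 (some form)
  rw [c00] at a10 a11
  simp at a10 a11
  by_cases hd : U 1 1 = 1
  · rw [hd, one_mul] at a11
    linear_combination -a11
  · have e : (U 1 1 - 1) * A 1 0 = 0 := by linear_combination a10
    rcases mul_eq_zero.mp e with h | h
    · exact absurd (sub_eq_zero.mp h) hd
    · exact h

theorem ut_trace (A B A' B' : M2) (hA : A 1 0 = 0) (hB : B 1 0 = 0) (hA' : A' 1 0 = 0)
    (hB' : B' 1 0 = 0) (h1 : A * A' = 1) (h2 : B * B' = 1) : (A * B * A' * B').trace = 2 := by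
  rw [Matrix.eta_fin_two A, Matrix.eta_fin_two A', Matrix.mul_fin_two, Matrix.one_fin_two] at h1
  rw [Matrix.eta_fin_two B, Matrix.eta_fin_two B', Matrix.mul_fin_two, Matrix.one_fin_two] at h2
  have a00 := congrFun (congrFun h1 0) 0
  have a11 := congrFun (congrFun h1 1) 1
  have b00 := congrFun (congrFun h2 0) 0
  have b11 := congrFun (congrFun h2 1) 1
  simp [hA, hA', hB, hB'] at a00 a11 b00 b11
  rw [Matrix.eta_fin_two A, Matrix.eta_fin_two B, Matrix.eta_fin_two A', Matrix.eta_fin_two B',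
    Matrix.mul_fin_two, Matrix.mul_fin_two, Matrix.mul_fin_two, Matrix.trace_fin_two_of,
    hA, hB, hA', hB']
  linear_combination (A 0 0 * A' 0 0) * b00 + a00 + (A 1 1 * A' 1 1) * b11 + a11

theorem trace_comm_two (h2 : (2 : F) ≠ 0) (u : SL2) (hu1 : u ≠ 1) (htr : (u : M2).trace = 2)
    (h₁ h₂ : SL2) (c1 : Commute (h₁ * u * h₁⁻¹) u) (c2 : Commute (h₂ * u * h₂⁻¹) u)
    (c1' : Commute (h₁⁻¹ * u * h₁⁻¹⁻¹) u) (c2' : Commute (h₂⁻¹ * u * h₂⁻¹⁻¹) u) :
    ((h₁ * h₂ * h₁⁻¹ * h₂⁻¹ : SL2) : M2).trace = 2 := by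
  obtain ⟨R, R', hRR', hR'R, hu⟩ := exists_R h2 u hu1 htr
  have hins : ∀ B C : M2, R' * (B * C) * R = (R' * B * R) * (R' * C * R) := by
    intro B C
    calc R' * (B * C) * R = R' * B * (1 : M2) * C * R := by
          rw [mul_one]
          simp only [mul_assoc]
      _ = (R' * B * R) * (R' * C * R) := by
          rw [← hRR']
          simp only [mul_assoc]
  have e1 := ut_of_comm R R' hRR' hR'R u hu h₁ c1
  have e2 := ut_of_comm R R' hRR' hR'R u hu h₂ c2
  have e1' := ut_of_comm R R' hRR' hR'R u hu h₁⁻¹ c1'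
  have e2' := ut_of_comm R R' hRR' hR'R u hu h₂⁻¹ c2'
  have i1 : (R' * (h₁ : M2) * R) * (R' * ((h₁⁻¹ : SL2) : M2) * R) = 1 := by
    rw [← hins, ← Matrix.SpecialLinearGroup.coe_mul, mul_inv_cancel,
      Matrix.SpecialLinearGroup.coe_one, mul_one, hR'R]
  have i2 : (R' * (h₂ : M2) * R) * (R' * ((h₂⁻¹ : SL2) : M2) * R) = 1 := by
    rw [← hins, ← Matrix.SpecialLinearGroup.coe_mul, mul_inv_cancel,
      Matrix.SpecialLinearGroup.coe_one, mul_one, hR'R]
  have key := ut_trace _ _ _ _ e1 e2 e1' e2' i1 i2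
  rw [← hins, ← hins, ← hins, ← Matrix.SpecialLinearGroup.coe_mul,
    ← Matrix.SpecialLinearGroup.coe_mul, ← Matrix.SpecialLinearGroup.coe_mul,
    Matrix.trace_mul_comm, ← mul_assoc, hRR', one_mul] at key
  exact key


theorem natCast_surj [Fintype F] (p : ℕ) [Fact p.Prime] (hF : Fintype.card F = p) (t : F) :
    ∃ n : ℕ, (n : F) = t := by
  obtain ⟨e⟩ : Nonempty (ZMod p ≃+* F) := ⟨ZMod.ringEquivOfPrime F (Fact.out : p.Prime) hF⟩
  refine ⟨(e.symm t).val, ?_⟩
  have h1 : (((e.symm t).val : ℕ) : ZMod p) = e.symm t := ZMod.natCast_zmod_val _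
  have h2 := congrArg e h1
  rw [map_natCast, RingEquiv.apply_symm_apply] at h2
  exact h2

theorem gen_top [Fintype F] (p : ℕ) [Fact p.Prime] (hF : Fintype.card F = p) (h2 : (2 : F) ≠ 0)
    (Mt : Subgroup SL2) (u : SL2) (hu : u ∈ Mt) (hu1 : u ≠ 1) (htr : (u : M2).trace = 2)
    (h : SL2) (hh : h ∈ Mt) (hnc : ¬ Commute (h * u * h⁻¹) u) : Mt = ⊤ := by
  obtain ⟨R, R', hRR', hR'R, huR⟩ := exists_R h2 u hu1 htr
  obtain ⟨A, hA⟩ : ∃ A : M2, A = R' * (h : M2) * R := ⟨_, rfl⟩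
  have hdetR : R'.det * R.det = 1 := by
    rw [← Matrix.det_mul, hR'R, Matrix.det_one]
  have hdetA : A.det = 1 := by
    rw [hA, Matrix.det_mul, Matrix.det_mul, h.det_coe, mul_one, hdetR]
  have hRA : R * A = (h : M2) * R := by
    rw [hA, ← mul_assoc, ← mul_assoc, hRR', one_mul]
  obtain ⟨p0, q0, r0, s0, hAe⟩ : ∃ p0 q0 r0 s0 : F, A = !![p0, q0; r0, s0] :=
    ⟨A 0 0, A 0 1, A 1 0, A 1 1, Matrix.eta_fin_two A⟩
  have hdet' : p0 * s0 - q0 * r0 = 1 := by
    rw [hAe, Matrix.det_fin_two_of] at hdetA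
    exact hdetA
  have hAadj : A * !![s0, -q0; -r0, p0] = 1 := by
    rw [hAe, Matrix.mul_fin_two, Matrix.one_fin_two]
    congr 1
    ext i j
    fin_cases i <;> fin_cases j <;> simp <;>
      first | ring1 | linear_combination hdet' | linear_combination -hdet'
  have hinvR : ((h⁻¹ : SL2) : M2) * R = R * !![s0, -q0; -r0, p0] := by
    calc ((h⁻¹ : SL2) : M2) * R
        = ((h⁻¹ : SL2) : M2) * R * (A * !![s0, -q0; -r0, p0]) := by rw [hAadj, mul_one]
      _ = ((h⁻¹ : SL2) : M2) * (R * A) * !![s0, -q0; -r0, p0] := by simp only [mul_assoc]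
      _ = ((h⁻¹ : SL2) : M2) * ((h : M2) * R) * !![s0, -q0; -r0, p0] := by rw [hRA]
      _ = R * !![s0, -q0; -r0, p0] := by
          rw [← mul_assoc, ← Matrix.SpecialLinearGroup.coe_mul, inv_mul_cancel,
            Matrix.SpecialLinearGroup.coe_one, one_mul]
  have hV : A * !![1, 1; 0, 1] * !![s0, -q0; -r0, p0] =
      !![1 - p0 * r0, p0 ^ 2; -r0 ^ 2, 1 + p0 * r0] := by
    rw [hAe, Matrix.mul_fin_two, Matrix.mul_fin_two]
    congr 1
    ext i j
    fin_cases i <;> fin_cases j <;> simp <;>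
      first | ring1 | linear_combination hdet' | linear_combination -hdet' |
        linear_combination (-1 : F) * hdet'
  have hu'R : ((h * u * h⁻¹ : SL2) : M2) * R =
      R * !![1 - p0 * r0, p0 ^ 2; -r0 ^ 2, 1 + p0 * r0] := by
    calc ((h * u * h⁻¹ : SL2) : M2) * R
        = (h : M2) * ((u : M2) * (((h⁻¹ : SL2) : M2) * R)) := by
          rw [Matrix.SpecialLinearGroup.coe_mul, Matrix.SpecialLinearGroup.coe_mul]
          simp only [mul_assoc]
      _ = (h : M2) * ((u : M2) * R) * !![s0, -q0; -r0, p0] := by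
          rw [hinvR]
          simp only [mul_assoc]
      _ = (h : M2) * R * !![1, 1; 0, 1] * !![s0, -q0; -r0, p0] := by
          rw [huR]
          simp only [mul_assoc]
      _ = R * (A * !![1, 1; 0, 1] * !![s0, -q0; -r0, p0]) := by
          rw [← hRA]
          simp only [mul_assoc]
      _ = _ := by rw [hV]
  have hr0 : r0 ≠ 0 := by
    intro hr
    apply hnc
    apply Subtype.ext
    have e1 : ((h * u * h⁻¹ : SL2) : M2) * (u : M2) * R =
        (u : M2) * ((h * u * h⁻¹ : SL2) : M2) * R := by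
      rw [mul_assoc, huR, ← mul_assoc, hu'R, mul_assoc (u : M2), hu'R, ← mul_assoc, huR,
        mul_assoc, mul_assoc]
      congr 1
      rw [hr, Matrix.mul_fin_two, Matrix.mul_fin_two]
      congr 1
      ext i j
      fin_cases i <;> fin_cases j <;> simp <;> ring
    rw [Matrix.SpecialLinearGroup.coe_mul, Matrix.SpecialLinearGroup.coe_mul]
    calc ((h * u * h⁻¹ : SL2) : M2) * (u : M2)
        = ((h * u * h⁻¹ : SL2) : M2) * (u : M2) * R * R' := by
          rw [mul_assoc _ R R', hRR', mul_one]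
      _ = (u : M2) * ((h * u * h⁻¹ : SL2) : M2) * R * R' := by rw [e1]
      _ = (u : M2) * ((h * u * h⁻¹ : SL2) : M2) := by rw [mul_assoc _ R R', hRR', mul_one]
  obtain ⟨S, hS⟩ : ∃ S : M2, S = R * !![1, p0; 0, r0] := ⟨_, rfl⟩
  obtain ⟨S', hS'⟩ : ∃ S' : M2, S' = !![1, -p0 / r0; 0, 1 / r0] * R' := ⟨_, rfl⟩
  have hTT' : (!![1, p0; 0, r0] : M2) * !![1, -p0 / r0; 0, 1 / r0] = 1 := by
    rw [Matrix.mul_fin_two, Matrix.one_fin_two]
    congr 1
    ext i j
    fin_cases i <;> fin_cases j <;> simp <;> field_simp <;> ring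
  have hT'T : (!![1, -p0 / r0; 0, 1 / r0] : M2) * !![1, p0; 0, r0] = 1 := by
    rw [Matrix.mul_fin_two, Matrix.one_fin_two]
    congr 1
    ext i j
    fin_cases i <;> fin_cases j <;> simp <;> field_simp <;> ring
  have hSS' : S * S' = 1 := by
    rw [hS, hS']
    calc R * !![1, p0; 0, r0] * (!![1, -p0 / r0; 0, 1 / r0] * R')
        = R * (!![1, p0; 0, r0] * !![1, -p0 / r0; 0, 1 / r0]) * R' := by simp only [mul_assoc]
      _ = 1 := by rw [hTT', mul_one, hRR']
  have hS'S : S' * S = 1 := by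
    rw [hS, hS']
    calc !![1, -p0 / r0; 0, 1 / r0] * R' * (R * !![1, p0; 0, r0])
        = !![1, -p0 / r0; 0, 1 / r0] * (R' * R) * !![1, p0; 0, r0] := by simp only [mul_assoc]
      _ = 1 := by rw [hR'R, mul_one, hT'T]
  have huS : (u : M2) * S = S * !![1, r0; 0, 1] := by
    rw [hS, ← mul_assoc, huR, mul_assoc, mul_assoc]
    congr 1
    rw [Matrix.mul_fin_two, Matrix.mul_fin_two]
    congr 1
    ext i j
    fin_cases i <;> fin_cases j <;> simp <;> ring
  have hu'S : ((h * u * h⁻¹ : SL2) : M2) * S = S * !![1, 0; -r0, 1] := by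
    rw [hS, ← mul_assoc, hu'R, mul_assoc, mul_assoc]
    congr 1
    rw [Matrix.mul_fin_two, Matrix.mul_fin_two]
    congr 1
    ext i j
    fin_cases i <;> fin_cases j <;> simp <;> ring
  have hpow : ∀ n : ℕ, ((u ^ n : SL2) : M2) * S = S * !![1, (n : F) * r0; 0, 1] := by
    intro n
    induction n with
    | zero =>
      rw [pow_zero, Matrix.SpecialLinearGroup.coe_one, one_mul, Nat.cast_zero, zero_mul,
        ← Matrix.one_fin_two, mul_one]
    | succ n ih =>
      rw [pow_succ, Matrix.SpecialLinearGroup.coe_mul, mul_assoc, huS, ← mul_assoc, ih, mul_assoc]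
      congr 1
      rw [Matrix.mul_fin_two]
      congr 1
      ext i j
      fin_cases i <;> fin_cases j <;> simp <;> ring
  have hpow' : ∀ n : ℕ, (((h * u * h⁻¹) ^ n : SL2) : M2) * S =
      S * !![1, 0; (n : F) * (-r0), 1] := by
    intro n
    induction n with
    | zero =>
      rw [pow_zero, Matrix.SpecialLinearGroup.coe_one, one_mul, Nat.cast_zero, zero_mul,
        ← Matrix.one_fin_two, mul_one]
    | succ n ih =>
      rw [pow_succ, Matrix.SpecialLinearGroup.coe_mul, mul_assoc, hu'S, ← mul_assoc, ih,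
        mul_assoc]
      congr 1
      rw [Matrix.mul_fin_two]
      congr 1
      ext i j
      fin_cases i <;> fin_cases j <;> simp <;> ring
  have hu'mem : h * u * h⁻¹ ∈ Mt := Mt.mul_mem (Mt.mul_mem hh hu) (Mt.inv_mem hh)
  obtain ⟨W, hW⟩ : ∃ W : Subgroup SL2, ∀ g : SL2, g ∈ W ↔
      ∃ m ∈ Mt, (m : M2) * S = S * (g : M2) := by
    refine ⟨{ carrier := {g | ∃ m ∈ Mt, (m : M2) * S = S * (g : M2)}
              mul_mem' := ?_
              one_mem' := ?_
              inv_mem' := ?_ }, fun g => Iff.rfl⟩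
    · rintro a b ⟨m₁, hm₁, e₁⟩ ⟨m₂, hm₂, e₂⟩
      refine ⟨m₁ * m₂, Mt.mul_mem hm₁ hm₂, ?_⟩
      rw [Matrix.SpecialLinearGroup.coe_mul, Matrix.SpecialLinearGroup.coe_mul, mul_assoc, e₂,
        ← mul_assoc, e₁, mul_assoc]
    · exact ⟨1, Mt.one_mem, by simp⟩
    · rintro a ⟨m, hm, e⟩
      refine ⟨m⁻¹, Mt.inv_mem hm, ?_⟩
      have ea : (a : M2) * ((a⁻¹ : SL2) : M2) = 1 := by
        rw [← Matrix.SpecialLinearGroup.coe_mul, mul_inv_cancel, Matrix.SpecialLinearGroup.coe_one]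
      have em : ((m⁻¹ : SL2) : M2) * (m : M2) = 1 := by
        rw [← Matrix.SpecialLinearGroup.coe_mul, inv_mul_cancel, Matrix.SpecialLinearGroup.coe_one]
      calc ((m⁻¹ : SL2) : M2) * S = ((m⁻¹ : SL2) : M2) * S * ((a : M2) * ((a⁻¹ : SL2) : M2)) := by
            rw [ea, mul_one]
        _ = ((m⁻¹ : SL2) : M2) * (S * (a : M2)) * ((a⁻¹ : SL2) : M2) := by simp only [mul_assoc]
        _ = ((m⁻¹ : SL2) : M2) * ((m : M2) * S) * ((a⁻¹ : SL2) : M2) := by rw [e]
        _ = S * ((a⁻¹ : SL2) : M2) := by rw [← mul_assoc, em, one_mul]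
  have hWtop : W = ⊤ := by
    rw [eq_top_iff, ← Cfsg.Agent.Helper25.sl2_gen F, sup_le_iff]
    constructor
    · intro g hg
      rw [Cfsg.Agent.Helper25.mem_lower] at hg
      obtain ⟨n, hn⟩ := natCast_surj p hF ((g : M2) 1 0 / (-r0))
      rw [hW]
      refine ⟨(h * u * h⁻¹) ^ n, Mt.pow_mem hu'mem n, ?_⟩
      rw [hpow' n, hn]
      congr 1
      rw [Matrix.eta_fin_two (g : M2), hg.1, hg.2.1, hg.2.2]
      congr 1
      ext i j
      fin_cases i <;> fin_cases j <;> simp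
      field_simp
    · intro g hg
      rw [Cfsg.Agent.Helper25.mem_upper] at hg
      obtain ⟨n, hn⟩ := natCast_surj p hF ((g : M2) 0 1 / r0)
      rw [hW]
      refine ⟨u ^ n, Mt.pow_mem hu n, ?_⟩
      rw [hpow n, hn]
      congr 1
      rw [Matrix.eta_fin_two (g : M2), hg.1, hg.2.1, hg.2.2]
      congr 1
      ext i j
      fin_cases i <;> fin_cases j <;> simp
      field_simp
  rw [eq_top_iff]
  intro g _
  have hdetS : S'.det * S.det = 1 := by
    rw [← Matrix.det_mul, hS'S, Matrix.det_one]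
  obtain ⟨g', hg'⟩ : ∃ g' : SL2, (g' : M2) = S' * (g : M2) * S :=
    ⟨⟨S' * (g : M2) * S, by
      rw [Matrix.det_mul, Matrix.det_mul, g.det_coe, mul_one, hdetS]⟩, rfl⟩
  have hmem : g' ∈ W := by
    rw [hWtop]
    exact Subgroup.mem_top _
  rw [hW] at hmem
  obtain ⟨m, hm, e⟩ := hmem
  have hmg : m = g := by
    apply Subtype.ext
    calc (m : M2) = (m : M2) * S * S' := by rw [mul_assoc, hSS', mul_one]
      _ = S * (S' * (g : M2) * S) * S' := by rw [e, hg']
      _ = (S * S') * (g : M2) * (S * S') := by simp only [mul_assoc]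
      _ = (g : M2) := by rw [hSS', one_mul, mul_one]
  rw [← hmg]
  exact hm

end Cfsg.Agent.Helper14.SL2U
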