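import Mathlib
import Cfsg.Agent.Helper14.SL2U
import Cfsg.Agent.Helper13.PSL2Sylow
import Cfsg.Agent.S3740

set_option autoImplicit false

namespace Cfsg.Agent.Helper14.PSLMax

open Cfsg.Agent.Helper14.Mat2 Cfsg.Agent.Helper14.SL2Odd Cfsg.Agent.Helper14.PSL2
  Cfsg.Agent.Helper14.SL2Conj Cfsg.Agent.Helper14.Torus Cfsg.Agent.Helper14.TorusB
  Cfsg.Agent.Helper14.TorusC Cfsg.Agent.Helper14.TorusD Cfsg.Agent.Helper14.TorusE
  Cfsg.Agent.Helper14.A4Sub Cfsg.Agent.Helper14.SL2T Cfsg.Agent.Helper14.SL2U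

variable {F : Type*} [Field F]

local notation "SL2" => Matrix.SpecialLinearGroup (Fin 2) F
local notation "M2" => Matrix (Fin 2) (Fin 2) F
local notation "PSL2" => Matrix.ProjectiveSpecialLinearGroup (Fin 2) F

theorem card_comap [Fintype F] (hodd : Odd (Fintype.card F)) (M : Subgroup PSL2) :
    Nat.card (M.comap (QuotientGroup.mk' (Subgroup.center SL2))) = 2 * Nat.card M := by
  have h1 := Subgroup.card_mul_index (M.comap (QuotientGroup.mk' (Subgroup.center SL2)))
  have hi : (M.comap (QuotientGroup.mk' (Subgroup.center SL2))).index = M.index :=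
    Subgroup.index_comap_of_surjective M (QuotientGroup.mk'_surjective _)
  rw [hi] at h1
  have h2 := Subgroup.card_mul_index M
  have h3 := Cfsg.Agent.Helper13.card_PSL2_mul_two hodd
  have h4 : Nat.card SL2 = Fintype.card F * (Fintype.card F ^ 2 - 1) := card_SL2
  have hpos : 0 < M.index := Nat.pos_of_ne_zero Subgroup.index_ne_zero_of_finite
  apply Nat.eq_of_mul_eq_mul_right hpos
  rw [h1, h4, ← h3, ← h2]
  ring

theorem max_of [Fintype F] (p : ℕ) [Fact p.Prime] [CharP F p] (hF : Fintype.card F = p)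
    (hodd : Odd (Fintype.card F))
    (H : Subgroup PSL2) (x y : PSL2) (hx : x ∈ H) (hy : y ∈ H)
    (hxy : x * x * (y * y) ≠ y * y * (x * x)) (hcop : ¬ p ∣ Nat.card H)
    (M : Subgroup PSL2) (hHM : H ≤ M) :
    M = ⊤ ∨ (Nat.card M = 12 ∨ Nat.card M = 24 ∨ Nat.card M = 60) := by
  have h2 := two_ne_zero_of_odd hodd
  have hp2 : p ≠ 2 := by
    rintro rfl
    rw [hF] at hodd
    exact absurd hodd (by decide)
  obtain ⟨xt, hxt⟩ := QuotientGroup.mk_surjective x
  obtain ⟨yt, hyt⟩ := QuotientGroup.mk_surjective y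
  obtain ⟨Mt, hMt⟩ : ∃ Mt : Subgroup SL2, Mt = M.comap (QuotientGroup.mk' (Subgroup.center SL2)) :=
    ⟨_, rfl⟩
  obtain ⟨Ht, hHt⟩ : ∃ Ht : Subgroup SL2, Ht = H.comap (QuotientGroup.mk' (Subgroup.center SL2)) :=
    ⟨_, rfl⟩
  have hmemM : ∀ g : SL2, g ∈ Mt ↔ (QuotientGroup.mk g : PSL2) ∈ M := by
    intro g
    rw [hMt]
    rfl
  have hmemH : ∀ g : SL2, g ∈ Ht ↔ (QuotientGroup.mk g : PSL2) ∈ H := by
    intro g
    rw [hHt]
    rfl
  have hHtMt : Ht ≤ Mt := by
    intro g hg
    rw [hmemM]
    exact hHM ((hmemH g).mp hg)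
  have hnegH : (negOne : SL2) ∈ Ht := by
    rw [hmemH]
    have : (QuotientGroup.mk (negOne : SL2) : PSL2) = 1 := by
      rw [QuotientGroup.eq_one_iff]
      exact negOne_mem_center
    rw [this]
    exact H.one_mem
  have hnegM : (negOne : SL2) ∈ Mt := hHtMt hnegH
  have hxtH : xt ∈ Ht := by
    rw [hmemH, hxt]
    exact hx
  have hytH : yt ∈ Ht := by
    rw [hmemH, hyt]
    exact hy
  have hcardM : Nat.card Mt = 2 * Nat.card M := by
    rw [hMt]
    exact card_comap hodd M
  have hcardH : Nat.card Ht = 2 * Nat.card H := by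
    rw [hHt]
    exact card_comap hodd H
  have hcopH : ¬ p ∣ Nat.card Ht := by
    rw [hcardH]
    intro hd
    rcases (Nat.Prime.dvd_mul Fact.out).mp hd with h | h
    · exact hp2 ((Nat.prime_dvd_prime_iff_eq Fact.out Nat.prime_two).mp h)
    · exact hcop h
  by_cases hpM : p ∣ Nat.card Mt
  · left
    obtain ⟨u', hu'⟩ := exists_prime_orderOf_dvd_card' (G := Mt) p hpM
    obtain ⟨u, huM, hue⟩ : ∃ u : SL2, u ∈ Mt ∧ u = (u' : SL2) := ⟨_, u'.2, rfl⟩
    have huo : orderOf u = p := by
      rw [hue, Subgroup.orderOf_coe, hu']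
    have hu1 : u ≠ 1 := by
      intro h
      rw [h, orderOf_one] at huo
      exact (Fact.out : p.Prime).one_lt.ne huo
    have hup : u ^ (p ^ 1) = 1 := by
      rw [pow_one, ← huo]
      exact pow_orderOf_eq_one u
    have htr := (Cfsg.Agent.S3740.unipotent_of_pow p u 1 hup).1
    by_cases hall : ∀ h ∈ Mt, Commute (h * u * h⁻¹) u
    · exfalso
      have c1 := hall xt (hHtMt hxtH)
      have c2 := hall yt (hHtMt hytH)
      have c1' := hall xt⁻¹ (Mt.inv_mem (hHtMt hxtH))
      have c2' := hall yt⁻¹ (Mt.inv_mem (hHtMt hytH))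
      have htc := trace_comm_two h2 u hu1 htr xt yt c1 c2 c1' c2'
      have hcH : xt * yt * xt⁻¹ * yt⁻¹ ∈ Ht :=
        Ht.mul_mem (Ht.mul_mem (Ht.mul_mem hxtH hytH) (Ht.inv_mem hxtH)) (Ht.inv_mem hytH)
      have h4 : ((xt * yt * xt⁻¹ * yt⁻¹ : SL2) : M2).trace ^ 2 = 4 := by
        rw [htc]
        norm_num
      rcases h1_of_coprime hodd p Ht hcopH _ hcH h4 with h | h
      · apply hxy
        have hcomm : xt * yt = yt * xt := by
          have : xt * yt = (xt * yt * xt⁻¹ * yt⁻¹) * (yt * xt) := by group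
          rw [this, h, one_mul]
        have hcomm' : x * y = y * x := by
          rw [← hxt, ← hyt, ← QuotientGroup.mk_mul, ← QuotientGroup.mk_mul, hcomm]
        calc x * x * (y * y) = x * (x * y) * y := by group
          _ = x * (y * x) * y := by rw [hcomm']
          _ = (x * y) * (x * y) := by group
          _ = (y * x) * (y * x) := by rw [hcomm']
          _ = y * (x * y) * x := by group
          _ = y * (y * x) * x := by rw [hcomm']
          _ = y * y * (x * x) := by group
      · rw [h, coe_negOne, Matrix.trace_fin_two_of] at htc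
        apply h2
        have e : (2 : F) * 2 = 0 := by linear_combination -htc
        exact mul_self_eq_zero.mp e
    · push Not at hall
      obtain ⟨h, hh, hnc⟩ := hall
      have htop := gen_top p hF h2 Mt u huM hu1 htr h hh hnc
      rw [eq_top_iff]
      intro g _
      obtain ⟨gt, hgt⟩ := QuotientGroup.mk_surjective g
      rw [← hgt, ← hmemM, htop]
      exact Subgroup.mem_top _
  · rcases main_sl2 hodd p Mt hnegM hpM with hsq | h | h | h
    · exfalso
      apply hxy
      have := hsq xt (hHtMt hxtH) yt (hHtMt hytH)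
      have e := congrArg (fun g : SL2 => (QuotientGroup.mk g : PSL2)) this
      simp only [QuotientGroup.mk_mul, hxt, hyt] at e
      exact e
    · right; left
      omega
    · right; right; left
      omega
    · right; right; right
      omega

end Cfsg.Agent.Helper14.PSLMax
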