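import Mathlib
import Cfsg.Agent.Helper14.DL
import Cfsg.Agent.Helper14.PSLMax

set_option autoImplicit false

namespace Cfsg.Agent.Helper14.DM

open Cfsg.Agent.Helper14.Mat2 Cfsg.Agent.Helper14.SL2Odd Cfsg.Agent.Helper14.PSL2
  Cfsg.Agent.Helper14.SL2Conj Cfsg.Agent.Helper14.Torus Cfsg.Agent.Helper14.TorusB
  Cfsg.Agent.Helper14.TorusC Cfsg.Agent.Helper14.TorusD Cfsg.Agent.Helper14.TorusE
  Cfsg.Agent.Helper14.SL2T Cfsg.Agent.Helper14.SubA Cfsg.Agent.Helper14.SubD
  Cfsg.Agent.Helper14.A4Sub Cfsg.Agent.Helper14.EvA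
  Cfsg.Agent.Helper14.DA Cfsg.Agent.Helper14.DB Cfsg.Agent.Helper14.DC Cfsg.Agent.Helper14.DD
  Cfsg.Agent.Helper14.DE Cfsg.Agent.Helper14.DF Cfsg.Agent.Helper14.DG Cfsg.Agent.Helper14.DH
  Cfsg.Agent.Helper14.DI Cfsg.Agent.Helper14.DJ Cfsg.Agent.Helper14.DK Cfsg.Agent.Helper14.DL

variable {F : Type*} [Field F]

local notation "SL2" => Matrix.SpecialLinearGroup (Fin 2) F
local notation "M2" => Matrix (Fin 2) (Fin 2) F
local notation "PSL2" => Matrix.ProjectiveSpecialLinearGroup (Fin 2) F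

theorem core_odd_s [Fintype F] (hodd : Odd (Fintype.card F)) (p : ℕ) [Fact p.Prime] [CharP F p]
    (s : ℕ) (hq : Fintype.card F = s + 2) (hpq : p ∣ s + 2) (hs : 11 ≤ s)
    (A n0 : SL2) (hA : orderOf A = s + 1) (hn0A : n0 * A * n0⁻¹ = A⁻¹)
    (hcentA : ∀ c : SL2, c * A = A * c → c ∈ Subgroup.zpowers A)
    (hself : ∀ x ∈ Subgroup.zpowers A, NS (x : M2) →
      Subgroup.centralizer ({x} : Set SL2) = Subgroup.zpowers A)
    (hNcard : Nat.card (Subgroup.normalizer ((Subgroup.zpowers A : Subgroup SL2) : Set SL2)) =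
      2 * (s + 1))
    (M : Subgroup SL2) (hAM : A ∈ M) (hn0M : n0 ∈ M)
    (hNM : Subgroup.normalizer ((Subgroup.zpowers A : Subgroup SL2) : Set SL2) ≤ M)
    (hM : Nat.card M ≠ 2 * (s + 1)) : M = ⊤ := by
  have hpp : p.Prime := Fact.out
  have hneg : negOne ∈ M := hNM (negOne_mem_normalizer _)
  have hnc := nc_of_inv s (by omega) A n0 hA hn0A
  have hKdvd1 : 2 * (s + 1) ∣ Nat.card M := by
    rw [← hNcard]
    exact Subgroup.card_dvd_of_le hNM
  have hKdvd2 : Nat.card M ∣ (s + 2) * ((s + 2) ^ 2 - 1) := by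
    rw [← hq, ← card_SL2]
    exact Subgroup.card_subgroup_dvd_card M
  by_cases hp : p ∣ Nat.card M
  · rcases core_ps (Or.inr hodd) p s hq hpq (by omega) (by omega) M hneg A n0 hAM hn0M hA
      hn0A hcentA hp with h | ⟨h, -⟩
    · exact h
    · exact absurd h (two_ne_zero_of_odd hodd)
  exfalso
  have hcases : Nat.card M = 24 ∨ Nat.card M = 48 ∨ Nat.card M = 120 := by
    rcases main_sl2 hodd p M hneg hp with hsq | h | h | h
    · exfalso
      apply hM
      have hAA : A * A ∈ Subgroup.zpowers A :=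
        mul_mem (Subgroup.mem_zpowers A) (Subgroup.mem_zpowers A)
      have hnsAA : NS ((A * A : SL2) : M2) := by
        by_contra hcon
        have h4 : A ^ 4 = 1 := by
          rcases scalar_of_not_NS _ hcon with h | h
          · calc A ^ 4 = (A * A) * (A * A) := by
                  simp only [pow_succ, pow_zero, one_mul, mul_assoc]
              _ = 1 := by rw [h, one_mul]
          · calc A ^ 4 = (A * A) * (A * A) := by
                  simp only [pow_succ, pow_zero, one_mul, mul_assoc]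
              _ = 1 := by rw [h, negOne_mul_self]
        have h3 : orderOf A ∣ 4 := orderOf_dvd_of_pow_eq_one h4
        rw [hA] at h3
        have := Nat.le_of_dvd (by norm_num) h3
        omega
      have hMN : M ≤ Subgroup.normalizer ((Subgroup.zpowers A : Subgroup SL2) : Set SL2) := by
        intro g hg
        apply norm_of_conj_mem A hself (A * A) g hAA hnsAA
        have h1 := hsq (g * A * g⁻¹) (mul_mem (mul_mem hg hAM) (inv_mem hg)) A hAM
        have e : g * A * g⁻¹ * (g * A * g⁻¹) = g * (A * A) * g⁻¹ := by group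
        rw [e] at h1
        rw [← hself (A * A) hAA hnsAA, Subgroup.mem_centralizer_singleton_iff]
        exact h1
      have hMeq : M = Subgroup.normalizer ((Subgroup.zpowers A : Subgroup SL2) : Set SL2) :=
        le_antisymm hMN hNM
      rw [hMeq]
      exact hNcard
    · exact Or.inl h
    · exact Or.inr (Or.inl h)
    · exact Or.inr (Or.inr h)
  have hs59 : s ≤ 59 := by
    have := Nat.le_of_dvd Nat.card_pos hKdvd1
    rcases hcases with h | h | h <;> omega
  have hqodd : (s + 2) % 2 = 1 := by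
    rw [← hq]
    exact Nat.odd_iff.mp hodd
  have hK : Nat.card M ∈ ({24, 48, 120} : Finset ℕ) := by
    simp only [Finset.mem_insert, Finset.mem_singleton]
    exact hcases
  have hsc := small_cases_s s (Finset.mem_Icc.mpr ⟨hs, hs59⟩) (Nat.card M) hK
    ⟨hqodd, hKdvd1, hM, hKdvd2⟩
  rcases hsc with ⟨h19, hK⟩ | ⟨h29, hK⟩
  · subst h19
    have : Fact (Nat.Prime 5) := ⟨by norm_num⟩
    have hj : orderOf (A ^ 4) = 5 := by
      rw [orderOf_pow' A (by norm_num), hA]
      decide
    obtain ⟨i, hi, hmod⟩ := syl_app 19 A n0 hA hself hn0A hnc hNcard M hAM hn0M 5 (by norm_num)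
      4 hj (by rw [hK]; norm_num)
    rw [hK] at hi
    have hi2 : i = 3 := by omega
    subst hi2
    exact absurd hmod (by decide)
  · subst h29
    have : Fact (Nat.Prime 5) := ⟨by norm_num⟩
    have hj : orderOf (A ^ 6) = 5 := by
      rw [orderOf_pow' A (by norm_num), hA]
      decide
    obtain ⟨i, hi, hmod⟩ := syl_app 29 A n0 hA hself hn0A hnc hNcard M hAM hn0M 5 (by norm_num)
      6 hj (by rw [hK]; norm_num)
    rw [hK] at hi
    have hi2 : i = 2 := by omega
    subst hi2
    exact absurd hmod (by decide)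

theorem core_even_s [Fintype F] [CharP F 2] (s : ℕ) (hq : Fintype.card F = s + 2) (hs2 : 2 ≤ s)
    (A n0 : SL2) (hA : orderOf A = s + 1) (hn0A : n0 * A * n0⁻¹ = A⁻¹)
    (hcentA : ∀ c : SL2, c * A = A * c → c ∈ Subgroup.zpowers A) (hn02 : n0 * n0 = 1)
    (M : Subgroup SL2) (hAM : A ∈ M) (hn0M : n0 ∈ M) (hM : Nat.card M ≠ 2 * (s + 1)) :
    M = ⊤ := by
  have : Fact (Nat.Prime 2) := ⟨Nat.prime_two⟩
  have h2 : (2 : F) = 0 := CharTwo.two_eq_zero
  have hneg : negOne ∈ M := by
    rw [negOne_eq_one h2]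
    exact M.one_mem
  have hnc := nc_of_inv s hs2 A n0 hA hn0A
  obtain ⟨n, -, hn⟩ := FiniteField.card F 2
  have hpq : 2 ∣ s + 2 := by
    rw [← hq, hn]
    exact dvd_pow_self 2 n.pos.ne'
  have hs7 : s ≠ 7 := by omega
  have h2M : 2 ∣ Nat.card M := by
    have ho : orderOf n0 = 2 := by
      apply orderOf_eq_prime
      · rw [pow_two]
        exact hn02
      · intro h1
        apply hnc
        rw [h1, one_mul, mul_one]
    have h3 : orderOf (⟨n0, hn0M⟩ : M) = 2 := by rw [Subgroup.orderOf_mk, ho]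
    have h4 := orderOf_dvd_natCard (⟨n0, hn0M⟩ : M)
    rw [h3] at h4
    exact h4
  rcases core_ps (Or.inl h2) 2 s hq hpq hs2 hs7 M hneg A n0 hAM hn0M hA hn0A hcentA h2M
    with h | ⟨-, h⟩
  · exact h
  · exact absurd h hM

theorem pkg_coatom_g [Fintype F] (c : ℕ) (hc : c < Nat.card SL2) (A n0 : SL2)
    (hn02 : n0 * n0 = negOne)
    (hcen : ∀ z ∈ Subgroup.center SL2, z = 1 ∨ z = negOne)
    (hHt : Nat.card (Subgroup.closure ({n0, n0 * A} : Set SL2)) = c)
    (hcore : ∀ M : Subgroup SL2, A ∈ M → n0 ∈ M → Nat.card M ≠ c → M = ⊤) :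
    IsCoatom ((Subgroup.closure ({n0, n0 * A} : Set SL2)).map
      (QuotientGroup.mk' (Subgroup.center SL2)) : Subgroup PSL2) := by
  obtain ⟨Ht, hHtdef⟩ : ∃ Ht : Subgroup SL2, Ht = Subgroup.closure ({n0, n0 * A} : Set SL2) :=
    ⟨_, rfl⟩
  rw [← hHtdef] at hHt ⊢
  have hn0 : n0 ∈ Ht := by
    rw [hHtdef]
    exact Subgroup.subset_closure (by simp)
  have hn0A' : n0 * A ∈ Ht := by
    rw [hHtdef]
    exact Subgroup.subset_closure (by simp)
  have hAHt : A ∈ Ht := by
    have h := mul_mem (inv_mem hn0) hn0A'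
    rwa [inv_mul_cancel_left] at h
  have hcenle : Subgroup.center SL2 ≤ Ht := by
    intro z hz
    rcases hcen z hz with h | h
    · rw [h]
      exact Ht.one_mem
    · rw [h, ← hn02]
      exact mul_mem hn0 hn0
  have hcomap : (Ht.map (QuotientGroup.mk' (Subgroup.center SL2))).comap
      (QuotientGroup.mk' (Subgroup.center SL2)) = Ht := by
    rw [Subgroup.comap_map_eq, QuotientGroup.ker_mk', sup_eq_left.mpr hcenle]
  refine ⟨?_, ?_⟩
  · intro htop
    have hHtop : Ht = ⊤ := by
      rw [← hcomap, htop, Subgroup.comap_top]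
    have hc' : Nat.card Ht = Nat.card SL2 := by
      rw [hHtop]
      exact Subgroup.card_top
    omega
  · intro Mb hMb
    obtain ⟨Mt, hMt⟩ : ∃ Mt : Subgroup SL2,
        Mt = Mb.comap (QuotientGroup.mk' (Subgroup.center SL2)) := ⟨_, rfl⟩
    have hle : Ht ≤ Mt := by
      rw [hMt, ← hcomap]
      exact Subgroup.comap_mono hMb.le
    by_cases hcard : Nat.card Mt = c
    · exfalso
      have hEq : Ht = Mt := Subgroup.eq_of_le_of_card_ge hle (by rw [hcard, hHt])
      have hMb2 : Mb = Ht.map (QuotientGroup.mk' (Subgroup.center SL2)) := by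
        rw [hEq, hMt, Subgroup.map_comap_eq_self_of_surjective (QuotientGroup.mk'_surjective _)]
      exact hMb.ne hMb2.symm
    · have htop := hcore Mt (hle hAHt) (hle hn0) hcard
      rw [hMt] at htop
      apply top_unique
      intro x _
      obtain ⟨y, rfl⟩ := QuotientGroup.mk'_surjective _ x
      have hy : y ∈ Mb.comap (QuotientGroup.mk' (Subgroup.center SL2)) := by
        rw [htop]
        trivial
      exact hy

theorem card_lt [Fintype F] (s : ℕ) (hq : Fintype.card F = s + 2) (hs2 : 2 ≤ s) :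
    2 * (s + 1) < Nat.card SL2 := by
  rw [card_SL2, hq]
  have e : (s + 2) ^ 2 - 1 = (s + 1) * (s + 3) := by
    have e' : (s + 2) ^ 2 = (s + 1) * (s + 3) + 1 := by ring
    rw [e', Nat.add_sub_cancel]
  rw [e]
  nlinarith [Nat.mul_le_mul hs2 hs2]

end Cfsg.Agent.Helper14.DM
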