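import Mathlib
import Cfsg.Agent.Helper14.DM

set_option autoImplicit false

namespace Cfsg.Agent.Helper14.GA

open Classical

open Cfsg.Agent.Helper14.Mat2 Cfsg.Agent.Helper14.SL2Odd Cfsg.Agent.Helper14.PSL2
  Cfsg.Agent.Helper14.SL2Conj Cfsg.Agent.Helper14.Torus Cfsg.Agent.Helper14.TorusB
  Cfsg.Agent.Helper14.TorusC Cfsg.Agent.Helper14.TorusD Cfsg.Agent.Helper14.TorusE
  Cfsg.Agent.Helper14.SL2T Cfsg.Agent.Helper14.SubA Cfsg.Agent.Helper14.SubD
  Cfsg.Agent.Helper14.CE3 Cfsg.Agent.Helper14.A4Sub Cfsg.Agent.Helper14.EvA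
  Cfsg.Agent.Helper14.DA Cfsg.Agent.Helper14.DB Cfsg.Agent.Helper14.DC
  Cfsg.Agent.Helper14.DI

section abs

theorem pgroup_zpowers {G : Type*} [Group G] (p : ℕ) (x : G) (hx : x ^ p = 1) :
    IsPGroup p (Subgroup.zpowers x) := by
  rintro ⟨y, hy⟩
  refine ⟨1, ?_⟩
  obtain ⟨j, rfl⟩ := Subgroup.mem_zpowers_iff.mp hy
  apply Subtype.ext
  rw [pow_one]
  show (x ^ j) ^ p = 1
  rw [← zpow_natCast, ← zpow_mul, mul_comm, zpow_mul, zpow_natCast, hx, one_zpow]

open scoped Pointwise in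
theorem sylow_conj_mem {G : Type*} [Group G] [Finite G] (p : ℕ) [Fact p.Prime] (S S' : Sylow p G)
    (u : G) (hu : u ∈ (S' : Subgroup G)) : ∃ m : G, m * u * m⁻¹ ∈ (S : Subgroup G) := by
  obtain ⟨m, hm⟩ := MulAction.exists_smul_eq G S' S
  refine ⟨m, ?_⟩
  rw [← hm, Sylow.smul_def, Sylow.pointwise_smul_def]
  have := (Subgroup.smul_mem_pointwise_smul_iff (a := MulAut.conj m)
      (S := (S' : Subgroup G)) (x := u)).mpr hu
  rwa [MulAut.smul_def, MulAut.conj_apply] at this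

end abs

variable {F : Type*} [Field F]

local notation "SL2" => Matrix.SpecialLinearGroup (Fin 2) F
local notation "M2" => Matrix (Fin 2) (Fin 2) F

theorem xe_pow_char (p : ℕ) [CharP F p] (v : F) : (xe v : SL2) ^ p = 1 := by
  apply SLc.pow_char_of_trace_two p
  rw [xe_coe, Matrix.trace_fin_two_of]
  norm_num

theorem comm_of_upper_eq (s : SL2) (h10 : (s : M2) 1 0 = 0) (hd : (s : M2) 0 0 = (s : M2) 1 1)
    (v : F) : s * xe v = xe v * s := by
  rcases SubJ.upper_form s h10 hd with h | h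
  · rw [h, xe_add, xe_add, add_comm]
  · rw [h, mul_assoc, xe_add, ← mul_assoc, ← negOne_comm, mul_assoc, xe_add, add_comm]

theorem negOne_pow_odd (h2 : (2 : F) ≠ 0) (n : ℕ) (hn : Odd n) : (negOne : SL2) ^ n ≠ 1 := by
  obtain ⟨j, rfl⟩ := hn
  rw [pow_succ, pow_mul, pow_two, negOne_mul_self, one_pow, one_mul]
  exact negOne_ne_one h2

theorem sylow_upper [Fintype F] (p : ℕ) [Fact p.Prime] [CharP F p] (M : Subgroup SL2)
    (v0 : F) (hv0 : v0 ≠ 0) (h1 : xe v0 ∈ M) (u : SL2) (hu : u ∈ M) (hup : u ^ p = 1) :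
    ∃ m ∈ M, ((m * u * m⁻¹ : SL2) : M2) 1 0 = 0 ∧
      ((m * u * m⁻¹ : SL2) : M2) 0 0 = ((m * u * m⁻¹ : SL2) : M2) 1 1 := by
  have hpp : p.Prime := Fact.out
  obtain ⟨x1, hx1⟩ : ∃ x1 : M, (x1 : SL2) = xe v0 := ⟨⟨xe v0, h1⟩, rfl⟩
  obtain ⟨u', hu'⟩ : ∃ u' : M, (u' : SL2) = u := ⟨⟨u, hu⟩, rfl⟩
  have hx1p : x1 ^ p = 1 := by
    apply Subtype.ext
    rw [Subgroup.coe_pow, hx1]
    exact xe_pow_char p v0
  have hu'p : u' ^ p = 1 := by
    apply Subtype.ext
    rw [Subgroup.coe_pow, hu']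
    exact hup
  obtain ⟨S0, hS0⟩ := IsPGroup.exists_le_sylow (pgroup_zpowers p x1 hx1p)
  obtain ⟨S', hS'⟩ := IsPGroup.exists_le_sylow (pgroup_zpowers p u' hu'p)
  have hx1S : x1 ∈ (S0 : Subgroup M) := hS0 (Subgroup.mem_zpowers x1)
  have huS : u' ∈ (S' : Subgroup M) := hS' (Subgroup.mem_zpowers u')
  obtain ⟨m, hmu⟩ := sylow_conj_mem p S0 S' u' huS
  -- structure of S0
  have hx1ne : x1 ≠ 1 := by
    intro h
    have h' := congrArg (fun y : M => ((y : SL2) : M2) 0 1) h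
    simp only [hx1, xe_01] at h'
    apply hv0
    rw [h']
    simp
  haveI : Nontrivial (S0 : Subgroup M) := ⟨⟨⟨x1, hx1S⟩, 1, fun h => hx1ne (congrArg Subtype.val h)⟩⟩
  have hcen := IsPGroup.center_nontrivial (S0.isPGroup')
  obtain ⟨c, hc1⟩ := exists_ne (1 : Subgroup.center (S0 : Subgroup M))
  have hcc : ∀ s : (S0 : Subgroup M), s * (c : (S0 : Subgroup M)) = (c : (S0 : Subgroup M)) * s :=
    fun s => Subgroup.mem_center_iff.mp c.2 s
  obtain ⟨cs, hcs⟩ : ∃ cs : SL2, cs = (((c : (S0 : Subgroup M)) : M) : SL2) := ⟨_, rfl⟩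
  have hcs1 : cs ≠ 1 := by
    intro h
    apply hc1
    apply Subtype.ext
    apply Subtype.ext
    apply Subtype.ext
    rw [← hcs, h]
    rfl
  have hccs : ∀ s : SL2, s ∈ M → (∀ hs : s ∈ M, (⟨s, hs⟩ : M) ∈ (S0 : Subgroup M)) →
      s * cs = cs * s := by
    intro s hs hsS
    have := hcc ⟨⟨s, hs⟩, hsS hs⟩
    have h' := congrArg (fun y : (S0 : Subgroup M) => ((y : M) : SL2)) this
    rw [hcs]
    exact h'
  have hc_x1 : cs * xe v0 = xe v0 * cs := by
    have := hccs (xe v0) h1 (fun hs => by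
      have e : (⟨xe v0, hs⟩ : M) = x1 := Subtype.ext hx1.symm
      rw [e]
      exact hx1S)
    exact this.symm
  obtain ⟨hc10, hcd⟩ := comm_xe v0 hv0 cs hc_x1
  -- cs = ± xe v1 with v1 ≠ 0
  have hcsp : ∃ j : ℕ, cs ^ (p ^ j) = 1 := by
    obtain ⟨j, hj⟩ := S0.isPGroup' (c : (S0 : Subgroup M))
    refine ⟨j, ?_⟩
    have h' := congrArg (fun y : (S0 : Subgroup M) => ((y : M) : SL2)) hj
    rw [hcs]
    simpa using h'
  obtain ⟨w, hw⟩ : ∃ w : F, w = (cs : M2) 0 1 := ⟨_, rfl⟩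
  have hform := SubJ.upper_form cs hc10 hcd
  rw [← hw] at hform
  have hv1 : w ≠ 0 := by
    intro h01
    rcases hform with h | h
    · rw [h01, xe_zero] at h
      exact hcs1 h
    · rw [h01, neg_zero, xe_zero, mul_one] at h
      by_cases h2 : (2 : F) = 0
      · exact hcs1 (by rw [h, negOne_eq_one h2])
      · obtain ⟨j, hj⟩ := hcsp
        rw [h] at hj
        have hp2 : p ≠ 2 := by
          rintro rfl
          exact h2 (CharTwo.two_eq_zero)
        have hodd : Odd (p ^ j) := (hpp.odd_of_ne_two hp2).pow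
        exact negOne_pow_odd h2 _ hodd hj
  have hkey : ∀ s : SL2, s * cs = cs * s →
      (s : M2) 1 0 = 0 ∧ (s : M2) 0 0 = (s : M2) 1 1 := by
    intro s hs
    rcases hform with h | h
    · apply comm_xe w hv1 s
      rw [← h]
      exact hs
    · apply comm_xe (-w) (neg_ne_zero.mpr hv1) s
      have h3 : negOne * (s * xe (-w)) = negOne * (xe (-w) * s) := by
        calc negOne * (s * xe (-w)) = s * (negOne * xe (-w)) := by
              rw [← mul_assoc, negOne_comm, mul_assoc]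
          _ = s * cs := by rw [← h]
          _ = cs * s := hs
          _ = negOne * (xe (-w) * s) := by rw [h, mul_assoc]
      exact mul_left_cancel h3
  refine ⟨m, m.2, ?_⟩
  have hcomm := hccs ((m * u' * m⁻¹ : M) : SL2) (m * u' * m⁻¹ : M).2 (fun hs => hmu)
  have e : ((m * u' * m⁻¹ : M) : SL2) = (m : SL2) * u * (m : SL2)⁻¹ := by
    rw [← hu']
    rfl
  rw [e] at hcomm
  exact hkey _ hcomm

end Cfsg.Agent.Helper14.GA
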