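import Mathlib
import Cfsg.Agent.Helper14.GA

set_option autoImplicit false

namespace Cfsg.Agent.Helper14.GB

open Classical

open Cfsg.Agent.Helper14.Mat2 Cfsg.Agent.Helper14.SL2Odd Cfsg.Agent.Helper14.PSL2
  Cfsg.Agent.Helper14.SL2Conj Cfsg.Agent.Helper14.Torus Cfsg.Agent.Helper14.TorusB
  Cfsg.Agent.Helper14.TorusC Cfsg.Agent.Helper14.TorusD Cfsg.Agent.Helper14.TorusE
  Cfsg.Agent.Helper14.SL2T Cfsg.Agent.Helper14.SubA Cfsg.Agent.Helper14.SubD
  Cfsg.Agent.Helper14.CE3 Cfsg.Agent.Helper14.A4Sub Cfsg.Agent.Helper14.EvA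
  Cfsg.Agent.Helper14.DA Cfsg.Agent.Helper14.DB Cfsg.Agent.Helper14.DC
  Cfsg.Agent.Helper14.DI Cfsg.Agent.Helper14.GA

variable {F : Type*} [Field F]

local notation "SL2" => Matrix.SpecialLinearGroup (Fin 2) F
local notation "M2" => Matrix (Fin 2) (Fin 2) F

/-- the point of the projective line attached to the first column -/
noncomputable def pt (g : SL2) : Option F :=
  if (g : M2) 1 0 = 0 then none else some ((g : M2) 0 0 / (g : M2) 1 0)

theorem inv_mul_10 (a b : SL2) : ((a⁻¹ * b : SL2) : M2) 1 0 =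
    (a : M2) 0 0 * (b : M2) 1 0 - (a : M2) 1 0 * (b : M2) 0 0 := by
  rw [Matrix.SpecialLinearGroup.coe_mul, Matrix.SpecialLinearGroup.coe_inv,
    Matrix.adjugate_fin_two, Matrix.mul_apply, Fin.sum_univ_two]
  simp
  ring

theorem pt_eq_upper (a b : SL2) (h : pt a = pt b) : ((a⁻¹ * b : SL2) : M2) 1 0 = 0 := by
  rw [inv_mul_10]
  unfold pt at h
  by_cases ha : (a : M2) 1 0 = 0
  · rw [if_pos ha] at h
    by_cases hb : (b : M2) 1 0 = 0
    · rw [ha, hb]
      ring
    · rw [if_neg hb] at h
      exact absurd h (by simp)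
  · rw [if_neg ha] at h
    by_cases hb : (b : M2) 1 0 = 0
    · rw [if_pos hb] at h
      exact absurd h (by simp)
    · rw [if_neg hb] at h
      have h' := Option.some.inj h
      rw [div_eq_div_iff ha hb] at h'
      linear_combination h'

theorem pt_bound [Fintype F] (M : Subgroup SL2) :
    Nat.card M ≤ (Fintype.card F + 1) * Nat.card (borM M) := by
  haveI : Fintype M := Fintype.ofFinite M
  haveI : Fintype (borM M) := Fintype.ofFinite _
  have hfib : ∀ a ∈ Finset.image (fun m : M => pt (m : SL2)) Finset.univ,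
      (Finset.univ.filter (fun m : M => pt (m : SL2) = a)).card ≤ Fintype.card (borM M) := by
    intro a ha
    obtain ⟨m0, -, hm0⟩ := Finset.mem_image.mp ha
    rw [← Fintype.card_subtype]
    apply Fintype.card_le_of_injective (fun x : {m : M // pt (m : SL2) = a} =>
      (⟨m0⁻¹ * (x : M), by
        rw [mem_borM]
        apply pt_eq_upper
        rw [hm0, x.2]⟩ : borM M))
    intro x y h
    have e : m0⁻¹ * (x : M) = m0⁻¹ * (y : M) := congrArg Subtype.val h
    exact Subtype.ext (mul_left_cancel e)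
  have h := Finset.card_le_mul_card_image (f := fun m : M => pt (m : SL2)) Finset.univ
    (Fintype.card (borM M)) hfib
  rw [Nat.card_eq_fintype_card, Nat.card_eq_fintype_card, ← Finset.card_univ (α := M)]
  calc Finset.univ.card ≤ Fintype.card (borM M) *
        (Finset.image (fun m : M => pt (m : SL2)) Finset.univ).card := h
    _ ≤ Fintype.card (borM M) * (Fintype.card F + 1) := by
        apply Nat.mul_le_mul_left
        have := Finset.card_le_univ (Finset.image (fun m : M => pt (m : SL2)) Finset.univ)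
        rw [Fintype.card_option] at this
        exact this
    _ = (Fintype.card F + 1) * Fintype.card (borM M) := mul_comm _ _

theorem upper_sub_card [Fintype F] :
    Nat.card {b : SL2 // (b : M2) 1 0 = 0} ≤ Fintype.card F * (Fintype.card F - 1) := by
  have h : Nat.card (F × Fˣ) = Fintype.card F * (Fintype.card F - 1) := by
    rw [Nat.card_prod, Nat.card_eq_fintype_card, Nat.card_units, Nat.card_eq_fintype_card]
  rw [← h]
  apply Nat.card_le_card_of_injective (fun b : {b : SL2 // (b : M2) 1 0 = 0} =>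
    (((b : SL2) : M2) 0 1, Units.mk0 (((b : SL2) : M2) 0 0)
      (left_ne_zero_of_mul_eq_one (upper_diag _ b.2))))
  intro b b' h
  have e1 : ((b : SL2) : M2) 0 1 = ((b' : SL2) : M2) 0 1 := congrArg Prod.fst h
  have e2 : ((b : SL2) : M2) 0 0 = ((b' : SL2) : M2) 0 0 :=
    congrArg (fun x : F × Fˣ => (x.2 : F)) h
  have d1 := upper_diag _ b.2
  have d2 := upper_diag _ b'.2
  have e3 : ((b : SL2) : M2) 1 1 = ((b' : SL2) : M2) 1 1 := by
    have hne := left_ne_zero_of_mul_eq_one d1
    apply mul_left_cancel₀ hne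
    rw [d1, e2, d2]
  apply Subtype.ext
  apply Subtype.ext
  ext i j
  fin_cases i <;> fin_cases j
  · exact e2
  · exact e1
  · show ((b : SL2) : M2) 1 0 = ((b' : SL2) : M2) 1 0
    rw [b.2, b'.2]
  · exact e3

theorem cover_bound [Fintype F] (M : Subgroup SL2)
    (hcov : ∀ g : SL2, ∃ m ∈ M, ((m * g : SL2) : M2) 1 0 = 0) :
    (Fintype.card F + 1) * Nat.card (borM M) ≤ Nat.card M := by
  haveI : Fintype M := Fintype.ofFinite M
  haveI : Fintype (borM M) := Fintype.ofFinite _
  haveI : Fintype {b : SL2 // (b : M2) 1 0 = 0} := Fintype.ofFinite _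
  have hfib : ∀ a ∈ Finset.image (fun x : M × {b : SL2 // (b : M2) 1 0 = 0} =>
        (x.1 : SL2) * (x.2 : SL2)) Finset.univ,
      Fintype.card (borM M) ≤ (Finset.univ.filter
        (fun x : M × {b : SL2 // (b : M2) 1 0 = 0} => (x.1 : SL2) * (x.2 : SL2) = a)).card := by
    intro a ha
    obtain ⟨⟨m0, b0⟩, -, hm0⟩ := Finset.mem_image.mp ha
    rw [← Finset.card_univ (α := borM M)]
    apply Finset.card_le_card_of_injOn (fun c : borM M =>
      ((m0 * (c : M) : M), (⟨((c : M) : SL2)⁻¹ * (b0 : SL2),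
        upper_mul_10 _ _ (upper_inv_10 _ ((mem_borM M c).mp c.2)) b0.2⟩ :
          {b : SL2 // (b : M2) 1 0 = 0})))
    · intro c _
      rw [Finset.mem_coe, Finset.mem_filter]
      refine ⟨Finset.mem_univ _, ?_⟩
      show (m0 : SL2) * ((c : M) : SL2) * (((c : M) : SL2)⁻¹ * (b0 : SL2)) = a
      rw [← hm0]
      group
    · intro c _ c' _ h
      have e : m0 * (c : M) = m0 * (c' : M) :=
        congrArg (fun x : M × {b : SL2 // (b : M2) 1 0 = 0} => x.1) h
      exact Subtype.ext (mul_left_cancel e)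
  have h := Finset.mul_card_image_le_card (f := fun x : M × {b : SL2 // (b : M2) 1 0 = 0} =>
    (x.1 : SL2) * (x.2 : SL2)) Finset.univ (Fintype.card (borM M)) hfib
  have himg : Finset.image (fun x : M × {b : SL2 // (b : M2) 1 0 = 0} =>
      (x.1 : SL2) * (x.2 : SL2)) Finset.univ = Finset.univ := by
    rw [Finset.eq_univ_iff_forall]
    intro g
    obtain ⟨m, hm, h10⟩ := hcov g
    rw [Finset.mem_image]
    refine ⟨(⟨m⁻¹, M.inv_mem hm⟩, ⟨m * g, h10⟩), Finset.mem_univ _, ?_⟩
    show m⁻¹ * (m * g) = g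
    group
  rw [himg, Finset.card_univ, Finset.card_univ, Fintype.card_prod] at h
  have hB := upper_sub_card (F := F)
  rw [Nat.card_eq_fintype_card] at hB
  have hS := card_SL2 (F := F)
  rw [Nat.card_eq_fintype_card] at hS
  rw [hS] at h
  rw [Nat.card_eq_fintype_card, Nat.card_eq_fintype_card]
  have hq1 : 1 < Fintype.card F := Fintype.one_lt_card
  obtain ⟨r, hr⟩ : ∃ r, Fintype.card F = r + 2 := ⟨Fintype.card F - 2, by omega⟩
  rw [hr] at h hB ⊢
  have e1 : (r + 2) ^ 2 - 1 = (r + 1) * (r + 3) := by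
    have e' : (r + 2) ^ 2 = (r + 1) * (r + 3) + 1 := by ring
    rw [e', Nat.add_sub_cancel]
  have e2 : r + 2 - 1 = r + 1 := by omega
  rw [e1] at h
  rw [e2] at hB
  have h2 := le_trans h (Nat.mul_le_mul_left _ hB)
  have h3 : ((r + 2 + 1) * Fintype.card (borM M)) * ((r + 2) * (r + 1)) ≤
      Fintype.card M * ((r + 2) * (r + 1)) := by
    calc ((r + 2 + 1) * Fintype.card (borM M)) * ((r + 2) * (r + 1))
        = Fintype.card (borM M) * ((r + 2) * ((r + 1) * (r + 3))) := by ring
      _ ≤ Fintype.card M * ((r + 2) * (r + 1)) := h2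
  exact Nat.le_of_mul_le_mul_right h3 (by positivity)

theorem beta_ge_cent [Fintype F] (M : Subgroup SL2) (b : M) (hb10 : ((b : SL2) : M2) 1 0 = 0)
    (hne : ((b : SL2) : M2) 0 0 ≠ ((b : SL2) : M2) 1 1) :
    Nat.card {v : F // xe v ∈ M} * Nat.card (Subgroup.centralizer {b}) ≤ Nat.card (borM M) := by
  rw [card_borM]
  apply Nat.mul_le_mul (ker_ge M)
  have hcomm : ∀ c : Subgroup.centralizer {b},
      ((c : M) : SL2) * (b : SL2) = (b : SL2) * ((c : M) : SL2) := by
    intro c
    have h := c.2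
    rw [Subgroup.mem_centralizer_singleton_iff] at h
    exact congrArg Subtype.val h
  have hup : ∀ c : Subgroup.centralizer {b}, (((c : M) : SL2) : M2) 1 0 = 0 :=
    fun c => comm_upper (b : SL2) _ hb10 hne (hcomm c)
  have key : ∀ x : SL2, x * (b : SL2) = (b : SL2) * x →
      (x : M2) 0 1 * (((b : SL2) : M2) 1 1 - ((b : SL2) : M2) 0 0) =
        ((b : SL2) : M2) 0 1 * ((x : M2) 1 1 - (x : M2) 0 0) := by
    intro x hx
    have e := congrArg Subtype.val hx
    rw [Matrix.SpecialLinearGroup.coe_mul, Matrix.SpecialLinearGroup.coe_mul] at e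
    have e01 := congrFun (congrFun e 0) 1
    simp only [Matrix.mul_apply, Fin.sum_univ_two] at e01
    linear_combination e01
  apply Nat.card_le_card_of_injective (fun c : Subgroup.centralizer {b} =>
    (⟨d00 M ⟨(c : M), hup c⟩, ⟨_, rfl⟩⟩ : (d00 M).range))
  intro c c' h
  have e0 : d00 M ⟨(c : M), hup c⟩ = d00 M ⟨(c' : M), hup c'⟩ := congrArg Subtype.val h
  have e00 : (((c : M) : SL2) : M2) 0 0 = (((c' : M) : SL2) : M2) 0 0 := by
    have := congrArg (fun u : Fˣ => (u : F)) e0
    simpa only [d00_val] using this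
  have d1 := upper_diag _ (hup c)
  have d2 := upper_diag _ (hup c')
  have e11 : (((c : M) : SL2) : M2) 1 1 = (((c' : M) : SL2) : M2) 1 1 := by
    have hne' := left_ne_zero_of_mul_eq_one d1
    apply mul_left_cancel₀ hne'
    rw [d1, e00, d2]
  have k1 := key _ (hcomm c)
  have k2 := key _ (hcomm c')
  have e01 : (((c : M) : SL2) : M2) 0 1 = (((c' : M) : SL2) : M2) 0 1 := by
    have hne2 : ((b : SL2) : M2) 1 1 - ((b : SL2) : M2) 0 0 ≠ 0 := sub_ne_zero.mpr (Ne.symm hne)
    apply mul_right_cancel₀ hne2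
    rw [k1, k2, e00, e11]
  apply Subtype.ext
  apply Subtype.ext
  apply Subtype.ext
  ext i j
  fin_cases i <;> fin_cases j
  · exact e00
  · exact e01
  · show (((c : M) : SL2) : M2) 1 0 = (((c' : M) : SL2) : M2) 1 0
    rw [hup c, hup c']
  · exact e11

theorem cent_ge (M : Subgroup SL2) [Finite M] (hneg : negOne ∈ M) (x : M)
    (hx : Good (⟨negOne, hneg⟩ : M) x) :
    2 * (zfin (⟨negOne, hneg⟩ : M)).card ≤ Nat.card (Subgroup.centralizer {x}) := by
  haveI : Fintype (Subgroup.centralizer {x}) := Fintype.ofFinite _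
  have hxC : x ∈ Subgroup.centralizer {x} := by
    rw [Subgroup.mem_centralizer_singleton_iff]
  have hzC : (⟨negOne, hneg⟩ : M) ∈ Subgroup.centralizer {x} := by
    rw [Subgroup.mem_centralizer_singleton_iff]
    apply Subtype.ext
    exact negOne_comm (x : SL2)
  by_cases h2 : (2 : F) = 0
  · rw [zcard_one h2 M hneg]
    haveI : Nontrivial (Subgroup.centralizer {x}) :=
      ⟨⟨⟨x, hxC⟩, 1, fun h => hx.1 (congrArg Subtype.val h)⟩⟩
    have := Finite.one_lt_card (α := Subgroup.centralizer {x})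
    omega
  · rw [zcard_two h2 M hneg]
    have h3 : 3 ≤ Nat.card (Subgroup.centralizer {x}) := by
      rw [Nat.card_eq_fintype_card]
      have hc : ({(1 : Subgroup.centralizer {x}), ⟨⟨negOne, hneg⟩, hzC⟩, ⟨x, hxC⟩} :
          Finset (Subgroup.centralizer {x})).card = 3 := by
        rw [Finset.card_eq_three]
        refine ⟨1, ⟨⟨negOne, hneg⟩, hzC⟩, ⟨x, hxC⟩, ?_, ?_, ?_, rfl⟩
        · intro h
          exact negOne_ne_one h2 (congrArg (fun c : Subgroup.centralizer {x} => ((c : M) : SL2)) h).symm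
        · intro h
          exact hx.1 (congrArg Subtype.val h).symm
        · intro h
          exact hx.2 (congrArg Subtype.val h).symm
      rw [← hc]
      exact Finset.card_le_univ _
    have h2d : 2 ∣ Nat.card (Subgroup.centralizer {x}) := by
      have ho : orderOf (⟨⟨negOne, hneg⟩, hzC⟩ : Subgroup.centralizer {x}) = 2 := by
        apply orderOf_eq_prime
        · apply Subtype.ext
          apply Subtype.ext
          show (negOne : SL2) ^ 2 = 1
          rw [pow_two, negOne_mul_self]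
        · intro h
          exact negOne_ne_one h2 (congrArg (fun c : Subgroup.centralizer {x} => ((c : M) : SL2)) h)
      have := orderOf_dvd_natCard (⟨⟨negOne, hneg⟩, hzC⟩ : Subgroup.centralizer {x})
      rwa [ho] at this
    omega

end Cfsg.Agent.Helper14.GB
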