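import Mathlib
import Cfsg.Agent.Helper14.GB

set_option autoImplicit false

namespace Cfsg.Agent.Helper14.GC

open Classical

open Cfsg.Agent.Helper14.Mat2 Cfsg.Agent.Helper14.SL2Odd Cfsg.Agent.Helper14.PSL2
  Cfsg.Agent.Helper14.SL2Conj Cfsg.Agent.Helper14.Torus Cfsg.Agent.Helper14.TorusB
  Cfsg.Agent.Helper14.TorusC Cfsg.Agent.Helper14.TorusD Cfsg.Agent.Helper14.TorusE
  Cfsg.Agent.Helper14.SL2T Cfsg.Agent.Helper14.SubA Cfsg.Agent.Helper14.SubD
  Cfsg.Agent.Helper14.CE3 Cfsg.Agent.Helper14.A4Sub Cfsg.Agent.Helper14.EvA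
  Cfsg.Agent.Helper14.DA Cfsg.Agent.Helper14.DB Cfsg.Agent.Helper14.DC
  Cfsg.Agent.Helper14.DI Cfsg.Agent.Helper14.GA Cfsg.Agent.Helper14.GB

section ar

theorem cls_quarter (k c z C n : ℕ) (hc : 2 * z ≤ c) (hc0 : 0 < c) (h : k * (c - z) = C * n)
    (hn : n ≤ 2 * c) : k ≤ 4 * C := by
  obtain ⟨e, rfl⟩ : ∃ e, c = e + z := ⟨c - z, by omega⟩
  rw [Nat.add_sub_cancel] at h
  have h1 : k * (e + z) ≤ 4 * C * (e + z) := by
    calc k * (e + z) ≤ k * (2 * e) := Nat.mul_le_mul_left k (by omega)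
      _ = 2 * (k * e) := by ring
      _ = 2 * (C * n) := by rw [h]
      _ ≤ 2 * (C * (2 * (e + z))) := Nat.mul_le_mul_left 2 (Nat.mul_le_mul_left C hn)
      _ = 4 * C * (e + z) := by ring
  exact Nat.le_of_mul_le_mul_right h1 hc0

theorem cls_half (k c z C : ℕ) (hc : 2 * z ≤ c) (hc0 : 0 < c) (h : k * (c - z) = C * c) :
    k ≤ 2 * C := by
  obtain ⟨e, rfl⟩ : ∃ e, c = e + z := ⟨c - z, by omega⟩
  rw [Nat.add_sub_cancel] at h
  have h1 : k * (e + z) ≤ 2 * C * (e + z) := by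
    calc k * (e + z) ≤ k * (2 * e) := Nat.mul_le_mul_left k (by omega)
      _ = 2 * (k * e) := by ring
      _ = 2 * (C * (e + z)) := by rw [h]
      _ = 2 * C * (e + z) := by ring
  exact Nat.le_of_mul_le_mul_right h1 hc0

theorem ar_C1 (k q β P z C1 : ℕ) (hβ : 0 < β) (hk : k = (q + 1) * β)
    (h1 : k * (z * P - z) = C1 * β) (hP : 1 ≤ P) : C1 = (q + 1) * (z * (P - 1)) := by
  obtain ⟨t, rfl⟩ : ∃ t, P = t + 1 := ⟨P - 1, by omega⟩
  have e1 : z * (t + 1) - z = z * t := by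
    rw [mul_add, mul_one, Nat.add_sub_cancel]
  rw [e1, hk] at h1
  rw [Nat.add_sub_cancel]
  apply Nat.eq_of_mul_eq_mul_right hβ
  rw [← h1]
  ring

theorem ar_i_rem (k q t z e C1 Cb : ℕ) (hez : 0 < e + z)
    (hk : k = (q + 1) * ((t + 2) * (e + z))) (hC1 : C1 = (q + 1) * (z * (t + 1)))
    (hb : k * e = Cb * (e + z)) : C1 + Cb + q * z + z = k := by
  have hCb : Cb = (q + 1) * ((t + 2) * e) := by
    apply Nat.eq_of_mul_eq_mul_right hez
    rw [← hb, hk]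
    ring
  rw [hC1, hCb, hk]
  ring

theorem ar_ii_rem (k q t z e C1 Cb : ℕ) (hez : 0 < e + z)
    (hk : k = (q + 1) * ((t + 2) * (e + z))) (hC1 : C1 = (q + 1) * (z * (t + 1)))
    (hb : k * e = Cb * (2 * (e + z))) :
    2 * C1 + 2 * Cb + ((q + 1) * ((t + 2) * e) + 2 * (q * z)) + 2 * z = 2 * k := by
  have hCb : 2 * Cb = (q + 1) * ((t + 2) * e) := by
    apply Nat.eq_of_mul_eq_mul_right hez
    calc 2 * Cb * (e + z) = Cb * (2 * (e + z)) := by ring
      _ = k * e := hb.symm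
      _ = (q + 1) * ((t + 2) * e) * (e + z) := by rw [hk]; ring
  rw [hC1, hk]
  linarith

theorem ar_ii_bad (k q t z e : ℕ) (hz : 1 ≤ z) (hk : k = (q + 1) * ((t + 2) * (e + z)))
    (h : k ≤ (q + 1) * ((t + 2) * e) + 2 * (q * z)) : False := by
  rw [hk] at h
  have h1 : (q + 1) * ((t + 2) * (e + z)) = (q + 1) * ((t + 2) * e) + (q + 1) * ((t + 2) * z) := by
    ring
  rw [h1] at h
  have h2 : (q + 1) * (2 * z) ≤ (q + 1) * ((t + 2) * z) :=
    Nat.mul_le_mul_left _ (Nat.mul_le_mul_right _ (by omega))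
  have h3 : (q + 1) * (2 * z) = 2 * (q * z) + 2 * z := by ring
  omega

theorem ar_star (k q t z e c4 C4 : ℕ) (hz : 1 ≤ z) (hc4 : z ≤ c4)
    (hk : k = (q + 1) * ((t + 2) * (e + z)))
    (h4 : k * (c4 - z) = C4 * (2 * c4))
    (hC4 : 2 * C4 = (q + 1) * ((t + 2) * e) + 2 * (q * z)) :
    c4 * ((q + 1) * t + 2) = k := by
  obtain ⟨e4, rfl⟩ : ∃ e4, c4 = e4 + z := ⟨c4 - z, by omega⟩
  rw [Nat.add_sub_cancel] at h4
  have h5 : k * e4 = (e4 + z) * ((q + 1) * ((t + 2) * e) + 2 * (q * z)) := by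
    rw [← hC4, h4]
    ring
  rw [hk] at h5 ⊢
  have h6 : z * ((e4 + z) * ((q + 1) * t + 2)) = z * ((q + 1) * ((t + 2) * (e + z))) := by
    zify at h5 ⊢
    linear_combination h5
  exact Nat.eq_of_mul_eq_mul_left hz h6

theorem ar_dvd (q t c4 β : ℕ) (hc4 : 0 < c4) (h : c4 * ((q + 1) * t + 2) = (q + 1) * β)
    (hcase : Even q ∨ (2 ∣ c4 ∧ 2 ∣ β)) : (q + 1) * t + 2 ≤ β := by
  have hd : (q + 1) ∣ c4 := by
    rcases hcase with hev | ⟨⟨a, ha⟩, ⟨b, hb⟩⟩
    · have h1 : (q + 1) ∣ c4 * ((q + 1) * t) + 2 * c4 := ⟨β, by rw [← h]; ring⟩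
      have h2 : (q + 1) ∣ 2 * c4 := (Nat.dvd_add_right ⟨c4 * t, by ring⟩).mp h1
      have hcop : Nat.Coprime (q + 1) 2 := by
        exact Nat.coprime_two_right.mpr hev.add_one
      exact hcop.dvd_of_dvd_mul_left h2
    · subst ha
      subst hb
      have h' : a * ((q + 1) * t + 2) = (q + 1) * b := by
        apply Nat.eq_of_mul_eq_mul_left (by norm_num : 0 < 2)
        rw [← mul_assoc, h]
        ring
      have h1 : (q + 1) ∣ a * ((q + 1) * t) + 2 * a := ⟨b, by rw [← h']; ring⟩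
      exact (Nat.dvd_add_right ⟨a * t, by ring⟩).mp h1
  obtain ⟨j, rfl⟩ := hd
  have hj : 1 ≤ j := by
    rcases Nat.eq_zero_or_pos j with h0 | h0
    · rw [h0] at hc4
      simp at hc4
    · exact h0
  have h2 : j * ((q + 1) * t + 2) = β := by
    apply Nat.eq_of_mul_eq_mul_left (by omega : 0 < q + 1)
    rw [← h]
    ring
  rw [← h2]
  exact Nat.le_mul_of_pos_left _ hj

theorem fin_ar (q t β z : ℕ) (hz : z = 1 ∨ (z = 2 ∧ Odd q)) (hPq : (t + 2) ∣ q)
    (hD : (q + 1) * t + 2 ≤ β) (hβ : β ≤ z * (t + 2) * (t + 1)) (hβq : q - 1 ≤ β) (hq4 : 4 ≤ q)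
    (hq9 : q ≠ 9) : t + 2 = q := by
  obtain ⟨m, hm⟩ := hPq
  have hm0 : m ≠ 0 := by
    rintro rfl
    omega
  by_cases hm1 : m = 1
  · rw [hm, hm1, mul_one]
  exfalso
  rcases hz with rfl | ⟨rfl, hodd⟩
  · have hm2 : 2 ≤ m := by omega
    have hq5 : 2 * t + 4 ≤ q := by
      rw [hm]
      calc 2 * t + 4 = (t + 2) * 2 := by ring
        _ ≤ (t + 2) * m := Nat.mul_le_mul_left _ hm2
    rcases Nat.eq_zero_or_pos t with ht | ht
    · subst ht
      omega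
    · nlinarith [Nat.mul_le_mul_right t hq5]
  · rw [hm] at hodd
    have hmodd : Odd m := (Nat.odd_mul.mp hodd).2
    have hPodd : Odd (t + 2) := (Nat.odd_mul.mp hodd).1
    have hm3 : 3 ≤ m := by
      obtain ⟨j, hj⟩ := hmodd
      omega
    have ht1 : 1 ≤ t := by
      obtain ⟨j, hj⟩ := hPodd
      omega
    have hq5 : 3 * t + 6 ≤ q := by
      rw [hm]
      calc 3 * t + 6 = (t + 2) * 3 := by ring
        _ ≤ (t + 2) * m := Nat.mul_le_mul_left _ hm3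
    by_cases ht : t = 1
    · subst ht
      have hq9' : q ≤ 9 := by omega
      have : m = 3 := by
        obtain ⟨j, hj⟩ := hmodd
        omega
      subst this
      omega
    · have ht2 : 2 ≤ t := by omega
      nlinarith [Nat.mul_le_mul_right t hq5, Nat.mul_le_mul_left t ht2]

theorem ar_triv (q P β z : ℕ) (hz : z = 1 ∨ (z = 2 ∧ Odd q)) (hPq : P ∣ q) (h : β ≤ z * P)
    (hβq : q - 1 ≤ β) (hq4 : 4 ≤ q) : P = q := by
  obtain ⟨m, hm⟩ := hPq
  have hm0 : m ≠ 0 := by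
    rintro rfl
    omega
  by_cases hm1 : m = 1
  · rw [hm, hm1, mul_one]
  exfalso
  rcases hz with rfl | ⟨rfl, hodd⟩
  · have hm2 : 2 ≤ m := by omega
    have := Nat.mul_le_mul_left P hm2
    omega
  · rw [hm] at hodd
    have hmodd : Odd m := (Nat.odd_mul.mp hodd).2
    have hm3 : 3 ≤ m := by
      obtain ⟨j, hj⟩ := hmodd
      omega
    have := Nat.mul_le_mul_left P hm3
    omega

end ar

section abs

variable {K : Type*} [Group K]

theorem rel_refl (w : K) : Rel w w := ⟨1, by simp⟩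

theorem pw_insert [DecidableEq K] {z : K} (S : Finset K) (w : K) (hw : Good z w) (hS : ∀ x ∈ S, Good z x)
    (hpw : ∀ x ∈ S, ∀ y ∈ S, x ≠ y → ¬ Rel x y) (hwS : ∀ x ∈ S, ¬ Rel x w) :
    w ∉ S ∧ (∀ x ∈ insert w S, Good z x) ∧
      (∀ x ∈ insert w S, ∀ y ∈ insert w S, x ≠ y → ¬ Rel x y) := by
  refine ⟨fun h => hwS w h (rel_refl w), ?_, ?_⟩
  · intro x hx
    rw [Finset.mem_insert] at hx
    rcases hx with hx | hx
    · rw [hx]
      exact hw
    · exact hS x hx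
  · intro x hx y hy hxy
    rw [Finset.mem_insert] at hx hy
    rcases hx with hx | hx <;> rcases hy with hy | hy
    · exact absurd (hx.trans hy.symm) hxy
    · rw [hx]
      intro h
      exact hwS y hy (rel_symm h)
    · rw [hy]
      exact hwS x hx
    · exact hpw x hx y hy hxy

end abs

end Cfsg.Agent.Helper14.GC
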