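import Mathlib
import Cfsg.Agent.Helper14.GC

set_option autoImplicit false

namespace Cfsg.Agent.Helper14.GD

open Classical

open Cfsg.Agent.Helper14.Mat2 Cfsg.Agent.Helper14.SL2Odd Cfsg.Agent.Helper14.PSL2
  Cfsg.Agent.Helper14.SL2Conj Cfsg.Agent.Helper14.Torus Cfsg.Agent.Helper14.TorusB
  Cfsg.Agent.Helper14.TorusC Cfsg.Agent.Helper14.TorusD Cfsg.Agent.Helper14.TorusE
  Cfsg.Agent.Helper14.SL2T Cfsg.Agent.Helper14.SubA Cfsg.Agent.Helper14.SubD
  Cfsg.Agent.Helper14.CE3 Cfsg.Agent.Helper14.A4Sub Cfsg.Agent.Helper14.EvA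
  Cfsg.Agent.Helper14.DA Cfsg.Agent.Helper14.DB Cfsg.Agent.Helper14.DC
  Cfsg.Agent.Helper14.DI Cfsg.Agent.Helper14.GA Cfsg.Agent.Helper14.GB Cfsg.Agent.Helper14.GC

section ar

theorem ar_i_bad (k q t z e C4 : ℕ) (hz : 1 ≤ z) (he : z ≤ e)
    (hk : k = (q + 1) * ((t + 2) * (e + z))) (h : k ≤ 4 * C4) (hC4 : C4 ≤ q * z) : False := by
  have h1 : (q + 1) * (2 * (2 * z)) ≤ (q + 1) * ((t + 2) * (e + z)) :=
    Nat.mul_le_mul_left _ (Nat.mul_le_mul (by omega) (by omega))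
  have h2 : (q + 1) * (2 * (2 * z)) = 4 * (q * z) + 4 * z := by ring
  omega

end ar

variable {F : Type*} [Field F]

local notation "SL2" => Matrix.SpecialLinearGroup (Fin 2) F
local notation "M2" => Matrix (Fin 2) (Fin 2) F

theorem cent_even (h2 : (2 : F) ≠ 0) (M : Subgroup SL2) [Finite M] (hneg : negOne ∈ M) (x : M) :
    2 ∣ Nat.card (Subgroup.centralizer {x}) := by
  have hzC : (⟨negOne, hneg⟩ : M) ∈ Subgroup.centralizer {x} := by
    rw [Subgroup.mem_centralizer_singleton_iff]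
    apply Subtype.ext
    exact negOne_comm (x : SL2)
  have ho : orderOf (⟨⟨negOne, hneg⟩, hzC⟩ : Subgroup.centralizer {x}) = 2 := by
    apply orderOf_eq_prime
    · apply Subtype.ext
      apply Subtype.ext
      show (negOne : SL2) ^ 2 = 1
      rw [pow_two, negOne_mul_self]
    · intro h
      exact negOne_ne_one h2 (congrArg (fun c : Subgroup.centralizer {x} => ((c : M) : SL2)) h)
  have := orderOf_dvd_natCard (⟨⟨negOne, hneg⟩, hzC⟩ : Subgroup.centralizer {x})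
  rwa [ho] at this

theorem cls_data [Fintype F] (hpar : (2 : F) = 0 ∨ Odd (Fintype.card F)) (M : Subgroup SL2)
    [Fintype M] (hneg : negOne ∈ M) (w : M) (hw : Good (⟨negOne, hneg⟩ : M) w)
    (hchi : SLc.chi (w : SL2) ≠ 0) :
    ∃ n : ℕ, 2 * (zfin (⟨negOne, hneg⟩ : M)).card ≤ Nat.card (Subgroup.centralizer {w}) ∧
      (n = Nat.card (Subgroup.centralizer {w}) ∨ n = 2 * Nat.card (Subgroup.centralizer {w})) ∧
      Fintype.card M * (Nat.card (Subgroup.centralizer {w}) - (zfin (⟨negOne, hneg⟩ : M)).card) =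
        (cls (⟨negOne, hneg⟩ : M) w).card * n := by
  have H := hyp0n M hneg
  refine ⟨Nat.card (Subgroup.normalizer ((Subgroup.centralizer {w} : Subgroup M) : Set M)),
    cent_ge M hneg w hw, ?_, double_count_z H hw⟩
  have hle := norm_card_le H hw (a2_uni hpar M w hchi)
  have hdvd : Nat.card (Subgroup.centralizer {w}) ∣
      Nat.card (Subgroup.normalizer ((Subgroup.centralizer {w} : Subgroup M) : Set M)) :=
    Subgroup.card_dvd_of_le Subgroup.le_normalizer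
  have hpos : 0 < Nat.card (Subgroup.normalizer ((Subgroup.centralizer {w} : Subgroup M) : Set M)) :=
    Nat.card_pos
  have hcpos : 0 < Nat.card (Subgroup.centralizer {w}) := Nat.card_pos
  obtain ⟨c, hc⟩ : ∃ c, c = Nat.card (Subgroup.centralizer {w}) := ⟨_, rfl⟩
  obtain ⟨n, hn⟩ : ∃ n, n =
      Nat.card (Subgroup.normalizer ((Subgroup.centralizer {w} : Subgroup M) : Set M)) := ⟨_, rfl⟩
  rw [← hc, ← hn] at hle hdvd
  rw [← hn] at hpos
  rw [← hc] at hcpos
  rw [← hc, ← hn]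
  obtain ⟨j, hj⟩ := hdvd
  have hj0 : j ≠ 0 := by
    rintro rfl
    rw [mul_zero] at hj
    omega
  have hj2 : j ≤ 2 := by
    by_contra hcon
    push Not at hcon
    have := Nat.mul_le_mul_left c (Nat.succ_le_of_lt hcon)
    rw [← hj] at this
    omega
  have hj1 : j = 1 ∨ j = 2 := by omega
  rcases hj1 with rfl | rfl
  · left
    rw [hj, mul_one]
  · right
    rw [hj, mul_comm]

set_option maxHeartbeats 1000000 in
theorem big_core [Fintype F]
    (hpar : ((2 : F) = 0 ∧ Even (Fintype.card F)) ∨ Odd (Fintype.card F))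
    (hq4 : 4 ≤ Fintype.card F) (hq9 : Fintype.card F ≠ 9)
    (M : Subgroup SL2) (hneg : negOne ∈ M) (v0 : F) (hv0 : v0 ≠ 0) (h1 : xe v0 ∈ M)
    (hk : Nat.card M = (Fintype.card F + 1) * Nat.card (borM M))
    (hβq : Fintype.card F - 1 ≤ Nat.card (borM M))
    (hsyl : ∀ w : M, Good (⟨negOne, hneg⟩ : M) w → SLc.chi (w : SL2) = 0 →
      Rel (⟨xe v0, h1⟩ : M) w) :
    Nat.card {v : F // xe v ∈ M} = Fintype.card F := by
  haveI : Fintype M := Fintype.ofFinite M
  have H := hyp0n M hneg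
  have hpar' : (2 : F) = 0 ∨ Odd (Fintype.card F) := hpar.imp (fun h => h.1) id
  obtain ⟨q, hqdef⟩ : ∃ q, q = Fintype.card F := ⟨_, rfl⟩
  obtain ⟨P, hPdef⟩ : ∃ P : ℕ, P = Nat.card {v : F // xe v ∈ M} := ⟨_, rfl⟩
  obtain ⟨β, hβdef⟩ : ∃ β : ℕ, β = Nat.card (borM M) := ⟨_, rfl⟩
  obtain ⟨z, hzdef⟩ : ∃ z : ℕ, z = (zfin (⟨negOne, hneg⟩ : M)).card := ⟨_, rfl⟩
  obtain ⟨k, hkdef⟩ : ∃ k : ℕ, k = Fintype.card M := ⟨_, rfl⟩
  rw [← hqdef] at hq4 hq9 hβq hk ⊢
  rw [← hβdef] at hβq hk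
  rw [← hPdef]
  rw [Nat.card_eq_fintype_card, ← hkdef] at hk
  have hz : z = 1 ∨ (z = 2 ∧ Odd q) := by
    rcases hpar with ⟨h2F, -⟩ | hodd
    · left
      rw [hzdef]
      exact zcard_one h2F M hneg
    · right
      refine ⟨?_, ?_⟩
      · rw [hzdef]
        exact zcard_two (two_ne_zero_of_odd hodd) M hneg
      · rw [hqdef]
        exact hodd
  have hz1 : 1 ≤ z := by
    rcases hz with h | ⟨h, -⟩ <;> omega
  have hPdvd : P ∣ q := by
    rw [hPdef, hqdef]
    exact P_dvd M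
  have hP2 : 2 ≤ P := by
    rw [hPdef]
    have h0 : xe (0 : F) ∈ M := by
      rw [xe_zero]
      exact M.one_mem
    have hne : (⟨0, h0⟩ : {v : F // xe v ∈ M}) ≠ ⟨v0, h1⟩ :=
      fun h => hv0 (congrArg Subtype.val h).symm
    haveI : Nontrivial {v : F // xe v ∈ M} := ⟨⟨_, _, hne⟩⟩
    exact Finite.one_lt_card
  obtain ⟨hg1, hchi1, hdc1⟩ := class1u M hneg v0 hv0 h1
  have horb := beta_orbit M v0 hv0 h1
  rw [card_cent_x1u M hneg v0 hv0 h1, ← hPdef, ← hβdef, ← hzdef] at horb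
  obtain ⟨x1, hx1def⟩ : ∃ x1 : M, x1 = ⟨xe v0, h1⟩ := ⟨_, rfl⟩
  rw [← hx1def] at hg1 hdc1 hsyl
  have hchi1' : SLc.chi (x1 : SL2) = 0 := by
    rw [hx1def]
    exact hchi1
  obtain ⟨C1, hC1def⟩ : ∃ C1 : ℕ, C1 = (cls (⟨negOne, hneg⟩ : M) x1).card := ⟨_, rfl⟩
  rw [← hPdef, ← card_borM_eq, ← hβdef, ← hzdef, ← hkdef, ← hC1def] at hdc1
  have hβpos : 0 < β := by
    rw [hβdef]
    exact Nat.card_pos
  have hC1 := ar_C1 k q β P z C1 hβpos hk hdc1 (by omega)
  obtain ⟨b, hb10, hb⟩ := beta_bound M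
  rw [← hPdef, ← hβdef] at hb
  rcases hb with ⟨hbne, hble⟩ | ⟨hb2, hb1⟩
  swap
  · apply ar_triv q P β z hz hPdvd ?_ hβq hq4
    rcases hpar with ⟨h2F, -⟩ | hodd
    · rw [hzdef, zcard_one h2F M hneg, one_mul]
      exact hb1 h2F
    · rw [hzdef, zcard_two (two_ne_zero_of_odd hodd) M hneg]
      exact hb2
  have hbd := upper_diag (b : SL2) hb10
  have hbne' : ((b : SL2) : M2) 0 0 ≠ ((b : SL2) : M2) 1 1 := by
    intro h
    apply hbne
    rw [pow_two]
    nth_rewrite 2 [h]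
    exact hbd
  have hchib : SLc.chi (b : SL2) ≠ 0 := by
    intro h
    unfold SLc.chi at h
    rw [Matrix.trace_fin_two] at h
    have h5 : (((b : SL2) : M2) 0 0 - ((b : SL2) : M2) 1 1) ^ 2 = 0 := by
      linear_combination h - 4 * hbd
    exact hbne' (sub_eq_zero.mp ((pow_eq_zero_iff (two_ne_zero)).mp h5))
  have hgb : Good (⟨negOne, hneg⟩ : M) b := by
    constructor
    · intro h
      apply hbne
      rw [h]
      simp
    · intro h
      apply hbne
      rw [h]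
      show ((negOne : SL2) : M2) 0 0 ^ 2 = 1
      simp [coe_negOne]
  have hge := beta_ge_cent M b hb10 hbne'
  rw [← hPdef, ← hβdef] at hge
  obtain ⟨cb, hcbdef⟩ : ∃ cb : ℕ, cb = Nat.card (Subgroup.centralizer {b}) := ⟨_, rfl⟩
  rw [← hcbdef] at hge hble
  have hβeq : β = P * cb := le_antisymm hble hge
  obtain ⟨nb, hcb2, hnb, hdcb⟩ := cls_data hpar' M hneg b hgb hchib
  obtain ⟨Cb, hCbdef⟩ : ∃ Cb : ℕ, Cb = (cls (⟨negOne, hneg⟩ : M) b).card := ⟨_, rfl⟩
  rw [← hcbdef, ← hzdef] at hcb2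
  rw [← hcbdef] at hnb
  rw [← hcbdef, ← hzdef, ← hkdef, ← hCbdef] at hdcb
  obtain ⟨t, rfl⟩ : ∃ t, P = t + 2 := ⟨P - 2, by omega⟩
  obtain ⟨e, rfl⟩ : ∃ e, cb = e + z := ⟨cb - z, by omega⟩
  rw [Nat.add_sub_cancel] at hdcb
  have he : z ≤ e := by omega
  have hez : 0 < e + z := by omega
  have hk2 : k = (q + 1) * ((t + 2) * (e + z)) := by rw [hk, hβeq]
  have et : t + 2 - 1 = t + 1 := by omega
  rw [et] at hC1 horb
  have h1b := rel_zero_n M hneg x1 b hg1 hgb hchi1' hchib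
  have hx1b : x1 ≠ b := by
    intro h
    apply hchib
    rw [← h]
    exact hchi1'
  have hx1S : x1 ∉ ({b} : Finset M) := by
    rw [Finset.mem_singleton]
    exact hx1b
  have hpw2 : ∀ x ∈ insert x1 ({b} : Finset M),
      ∀ y ∈ insert x1 ({b} : Finset M), x ≠ y → ¬ Rel x y := by
    intro x hx y hy hxy
    rw [Finset.mem_insert, Finset.mem_singleton] at hx hy
    rcases hx with hx | hx <;> rcases hy with hy | hy
    · exact absurd (hx.trans hy.symm) hxy
    · rw [hx, hy]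
      exact h1b.1
    · rw [hx, hy]
      exact h1b.2
    · exact absurd (hx.trans hy.symm) hxy
  have hGood2 : ∀ x ∈ insert x1 ({b} : Finset M), Good (⟨negOne, hneg⟩ : M) x := by
    intro x hx
    rw [Finset.mem_insert, Finset.mem_singleton] at hx
    rcases hx with hx | hx <;> rw [hx]
    · exact hg1
    · exact hgb
  have hqz : 0 < q * z := Nat.mul_pos (by omega) hz1
  have houter : ∀ w : M, Good (⟨negOne, hneg⟩ : M) w → ¬ Rel x1 w →
      ∃ c4 n4 C4 : ℕ, C4 = (cls (⟨negOne, hneg⟩ : M) w).card ∧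
        c4 = Nat.card (Subgroup.centralizer {w}) ∧ 2 * z ≤ c4 ∧ (n4 = c4 ∨ n4 = 2 * c4) ∧
        k * (c4 - z) = C4 * n4 := by
    intro w hw hr
    have hchiw : SLc.chi (w : SL2) ≠ 0 := fun h => hr (hsyl w hw h)
    obtain ⟨n4, h1', h2', h3'⟩ := cls_data hpar' M hneg w hw hchiw
    refine ⟨_, n4, _, rfl, rfl, ?_, h2', ?_⟩
    · rw [hzdef]
      exact h1'
    · rw [hzdef, hkdef]
      exact h3'
  have hmem2 : ∀ w : M, ¬ Rel x1 w → ¬ Rel b w →
      ∀ x ∈ insert x1 ({b} : Finset M), ¬ Rel x w := by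
    intro w h1' h2' x hx
    rw [Finset.mem_insert, Finset.mem_singleton] at hx
    rcases hx with hx | hx <;> rw [hx]
    · exact h1'
    · exact h2'
  by_cases hex : ∃ w : M, Good (⟨negOne, hneg⟩ : M) w ∧ ¬ Rel x1 w ∧ ¬ Rel b w
  swap
  · exfalso
    have hall : ∀ w : M, Good (⟨negOne, hneg⟩ : M) w →
        ∃ x ∈ insert x1 ({b} : Finset M), Rel x w := by
      intro w hw
      by_contra hcon
      push Not at hcon
      exact hex ⟨w, hw, hcon x1 (Finset.mem_insert_self _ _),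
        hcon b (Finset.mem_insert_of_mem (Finset.mem_singleton_self _))⟩
    have hsum := sum_eq_z H _ hGood2 hpw2 hall
    rw [Finset.sum_insert hx1S, Finset.sum_singleton, ← hzdef, ← hC1def, ← hCbdef,
      ← hkdef] at hsum
    rcases hnb with h | h
    · rw [h] at hdcb
      have h5 := ar_i_rem k q t z e C1 Cb hez hk2 hC1 hdcb
      omega
    · rw [h] at hdcb
      have h5 := ar_ii_rem k q t z e C1 Cb hez hk2 hC1 hdcb
      omega
  obtain ⟨w4, hw4, hr14, hrb4⟩ := hex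
  obtain ⟨c4, n4, C4, hC4def, hc4def, hc42, hn4, hdc4⟩ := houter w4 hw4 hr14
  obtain ⟨hw4S, hGood3, hpw3⟩ := pw_insert _ w4 hw4 hGood2 hpw2 (hmem2 w4 hr14 hrb4)
  have hc4pos : 0 < c4 := by omega
  have hn4le : n4 ≤ 2 * c4 := by
    rcases hn4 with h | h <;> omega
  have hq4' := cls_quarter k c4 z C4 n4 hc42 hc4pos hdc4 hn4le
  have hsum3 := sum_le_z H _ hGood3 hpw3
  rw [Finset.sum_insert hw4S, Finset.sum_insert hx1S, Finset.sum_singleton, ← hzdef, ← hC1def,
    ← hCbdef, ← hkdef, ← hC4def] at hsum3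
  rcases hnb with h | h
  · exfalso
    rw [h] at hdcb
    have h5 := ar_i_rem k q t z e C1 Cb hez hk2 hC1 hdcb
    exact ar_i_bad k q t z e C4 hz1 he hk2 hq4' (by omega)
  rw [h] at hdcb
  have h5 := ar_ii_rem k q t z e C1 Cb hez hk2 hC1 hdcb
  by_cases hex2 : ∃ w : M, Good (⟨negOne, hneg⟩ : M) w ∧ ¬ Rel x1 w ∧ ¬ Rel b w ∧ ¬ Rel w4 w
  · exfalso
    obtain ⟨w5, hw5, hr15, hrb5, hr45⟩ := hex2
    obtain ⟨c5, n5, C5, hC5def, hc5def, hc52, hn5, hdc5⟩ := houter w5 hw5 hr15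
    have hmem3 : ∀ x ∈ insert w4 (insert x1 ({b} : Finset M)), ¬ Rel x w5 := by
      intro x hx
      rw [Finset.mem_insert] at hx
      rcases hx with hx | hx
      · rw [hx]
        exact hr45
      · exact hmem2 w5 hr15 hrb5 x hx
    obtain ⟨hw5S, hGood4, hpw4⟩ := pw_insert _ w5 hw5 hGood3 hpw3 hmem3
    have hc5pos : 0 < c5 := by omega
    have hn5le : n5 ≤ 2 * c5 := by
      rcases hn5 with h | h <;> omega
    have hq5' := cls_quarter k c5 z C5 n5 hc52 hc5pos hdc5 hn5le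
    have hsum4 := sum_le_z H _ hGood4 hpw4
    rw [Finset.sum_insert hw5S, Finset.sum_insert hw4S, Finset.sum_insert hx1S,
      Finset.sum_singleton, ← hzdef, ← hC1def, ← hCbdef, ← hkdef, ← hC4def, ← hC5def] at hsum4
    exact ar_ii_bad k q t z e hz1 hk2 (by omega)
  · have hall3 : ∀ w : M, Good (⟨negOne, hneg⟩ : M) w →
        ∃ x ∈ insert w4 (insert x1 ({b} : Finset M)), Rel x w := by
      intro w hw
      by_contra hcon
      push Not at hcon
      exact hex2 ⟨w, hw, hcon x1 (by simp), hcon b (by simp), hcon w4 (by simp)⟩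
    have hsum3e := sum_eq_z H _ hGood3 hpw3 hall3
    rw [Finset.sum_insert hw4S, Finset.sum_insert hx1S, Finset.sum_singleton, ← hzdef,
      ← hC1def, ← hCbdef, ← hkdef, ← hC4def] at hsum3e
    have hC4R : 2 * C4 = (q + 1) * ((t + 2) * e) + 2 * (q * z) := by omega
    rcases hn4 with h4 | h4
    · exfalso
      rw [h4] at hdc4
      have h6 := cls_half k c4 z C4 hc42 hc4pos hdc4
      exact ar_ii_bad k q t z e hz1 hk2 (by omega)
    · rw [h4] at hdc4
      have hstar := ar_star k q t z e c4 C4 hz1 (by omega) hk2 hdc4 hC4R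
      rw [hk] at hstar
      have hcase : Even q ∨ (2 ∣ c4 ∧ 2 ∣ β) := by
        rcases hpar with ⟨-, hev⟩ | hodd
        · left
          rw [hqdef]
          exact hev
        · right
          have h2F := two_ne_zero_of_odd hodd
          refine ⟨?_, ?_⟩
          · rw [hc4def]
            exact cent_even h2F M hneg w4
          · rw [hβeq]
            apply Dvd.dvd.mul_left
            rw [hcbdef]
            exact cent_even h2F M hneg b
      have hD := ar_dvd q t c4 β hc4pos hstar hcase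
      exact fin_ar q t β z hz hPdvd hD horb hβq hq4 hq9

end Cfsg.Agent.Helper14.GD
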