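import Mathlib
import Cfsg.Agent.Helper14.GD

set_option autoImplicit false

namespace Cfsg.Agent.Helper14.GE

open Classical

open Cfsg.Agent.Helper14.Mat2 Cfsg.Agent.Helper14.SL2Odd Cfsg.Agent.Helper14.PSL2
  Cfsg.Agent.Helper14.SL2Conj Cfsg.Agent.Helper14.Torus Cfsg.Agent.Helper14.TorusB
  Cfsg.Agent.Helper14.TorusC Cfsg.Agent.Helper14.TorusD Cfsg.Agent.Helper14.TorusE
  Cfsg.Agent.Helper14.SL2T Cfsg.Agent.Helper14.SubA Cfsg.Agent.Helper14.SubD
  Cfsg.Agent.Helper14.CE3 Cfsg.Agent.Helper14.A4Sub Cfsg.Agent.Helper14.EvA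
  Cfsg.Agent.Helper14.DA Cfsg.Agent.Helper14.DB Cfsg.Agent.Helper14.DC
  Cfsg.Agent.Helper14.DF
  Cfsg.Agent.Helper14.DI Cfsg.Agent.Helper14.GA Cfsg.Agent.Helper14.GB Cfsg.Agent.Helper14.GC
  Cfsg.Agent.Helper14.GD

section ar

theorem ar_claimA (q β k p : ℕ) (hp : p.Prime) (hpq : p ∣ q) (hq : 2 ≤ q) (hβ : β ∣ q - 1)
    (hk1 : k ≤ (q + 1) * β) (hk2 : β ∣ k) (hbig : q * (q - 1) < k) (hpk : p ∣ k) : False := by
  obtain ⟨s, rfl⟩ : ∃ s, q = s + 1 := ⟨q - 1, by omega⟩
  rw [Nat.add_sub_cancel] at hβ hbig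
  obtain ⟨m, hm⟩ := hβ
  obtain ⟨j, hj⟩ := hk2
  have hs1 : 1 ≤ s := by omega
  have hm0 : m ≠ 0 := by
    rintro rfl
    rw [mul_zero] at hm
    omega
  have hβ0 : 0 < β := by
    rcases Nat.eq_zero_or_pos β with h | h
    · rw [h, zero_mul] at hj
      omega
    · exact h
  have hm1 : m = 1 := by
    by_contra hne
    have hm2 : 2 ≤ m := by omega
    have h1 : β * 2 ≤ s := by
      rw [hm]
      exact Nat.mul_le_mul_left β hm2
    have h2 : (s + 1 + 1) * (β * 2) ≤ (s + 1 + 1) * s := Nat.mul_le_mul_left _ h1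
    have h3 : (s + 1 + 1) * (β * 2) = 2 * ((s + 1 + 1) * β) := by ring
    have h4 : (s + 1 + 1) * s = (s + 1) * s + s := by ring
    have h5 : s ≤ (s + 1) * s := Nat.le_mul_of_pos_left s (by omega)
    omega
  subst hm1
  rw [mul_one] at hm
  subst hm
  have hj1 : j = s + 2 := by
    have h1 : j ≤ s + 2 := by
      by_contra hcon
      push Not at hcon
      have h2 : s * (s + 3) ≤ s * j := Nat.mul_le_mul_left s hcon
      have h3 : s * (s + 3) = (s + 1 + 1) * s + s := by ring
      omega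
    have h2 : s + 1 < j := by
      by_contra hcon
      push Not at hcon
      have h2 : s * j ≤ s * (s + 1) := Nat.mul_le_mul_left s hcon
      have h3 : s * (s + 1) = (s + 1) * s := by ring
      omega
    omega
  subst hj1
  rw [hj] at hpk
  rcases (Nat.Prime.dvd_mul hp).mp hpk with h | h
  · have h5 : p ∣ 1 := (Nat.dvd_add_right h).mp hpq
    exact hp.one_lt.ne' (Nat.dvd_one.mp h5)
  · have h5 : p ∣ 1 := (Nat.dvd_add_right hpq).mp (show p ∣ s + 1 + 1 from h)
    exact hp.one_lt.ne' (Nat.dvd_one.mp h5)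

end ar

variable {F : Type*} [Field F]

local notation "SL2" => Matrix.SpecialLinearGroup (Fin 2) F
local notation "M2" => Matrix (Fin 2) (Fin 2) F

theorem exists_xe [Fintype F] (p : ℕ) [Fact p.Prime] [CharP F p] (M : Subgroup SL2)
    (hq2 : 2 ≤ Fintype.card F)
    (hbig : Fintype.card F * (Fintype.card F - 1) < Nat.card M) (hp : p ∣ Nat.card M) :
    ∃ v : F, v ≠ 0 ∧ xe v ∈ M := by
  have hpp : p.Prime := Fact.out
  by_contra hcon
  push Not at hcon
  have hP : Nat.card {v : F // xe v ∈ M} ≤ 1 := by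
    haveI : Subsingleton {v : F // xe v ∈ M} := by
      constructor
      intro a b
      apply Subtype.ext
      have ha : a.1 = 0 := by
        by_contra h
        exact hcon a.1 h a.2
      have hb : b.1 = 0 := by
        by_contra h
        exact hcon b.1 h b.2
      rw [ha, hb]
    exact Finite.card_le_one_iff_subsingleton.mpr inferInstance
  have hker : Nat.card (d00 M).ker = 1 := by
    have h1 := ker_le M
    have h2 : 0 < Nat.card (d00 M).ker := Nat.card_pos
    omega
  have hβ := card_borM M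
  rw [hker, one_mul] at hβ
  have hdvd : Nat.card (d00 M).range ∣ Fintype.card F - 1 := by
    have h := Subgroup.card_subgroup_dvd_card (d00 M).range
    rwa [Nat.card_units, Nat.card_eq_fintype_card (α := F)] at h
  rw [← hβ] at hdvd
  have hpq : p ∣ Fintype.card F := by
    obtain ⟨n, -, hn'⟩ := FiniteField.card F p
    rw [hn']
    exact dvd_pow_self p n.ne_zero
  exact ar_claimA (Fintype.card F) (Nat.card (borM M)) (Nat.card M) p hpp hpq hq2 hdvd
    (pt_bound M) (Subgroup.card_subgroup_dvd_card (borM M)) hbig hp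

set_option maxHeartbeats 1000000 in
theorem big_p0 [Fintype F] (p : ℕ) [Fact p.Prime] [CharP F p]
    (hpar : ((2 : F) = 0 ∧ Even (Fintype.card F)) ∨ Odd (Fintype.card F))
    (hq4 : 4 ≤ Fintype.card F) (hq9 : Fintype.card F ≠ 9)
    (M : Subgroup SL2) (hneg : negOne ∈ M) (v0 : F) (hv0 : v0 ≠ 0) (h1 : xe v0 ∈ M)
    (hbig : Fintype.card F * (Fintype.card F - 1) < Nat.card M) : M = ⊤ := by
  have hpp : p.Prime := Fact.out
  have hx1ne : (xe v0 : SL2) ≠ 1 := by
    intro h
    have h' := congrArg (fun x : SL2 => (x : M2) 0 1) h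
    simp only [xe_01] at h'
    apply hv0
    rw [h']
    simp
  have hpM : p ∣ Nat.card M := by
    have ho : orderOf (⟨xe v0, h1⟩ : M) = p := by
      apply orderOf_eq_prime
      · apply Subtype.ext
        show (xe v0 : SL2) ^ p = 1
        exact xe_pow_char p v0
      · intro h
        exact hx1ne (congrArg Subtype.val h)
    rw [← ho]
    exact orderOf_dvd_natCard _
  have hA : ∀ g : SL2, ∃ v : F, v ≠ 0 ∧ g * xe v * g⁻¹ ∈ M := by
    intro g
    obtain ⟨M', hM'⟩ : ∃ M' : Subgroup SL2, M' = M.map (MulAut.conj g⁻¹).toMonoidHom :=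
      ⟨_, rfl⟩
    have hcard : Nat.card M' = Nat.card M := by
      rw [hM']
      exact Subgroup.card_map_of_injective (MulAut.conj g⁻¹).injective
    obtain ⟨v, hv, hmem⟩ := exists_xe p M' (by omega) (by rw [hcard]; exact hbig)
      (by rw [hcard]; exact hpM)
    refine ⟨v, hv, ?_⟩
    rw [hM'] at hmem
    obtain ⟨x, hx, hxe⟩ := hmem
    have hxe' : g⁻¹ * x * g = xe v := by
      simpa [MulAut.conj_apply] using hxe
    rw [← hxe']
    have : g * (g⁻¹ * x * g) * g⁻¹ = x := by group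
    rw [this]
    exact hx
  have hcov : ∀ g : SL2, ∃ m ∈ M, ((m * g : SL2) : M2) 1 0 = 0 := by
    intro g
    obtain ⟨v, hv, hmem⟩ := hA g
    have hup : (g * xe v * g⁻¹) ^ p = 1 := by
      rw [conj_pow, xe_pow_char p v, mul_one, mul_inv_cancel]
    obtain ⟨m, hm, h10, -⟩ := sylow_upper p M v0 hv0 h1 _ hmem hup
    refine ⟨m, hm, ?_⟩
    have e : m * (g * xe v * g⁻¹) * m⁻¹ = (m * g) * xe v * (m * g)⁻¹ := by group
    rw [e, conj_xe, mk2_coe] at h10
    have h10' : ((m * g : SL2) : M2) 1 0 ^ 2 * v = 0 := by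
      simpa using h10
    rcases mul_eq_zero.mp h10' with h | h
    · exact (pow_eq_zero_iff (two_ne_zero)).mp h
    · exact absurd h hv
  have hk : Nat.card M = (Fintype.card F + 1) * Nat.card (borM M) :=
    le_antisymm (pt_bound M) (cover_bound M hcov)
  have hβq : Fintype.card F - 1 ≤ Nat.card (borM M) := by
    by_contra hcon
    push Not at hcon
    obtain ⟨s, hs⟩ : ∃ s, Fintype.card F = s + 2 := ⟨Fintype.card F - 2, by omega⟩
    rw [hs] at hcon hbig hk
    have h2 : Nat.card (borM M) ≤ s := by omega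
    have h3 : (s + 2 + 1) * Nat.card (borM M) ≤ (s + 2 + 1) * s := Nat.mul_le_mul_left _ h2
    have h4 : (s + 2) * (s + 2 - 1) = (s + 2 + 1) * s + 2 := by
      have : s + 2 - 1 = s + 1 := by omega
      rw [this]
      ring
    omega
  have hsyl : ∀ w : M, Good (⟨negOne, hneg⟩ : M) w → SLc.chi (w : SL2) = 0 →
      Rel (⟨xe v0, h1⟩ : M) w := by
    intro w hw hchi
    apply rel_symm
    have htr : ((w : SL2) : M2).trace = 2 ∨ ((w : SL2) : M2).trace = -2 := by
      unfold SLc.chi at hchi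
      have h : (((w : SL2) : M2).trace - 2) * (((w : SL2) : M2).trace + 2) = 0 := by
        linear_combination hchi
      rcases mul_eq_zero.mp h with h | h
      · left
        linear_combination h
      · right
        linear_combination h
    rcases htr with htr | htr
    · have hup := SLc.pow_char_of_trace_two p (w : SL2) htr
      obtain ⟨m, hm, h10, hd⟩ := sylow_upper p M v0 hv0 h1 _ w.2 hup
      refine ⟨⟨m, hm⟩, Subtype.ext ?_⟩
      exact comm_of_upper_eq _ h10 hd v0
    · have htr' : ((negOne * (w : SL2) : SL2) : M2).trace = 2 := by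
        rw [trace_negOne_mul, htr, neg_neg]
      have hup := SLc.pow_char_of_trace_two p _ htr'
      obtain ⟨m, hm, h10, hd⟩ := sylow_upper p M v0 hv0 h1 _ (M.mul_mem hneg w.2) hup
      refine ⟨⟨m, hm⟩, Subtype.ext ?_⟩
      have hc := comm_of_upper_eq _ h10 hd v0
      have e : m * (negOne * (w : SL2)) * m⁻¹ = negOne * (m * (w : SL2) * m⁻¹) := by
        rw [← mul_assoc m, ← negOne_comm, mul_assoc, mul_assoc, mul_assoc]
      rw [e] at hc
      have hc' : negOne * ((m * (w : SL2) * m⁻¹) * xe v0) =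
          negOne * (xe v0 * (m * (w : SL2) * m⁻¹)) := by
        calc negOne * ((m * (w : SL2) * m⁻¹) * xe v0)
            = negOne * (m * (w : SL2) * m⁻¹) * xe v0 := (mul_assoc _ _ _).symm
          _ = xe v0 * (negOne * (m * (w : SL2) * m⁻¹)) := hc
          _ = xe v0 * negOne * (m * (w : SL2) * m⁻¹) := (mul_assoc _ _ _).symm
          _ = negOne * xe v0 * (m * (w : SL2) * m⁻¹) := by rw [negOne_comm (xe v0)]
          _ = negOne * (xe v0 * (m * (w : SL2) * m⁻¹)) := mul_assoc _ _ _
      have hfin : m * (w : SL2) * m⁻¹ * xe v0 = xe v0 * (m * (w : SL2) * m⁻¹) :=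
        mul_left_cancel hc'
      exact hfin
  have hP := big_core hpar hq4 hq9 M hneg v0 hv0 h1 hk hβq hsyl
  have hall := all_xe_of_card M hP
  have hex : ∃ g ∈ M, ((g : SL2) : M2) 1 0 ≠ 0 := by
    by_contra hcon
    push Not at hcon
    have htop : borM M = ⊤ := by
      rw [eq_top_iff]
      intro n _
      exact (mem_borM M n).mpr (hcon n n.2)
    rw [htop, Subgroup.card_top] at hk
    have hpos : 0 < Nat.card M := Nat.card_pos
    have h5 : 2 * Nat.card M ≤ (Fintype.card F + 1) * Nat.card M :=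
      Nat.mul_le_mul_right _ (by omega)
    omega
  obtain ⟨g, hg, hc⟩ := hex
  exact top_of_all_xe M hall g hg hc

theorem big_p [Fintype F] (p : ℕ) [Fact p.Prime] [CharP F p]
    (hpar : ((2 : F) = 0 ∧ Even (Fintype.card F)) ∨ Odd (Fintype.card F))
    (hq4 : 4 ≤ Fintype.card F) (hq9 : Fintype.card F ≠ 9)
    (M : Subgroup SL2) (hneg : negOne ∈ M) (hpM : p ∣ Nat.card M)
    (hbig : Fintype.card F * (Fintype.card F - 1) < Nat.card M) : M = ⊤ := by
  have hpp : p.Prime := Fact.out
  obtain ⟨u, hu⟩ := exists_prime_orderOf_dvd_card' (G := M) p hpM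
  have hu1 : (u : SL2) ≠ 1 := by
    intro h
    have h' : u = 1 := Subtype.ext h
    rw [h', orderOf_one] at hu
    exact hpp.one_lt.ne hu
  have hup : (u : SL2) ^ p = 1 := by
    have h := pow_orderOf_eq_one u
    rw [hu] at h
    exact congrArg Subtype.val h
  have htr := unip_tr p (u : SL2) hup
  obtain ⟨g, v0, hv0, hg⟩ := conj_unip (u : SL2) hu1 htr
  obtain ⟨M', hM'⟩ : ∃ M' : Subgroup SL2, M' = M.map (MulAut.conj g).toMonoidHom := ⟨_, rfl⟩
  have hmem : ∀ x ∈ M, g * x * g⁻¹ ∈ M' := by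
    intro x hx
    rw [hM']
    exact ⟨x, hx, by simp [MulAut.conj_apply]⟩
  have hcard : Nat.card M' = Nat.card M := by
    rw [hM']
    exact Subgroup.card_map_of_injective (MulAut.conj g).injective
  have hneg' : negOne ∈ M' := by
    have h := hmem negOne hneg
    rwa [← negOne_comm, mul_inv_cancel_right] at h
  have h1' : xe v0 ∈ M' := by
    rw [← hg]
    exact hmem _ u.2
  have htop := big_p0 p hpar hq4 hq9 M' hneg' v0 hv0 h1' (by rw [hcard]; exact hbig)
  rw [← Subgroup.card_eq_iff_eq_top] at htop ⊢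
  rw [← hcard]
  exact htop

end Cfsg.Agent.Helper14.GE
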