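import Mathlib
import Cfsg.Agent.Helper14.GE

set_option autoImplicit false

namespace Cfsg.Agent.Helper14.GF

open Classical

open Cfsg.Agent.Helper14.Mat2 Cfsg.Agent.Helper14.SL2Odd Cfsg.Agent.Helper14.PSL2
  Cfsg.Agent.Helper14.SL2Conj Cfsg.Agent.Helper14.Torus Cfsg.Agent.Helper14.TorusB
  Cfsg.Agent.Helper14.TorusC Cfsg.Agent.Helper14.TorusD Cfsg.Agent.Helper14.TorusE
  Cfsg.Agent.Helper14.SL2T Cfsg.Agent.Helper14.SubA Cfsg.Agent.Helper14.SubD
  Cfsg.Agent.Helper14.CE3 Cfsg.Agent.Helper14.A4Sub Cfsg.Agent.Helper14.EvA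
  Cfsg.Agent.Helper14.DA Cfsg.Agent.Helper14.DB Cfsg.Agent.Helper14.DC
  Cfsg.Agent.Helper14.DF
  Cfsg.Agent.Helper14.DI Cfsg.Agent.Helper14.GA Cfsg.Agent.Helper14.GB Cfsg.Agent.Helper14.GC
  Cfsg.Agent.Helper14.GD Cfsg.Agent.Helper14.GE

section ar

theorem ar_claimB (q β k : ℕ) (hq : 2 ≤ q) (hβ : β ∣ q - 1)
    (hk1 : k ≤ (q + 1) * β) (hk2 : β ∣ k) (hbig : q * (q - 1) < k) :
    β = q - 1 ∧ k = (q + 1) * (q - 1) := by
  obtain ⟨s, rfl⟩ : ∃ s, q = s + 1 := ⟨q - 1, by omega⟩
  rw [Nat.add_sub_cancel] at hβ hbig ⊢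
  obtain ⟨m, hm⟩ := hβ
  obtain ⟨j, hj⟩ := hk2
  have hs1 : 1 ≤ s := by omega
  have hm0 : m ≠ 0 := by
    rintro rfl
    rw [mul_zero] at hm
    omega
  have hβ0 : 0 < β := by
    rcases Nat.eq_zero_or_pos β with h | h
    · rw [h, zero_mul] at hj
      omega
    · exact h
  have hm1 : m = 1 := by
    by_contra hne
    have hm2 : 2 ≤ m := by omega
    have h1 : β * 2 ≤ s := by
      rw [hm]
      exact Nat.mul_le_mul_left β hm2
    have h2 : (s + 1 + 1) * (β * 2) ≤ (s + 1 + 1) * s := Nat.mul_le_mul_left _ h1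
    have h3 : (s + 1 + 1) * (β * 2) = 2 * ((s + 1 + 1) * β) := by ring
    have h4 : (s + 1 + 1) * s = (s + 1) * s + s := by ring
    have h5 : s ≤ (s + 1) * s := Nat.le_mul_of_pos_left s (by omega)
    omega
  subst hm1
  rw [mul_one] at hm
  subst hm
  have hj1 : j = s + 2 := by
    have h1 : j ≤ s + 2 := by
      by_contra hcon
      push Not at hcon
      have h2 : s * (s + 3) ≤ s * j := Nat.mul_le_mul_left s hcon
      have h3 : s * (s + 3) = (s + 1 + 1) * s + s := by ring
      omega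
    have h2 : s + 1 < j := by
      by_contra hcon
      push Not at hcon
      have h2 : s * j ≤ s * (s + 1) := Nat.mul_le_mul_left s hcon
      have h3 : s * (s + 1) = (s + 1) * s := by ring
      omega
    omega
  subst hj1
  exact ⟨rfl, by rw [hj]; ring⟩

theorem ar_one (k cb Cb : ℕ) (h2 : 2 ≤ cb) (h : k * (cb - 1) = Cb * cb) (hs : Cb + 1 = k) :
    cb = k := by
  obtain ⟨e, rfl⟩ : ∃ e, cb = e + 1 := ⟨cb - 1, by omega⟩
  rw [Nat.add_sub_cancel, ← hs] at h
  have h' : Cb * e + e = Cb * e + Cb := by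
    calc Cb * e + e = (Cb + 1) * e := by ring
      _ = Cb * (e + 1) := h
      _ = Cb * e + Cb := by ring
  omega

end ar

variable {F : Type*} [Field F]

local notation "SL2" => Matrix.SpecialLinearGroup (Fin 2) F
local notation "M2" => Matrix (Fin 2) (Fin 2) F

theorem abel_small [Fintype F] (M : Subgroup SL2) (B : Subgroup M) (hB : B.index ≤ 2)
    (hcomm : ∀ a ∈ B, ∀ b ∈ B, a * b = b * a) : Nat.card M ≤ 4 * Fintype.card F := by
  have hex : ∃ b : SL2, NS (b : M2) ∧ ∀ x ∈ B, ((x : M) : SL2) * b = b * ((x : M) : SL2) := by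
    by_cases h : ∃ x ∈ B, NS (((x : M) : SL2) : M2)
    · obtain ⟨x, hx, hns⟩ := h
      refine ⟨(x : SL2), hns, fun y hy => ?_⟩
      exact congrArg Subtype.val (hcomm y hy x hx)
    · push Not at h
      refine ⟨xe 1, ?_, fun y hy => ?_⟩
      · right
        left
        rw [xe_01]
        exact one_ne_zero
      · rcases scalar_of_not_NS (y : SL2) (h y hy) with h1 | h1
        · rw [h1, one_mul, mul_one]
        · rw [h1]
          exact negOne_comm _
  obtain ⟨b, hns, hb⟩ := hex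
  have hle : Nat.card B ≤ Nat.card (Subgroup.centralizer ({b} : Set SL2)) := by
    apply Nat.card_le_card_of_injective (fun x : B => (⟨((x : M) : SL2), by
      rw [Subgroup.mem_centralizer_singleton_iff]
      exact hb x.1 x.2⟩ : Subgroup.centralizer ({b} : Set SL2)))
    intro x y hxy
    apply Subtype.ext
    apply Subtype.ext
    exact congrArg (fun c : Subgroup.centralizer ({b} : Set SL2) => (c : SL2)) hxy
  have h2 := card_cent_le b hns
  have h3 := Subgroup.card_mul_index B
  rw [← h3]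
  calc Nat.card B * B.index ≤ (2 * Fintype.card F) * 2 := Nat.mul_le_mul (hle.trans h2) hB
    _ = 4 * Fintype.card F := by ring

theorem big_pp_odd [Fintype F] (hodd : Odd (Fintype.card F)) (p : ℕ) [Fact p.Prime]
    [CharP F p] (hq13 : 13 ≤ Fintype.card F) (M : Subgroup SL2) (hneg : negOne ∈ M)
    (hp : ¬ p ∣ Nat.card M) : Nat.card M ≤ Fintype.card F * (Fintype.card F - 1) := by
  have H := hyp_of hodd M hneg (h1_of_coprime hodd p M hp)
  obtain ⟨s, hs⟩ : ∃ s, Fintype.card F = s + 13 := ⟨Fintype.card F - 13, by omega⟩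
  have e : s + 13 - 1 = s + 12 := by omega
  have h156 : 13 * 12 ≤ (s + 13) * (s + 12) := Nat.mul_le_mul (by omega) (by omega)
  have h4 : (s + 13) * 4 ≤ (s + 13) * (s + 12) := Nat.mul_le_mul_left _ (by omega)
  rw [hs, e]
  rcases Cfsg.Agent.Helper14.ClassEq.main_abs H with ⟨B, hB, hcomm⟩ | h | h | h
  · have h5 := abel_small M B hB hcomm
    rw [hs] at h5
    omega
  · rw [h]
    omega
  · rw [h]
    omega
  · rw [h]
    omega

theorem beta_dvd_of_no_xe [Fintype F] (M : Subgroup SL2) (hcon : ∀ v : F, v ≠ 0 → xe v ∉ M) :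
    Nat.card (borM M) ∣ Fintype.card F - 1 := by
  have hP : Nat.card {v : F // xe v ∈ M} ≤ 1 := by
    haveI : Subsingleton {v : F // xe v ∈ M} := by
      constructor
      intro a b
      apply Subtype.ext
      have ha : a.1 = 0 := by
        by_contra h
        exact hcon a.1 h a.2
      have hb : b.1 = 0 := by
        by_contra h
        exact hcon b.1 h b.2
      rw [ha, hb]
    exact Finite.card_le_one_iff_subsingleton.mpr inferInstance
  have hker : Nat.card (d00 M).ker = 1 := by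
    have h1 := ker_le M
    have h2 : 0 < Nat.card (d00 M).ker := Nat.card_pos
    omega
  have hβ := card_borM M
  rw [hker, one_mul] at hβ
  have hdvd : Nat.card (d00 M).range ∣ Fintype.card F - 1 := by
    have h := Subgroup.card_subgroup_dvd_card (d00 M).range
    rwa [Nat.card_units, Nat.card_eq_fintype_card (α := F)] at h
  rw [← hβ] at hdvd
  exact hdvd

theorem cls_data_odd [Fintype F] (h2 : (2 : F) = 0) (M : Subgroup SL2) [Fintype M]
    (hneg : negOne ∈ M) (hodd : ¬ 2 ∣ Fintype.card M) (w : M)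
    (hw : Good (⟨negOne, hneg⟩ : M) w) :
    2 ≤ Nat.card (Subgroup.centralizer {w}) ∧
      Fintype.card M * (Nat.card (Subgroup.centralizer {w}) - 1) =
        (cls (⟨negOne, hneg⟩ : M) w).card * Nat.card (Subgroup.centralizer {w}) := by
  have H := hyp0n M hneg
  have htr : ((w : SL2) : M2).trace ≠ 0 := by
    intro h
    have hsq := sq_of_tr_zero h2 (w : SL2) h
    have ho : orderOf w = 2 :=
      orderOf_eq_prime (by rw [pow_two]; exact Subtype.ext hsq) hw.1
    apply hodd
    have hd := orderOf_dvd_natCard w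
    rw [ho, Nat.card_eq_fintype_card] at hd
    exact hd
  have hge := cent_ge M hneg w hw
  rw [zcard_one h2 M hneg] at hge
  have hdc := double_count_z H hw
  rw [zcard_one h2 M hneg] at hdc
  have hle := norm_card_le H hw (a2_of2 h2 M w htr)
  have hdvd : Nat.card (Subgroup.centralizer {w}) ∣
      Nat.card (Subgroup.normalizer ((Subgroup.centralizer {w} : Subgroup M) : Set M)) :=
    Subgroup.card_dvd_of_le Subgroup.le_normalizer
  have hnd : Nat.card (Subgroup.normalizer ((Subgroup.centralizer {w} : Subgroup M) : Set M)) ∣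
      Fintype.card M := by
    rw [← Nat.card_eq_fintype_card]
    exact Subgroup.card_subgroup_dvd_card _
  have hpos : 0 < Nat.card (Subgroup.normalizer ((Subgroup.centralizer {w} : Subgroup M) : Set M)) :=
    Nat.card_pos
  obtain ⟨c, hc⟩ : ∃ c, c = Nat.card (Subgroup.centralizer {w}) := ⟨_, rfl⟩
  obtain ⟨n, hn⟩ : ∃ n, n =
      Nat.card (Subgroup.normalizer ((Subgroup.centralizer {w} : Subgroup M) : Set M)) := ⟨_, rfl⟩
  rw [← hc, ← hn] at hle hdvd hdc
  rw [← hn] at hpos hnd
  rw [← hc] at hge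
  rw [← hc]
  obtain ⟨j, hj⟩ := hdvd
  have hj0 : j ≠ 0 := by
    rintro rfl
    rw [mul_zero] at hj
    omega
  have hj2 : j ≤ 2 := by
    by_contra hcon
    push Not at hcon
    have := Nat.mul_le_mul_left c (Nat.succ_le_of_lt hcon)
    rw [← hj] at this
    omega
  have hj2' : j ≠ 2 := by
    rintro rfl
    apply hodd
    exact dvd_trans ⟨c, by rw [hj, mul_comm]⟩ hnd
  have hj1 : j = 1 := by omega
  subst hj1
  rw [mul_one] at hj
  rw [hj] at hdc
  exact ⟨by omega, hdc⟩

set_option maxHeartbeats 1000000 in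
theorem big_pp_even [Fintype F] (h2 : (2 : F) = 0) (hq4 : 4 ≤ Fintype.card F)
    (M : Subgroup SL2) (hodd : ¬ 2 ∣ Nat.card M) :
    Nat.card M ≤ Fintype.card F * (Fintype.card F - 1) := by
  haveI : Fintype M := Fintype.ofFinite M
  by_contra hbig
  push Not at hbig
  have hneg : negOne ∈ M := by
    rw [negOne_eq_one h2]
    exact M.one_mem
  have H := hyp0n M hneg
  have hz := zcard_one h2 M hneg
  have hoddF : ¬ 2 ∣ Fintype.card M := by rwa [← Nat.card_eq_fintype_card]
  have hcon : ∀ v : F, v ≠ 0 → xe v ∉ M := by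
    intro v hv hmem
    apply hodd
    have ho : orderOf (⟨xe v, hmem⟩ : M) = 2 := by
      apply orderOf_eq_prime
      · apply Subtype.ext
        show (xe v : SL2) ^ 2 = 1
        rw [pow_two, xe_add]
        have : v + v = 0 := by linear_combination v * h2
        rw [this, xe_zero]
      · intro h
        have h' := congrArg (fun x : M => ((x : SL2) : M2) 0 1) h
        simp only [xe_01] at h'
        apply hv
        rw [h']
        simp
    have hd := orderOf_dvd_natCard (⟨xe v, hmem⟩ : M)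
    rw [ho] at hd
    exact hd
  have hdvd := beta_dvd_of_no_xe M hcon
  obtain ⟨hβeq, hkeq⟩ := ar_claimB (Fintype.card F) (Nat.card (borM M)) (Nat.card M)
    (by omega) hdvd (pt_bound M) (Subgroup.card_subgroup_dvd_card (borM M)) hbig
  have hβ3 : 1 < Nat.card (borM M) := by
    rw [hβeq]
    omega
  haveI : Nontrivial (borM M) := Finite.one_lt_card_iff_nontrivial.mp hβ3
  obtain ⟨b', hb'⟩ := exists_ne (1 : borM M)
  obtain ⟨b, hbdef⟩ : ∃ b : M, b = (b' : M) := ⟨_, rfl⟩
  have hb10 : ((b : SL2) : M2) 1 0 = 0 := by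
    rw [hbdef]
    exact (mem_borM M _).mp b'.2
  have hb1 : b ≠ 1 := by
    rw [hbdef]
    intro h
    exact hb' (Subtype.ext h)
  have hbd := upper_diag (b : SL2) hb10
  have hb00 : ((b : SL2) : M2) 0 0 ≠ 1 := by
    intro h
    have hform := upper_one_form (b : SL2) hb10 h
    by_cases hv : ((b : SL2) : M2) 0 1 = 0
    · apply hb1
      apply Subtype.ext
      rw [hform, hv, xe_zero]
      rfl
    · apply hcon _ hv
      rw [← hform]
      exact b.2
  have hbne : ((b : SL2) : M2) 0 0 ≠ ((b : SL2) : M2) 1 1 := by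
    intro h
    rw [← h] at hbd
    apply hb00
    have h5 : (((b : SL2) : M2) 0 0 - 1) ^ 2 = 0 := by
      linear_combination hbd + (1 - ((b : SL2) : M2) 0 0) * h2
    exact sub_eq_zero.mp ((pow_eq_zero_iff (two_ne_zero)).mp h5)
  have hgb : Good (⟨negOne, hneg⟩ : M) b := by
    refine ⟨hb1, ?_⟩
    intro h
    apply hb1
    rw [h]
    exact Subtype.ext (negOne_eq_one h2)
  have hcb : Nat.card (Subgroup.centralizer {b}) ≤ Nat.card (borM M) := by
    apply Nat.card_le_card_of_injective (fun c : Subgroup.centralizer {b} => (⟨(c : M), by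
      rw [mem_borM]
      have hc := c.2
      rw [Subgroup.mem_centralizer_singleton_iff] at hc
      exact comm_upper (b : SL2) ((c : M) : SL2) hb10 hbne (congrArg Subtype.val hc)⟩ : borM M))
    intro x y hxy
    apply Subtype.ext
    exact congrArg (fun c : borM M => (c : M)) hxy
  obtain ⟨hcb2, hdcb⟩ := cls_data_odd h2 M hneg hoddF b hgb
  obtain ⟨k, hkdef⟩ : ∃ k : ℕ, k = Fintype.card M := ⟨_, rfl⟩
  obtain ⟨cb, hcbdef⟩ : ∃ cb : ℕ, cb = Nat.card (Subgroup.centralizer {b}) := ⟨_, rfl⟩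
  obtain ⟨Cb, hCbdef⟩ : ∃ Cb : ℕ, Cb = (cls (⟨negOne, hneg⟩ : M) b).card := ⟨_, rfl⟩
  rw [← hkdef, ← hcbdef, ← hCbdef] at hdcb
  rw [← hcbdef] at hcb2 hcb
  rw [Nat.card_eq_fintype_card, ← hkdef] at hbig hkeq
  have hkb := cls_half k cb 1 Cb (by omega) (by omega) hdcb
  by_cases hex : ∃ w : M, Good (⟨negOne, hneg⟩ : M) w ∧ ¬ Rel b w
  · obtain ⟨w, hw, hrw⟩ := hex
    obtain ⟨hcw2, hdcw⟩ := cls_data_odd h2 M hneg hoddF w hw
    obtain ⟨cw, hcwdef⟩ : ∃ cw : ℕ, cw = Nat.card (Subgroup.centralizer {w}) := ⟨_, rfl⟩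
    obtain ⟨Cw, hCwdef⟩ : ∃ Cw : ℕ, Cw = (cls (⟨negOne, hneg⟩ : M) w).card := ⟨_, rfl⟩
    rw [← hkdef, ← hcwdef, ← hCwdef] at hdcw
    rw [← hcwdef] at hcw2
    have hkw := cls_half k cw 1 Cw (by omega) (by omega) hdcw
    have hGood1 : ∀ x ∈ ({b} : Finset M), Good (⟨negOne, hneg⟩ : M) x := by
      intro x hx
      rw [Finset.mem_singleton] at hx
      rw [hx]
      exact hgb
    have hpw1 : ∀ x ∈ ({b} : Finset M), ∀ y ∈ ({b} : Finset M), x ≠ y → ¬ Rel x y := by
      intro x hx y hy hxy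
      rw [Finset.mem_singleton] at hx hy
      exact absurd (hx.trans hy.symm) hxy
    have hmem1 : ∀ x ∈ ({b} : Finset M), ¬ Rel x w := by
      intro x hx
      rw [Finset.mem_singleton] at hx
      rw [hx]
      exact hrw
    obtain ⟨hwS, hGood2, hpw2⟩ := pw_insert _ w hw hGood1 hpw1 hmem1
    have hsum := sum_le_z H _ hGood2 hpw2
    rw [Finset.sum_insert hwS, Finset.sum_singleton, hz, ← hCbdef, ← hCwdef, ← hkdef] at hsum
    omega
  · push Not at hex
    have hGood1 : ∀ x ∈ ({b} : Finset M), Good (⟨negOne, hneg⟩ : M) x := by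
      intro x hx
      rw [Finset.mem_singleton] at hx
      rw [hx]
      exact hgb
    have hpw1 : ∀ x ∈ ({b} : Finset M), ∀ y ∈ ({b} : Finset M), x ≠ y → ¬ Rel x y := by
      intro x hx y hy hxy
      rw [Finset.mem_singleton] at hx hy
      exact absurd (hx.trans hy.symm) hxy
    have hall : ∀ w : M, Good (⟨negOne, hneg⟩ : M) w → ∃ x ∈ ({b} : Finset M), Rel x w :=
      fun w hw => ⟨b, Finset.mem_singleton_self _, hex w hw⟩
    have hsum := sum_eq_z H _ hGood1 hpw1 hall
    rw [Finset.sum_singleton, hz, ← hCbdef, ← hkdef] at hsum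
    have hck := ar_one k cb Cb hcb2 hdcb hsum
    rw [hβeq] at hcb
    have h6 : Fintype.card F - 1 ≤ Fintype.card F * (Fintype.card F - 1) :=
      Nat.le_mul_of_pos_left _ (by omega)
    omega

end Cfsg.Agent.Helper14.GF
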