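import Mathlib
import Cfsg.Agent.Helper14.GF
import Cfsg.Agent.Helper4.Dih

set_option autoImplicit false

namespace Cfsg.Agent.Helper14.HA

open Classical

open Cfsg.Agent.Helper14.Mat2 Cfsg.Agent.Helper14.SL2Odd Cfsg.Agent.Helper14.PSL2
  Cfsg.Agent.Helper14.SL2Conj Cfsg.Agent.Helper14.Torus Cfsg.Agent.Helper14.TorusB
  Cfsg.Agent.Helper14.TorusC Cfsg.Agent.Helper14.TorusD Cfsg.Agent.Helper14.TorusE
  Cfsg.Agent.Helper14.SL2T Cfsg.Agent.Helper14.SubA Cfsg.Agent.Helper14.SubD
  Cfsg.Agent.Helper14.CE3 Cfsg.Agent.Helper14.A4Sub Cfsg.Agent.Helper14.EvA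
  Cfsg.Agent.Helper14.DA Cfsg.Agent.Helper14.DB Cfsg.Agent.Helper14.DC
  Cfsg.Agent.Helper14.DF
  Cfsg.Agent.Helper14.DI Cfsg.Agent.Helper14.GA Cfsg.Agent.Helper14.GB Cfsg.Agent.Helper14.GC
  Cfsg.Agent.Helper14.GD Cfsg.Agent.Helper14.GE Cfsg.Agent.Helper14.GF

variable {F : Type*} [Field F]

local notation "SL2" => Matrix.SpecialLinearGroup (Fin 2) F
local notation "M2" => Matrix (Fin 2) (Fin 2) F

theorem sq_surj [Fintype F] (h2 : (2 : F) = 0) (a : F) : ∃ s : F, s ^ 2 = a := by
  have hinj : Function.Injective (fun x : F => x ^ 2) := by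
    intro x y hxy
    have hxy' : x ^ 2 = y ^ 2 := hxy
    have h : (x - y) ^ 2 = 0 := by
      linear_combination hxy' + (y ^ 2 - x * y) * h2
    exact sub_eq_zero.mp ((pow_eq_zero_iff (two_ne_zero)).mp h)
  exact (Finite.injective_iff_surjective.mp hinj) a

def Qf (τ : F) (p : F × F) : F := p.1 ^ 2 + τ * p.1 * p.2 + p.2 ^ 2

noncomputable def Sf [Fintype F] (τ a : F) : Finset (F × F) :=
  Finset.univ.filter (fun p => Qf τ p = a)

theorem mem_Sf [Fintype F] (τ a : F) (p : F × F) : p ∈ Sf τ a ↔ Qf τ p = a := by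
  unfold Sf
  simp

theorem card_conic [Fintype F] (τ : F) :
    Nat.card {p : F × F // Qf τ p = 1} = (Sf τ 1).card := by
  rw [Nat.card_congr (Equiv.subtypeEquivRight (fun p => (mem_Sf τ 1 p).symm)),
    Nat.card_eq_fintype_card, Fintype.card_coe]

theorem conic_count [Fintype F] (h2 : (2 : F) = 0) (τ : F) (hτ : τ ≠ 0) :
    Nat.card {p : F × F // Qf τ p = 1} = Fintype.card F - 1 ∨
      Nat.card {p : F × F // Qf τ p = 1} = Fintype.card F + 1 := by
  have hq1 : 1 < Fintype.card F := Fintype.one_lt_card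
  have htot : Fintype.card F * Fintype.card F = ∑ a : F, (Sf τ a).card := by
    have h := Finset.card_eq_sum_card_fiberwise (f := Qf τ)
      (s := (Finset.univ : Finset (F × F)))
      (t := (Finset.univ : Finset F)) (fun x _ => Finset.mem_coe.mpr (Finset.mem_univ _))
    rw [Finset.card_univ, Fintype.card_prod] at h
    rw [h]
    rfl
  have hfib : ∀ a ∈ (Finset.univ : Finset F).erase 0, (Sf τ a).card = (Sf τ 1).card := by
    intro a ha
    have ha0 : a ≠ 0 := (Finset.mem_erase.mp ha).1
    obtain ⟨s, hs⟩ := sq_surj h2 a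
    have hs0 : s ≠ 0 := by
      rintro rfl
      apply ha0
      rw [← hs]
      ring
    symm
    apply Finset.card_bij (fun p _ => (s * p.1, s * p.2))
    · intro p hp
      rw [mem_Sf] at hp ⊢
      have hp' : p.1 ^ 2 + τ * p.1 * p.2 + p.2 ^ 2 = 1 := hp
      show (s * p.1) ^ 2 + τ * (s * p.1) * (s * p.2) + (s * p.2) ^ 2 = a
      rw [← hs]
      linear_combination s ^ 2 * hp'
    · intro p _ p' _ h
      have h1 : s * p.1 = s * p'.1 := congrArg Prod.fst h
      have h2' : s * p.2 = s * p'.2 := congrArg Prod.snd h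
      exact Prod.ext (mul_left_cancel₀ hs0 h1) (mul_left_cancel₀ hs0 h2')
    · intro p hp
      rw [mem_Sf] at hp
      have hp' : p.1 ^ 2 + τ * p.1 * p.2 + p.2 ^ 2 = a := hp
      refine ⟨(s⁻¹ * p.1, s⁻¹ * p.2), ?_, ?_⟩
      · rw [mem_Sf]
        show (s⁻¹ * p.1) ^ 2 + τ * (s⁻¹ * p.1) * (s⁻¹ * p.2) + (s⁻¹ * p.2) ^ 2 = 1
        have h3 : (s⁻¹) ^ 2 * a = 1 := by
          rw [← hs]
          field_simp
        linear_combination (s⁻¹) ^ 2 * hp' + h3
      · show (s * (s⁻¹ * p.1), s * (s⁻¹ * p.2)) = p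
        rw [mul_inv_cancel_left₀ hs0, mul_inv_cancel_left₀ hs0]
  have hsum : ∑ a : F, (Sf τ a).card =
      (Sf τ 0).card + (Fintype.card F - 1) * (Sf τ 1).card := by
    rw [← Finset.add_sum_erase Finset.univ (fun a => (Sf τ a).card) (Finset.mem_univ (0 : F))]
    rw [Finset.sum_const_nat hfib, Finset.card_erase_of_mem (Finset.mem_univ _), Finset.card_univ]
  have hE : Fintype.card F * Fintype.card F =
      (Sf τ 0).card + (Fintype.card F - 1) * (Sf τ 1).card := by rw [htot, hsum]
  rw [card_conic]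
  obtain ⟨k, hk⟩ : ∃ k, Fintype.card F = k + 1 := ⟨Fintype.card F - 1, by omega⟩
  have hk0 : 0 < k := by omega
  by_cases hroot : ∃ l : F, l ^ 2 + τ * l + 1 = 0
  · obtain ⟨l, hl⟩ := hroot
    obtain ⟨l', hl'⟩ : ∃ l' : F, l' = -τ - l := ⟨_, rfl⟩
    have hne : l - l' ≠ 0 := by
      rw [hl']
      intro h
      apply hτ
      linear_combination h - l * h2
    have hfac : ∀ p : F × F, Qf τ p = (p.1 - l * p.2) * (p.1 - l' * p.2) := by
      intro p
      unfold Qf
      rw [hl']
      linear_combination (p.2 ^ 2) * hl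
    have hS0 : (Sf τ 0).card + 1 = 2 * Fintype.card F := by
      have hL1 : Sf τ 0 = (Finset.univ.image (fun y : F => (l * y, y))) ∪
          (Finset.univ.image (fun y : F => (l' * y, y))) := by
        ext p
        rw [mem_Sf, hfac, mul_eq_zero, Finset.mem_union, Finset.mem_image, Finset.mem_image]
        constructor
        · rintro (h | h)
          · left
            exact ⟨p.2, Finset.mem_univ _, Prod.ext (sub_eq_zero.mp h).symm rfl⟩
          · right
            exact ⟨p.2, Finset.mem_univ _, Prod.ext (sub_eq_zero.mp h).symm rfl⟩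
        · rintro (⟨y, -, rfl⟩ | ⟨y, -, rfl⟩)
          · left
            simp
          · right
            simp
      have hL2 : (Finset.univ.image (fun y : F => (l * y, y))) ∩
          (Finset.univ.image (fun y : F => (l' * y, y))) = {((0 : F), (0 : F))} := by
        ext p
        rw [Finset.mem_inter, Finset.mem_image, Finset.mem_image, Finset.mem_singleton]
        constructor
        · rintro ⟨⟨y, -, rfl⟩, ⟨y', -, h⟩⟩
          have h2' : y' = y := congrArg Prod.snd h
          have h1 : l' * y' = l * y := congrArg Prod.fst h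
          rw [h2'] at h1
          have hy : y = 0 := by
            have h3 : (l - l') * y = 0 := by linear_combination -h1
            rcases mul_eq_zero.mp h3 with h | h
            · exact absurd h hne
            · exact h
          rw [hy]
          simp
        · intro h
          rw [h]
          exact ⟨⟨0, Finset.mem_univ _, by simp⟩, ⟨0, Finset.mem_univ _, by simp⟩⟩
      have hc1 : (Finset.univ.image (fun y : F => (l * y, y))).card = Fintype.card F := by
        rw [Finset.card_image_of_injective _ (fun a b h => congrArg Prod.snd h), Finset.card_univ]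
      have hc2 : (Finset.univ.image (fun y : F => (l' * y, y))).card = Fintype.card F := by
        rw [Finset.card_image_of_injective _ (fun a b h => congrArg Prod.snd h), Finset.card_univ]
      have h := Finset.card_union_add_card_inter (Finset.univ.image (fun y : F => (l * y, y)))
        (Finset.univ.image (fun y : F => (l' * y, y)))
      rw [← hL1, hL2, Finset.card_singleton, hc1, hc2] at h
      omega
    left
    rw [hk] at hE hS0 ⊢
    rw [Nat.add_sub_cancel] at hE ⊢
    have h5 : k * (Sf τ 1).card = k * k := by nlinarith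
    exact Nat.eq_of_mul_eq_mul_left hk0 h5
  · right
    have hS0 : (Sf τ 0).card = 1 := by
      have h0 : Sf τ 0 = {((0 : F), (0 : F))} := by
        ext p
        rw [mem_Sf, Finset.mem_singleton]
        constructor
        · intro h
          have h' : p.1 ^ 2 + τ * p.1 * p.2 + p.2 ^ 2 = 0 := h
          have hp2 : p.2 = 0 := by
            by_contra hne
            apply hroot
            refine ⟨p.1 / p.2, ?_⟩
            have e : (p.1 / p.2) ^ 2 + τ * (p.1 / p.2) + 1 =
                (p.1 ^ 2 + τ * p.1 * p.2 + p.2 ^ 2) / p.2 ^ 2 := by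
              field_simp
            rw [e, h', zero_div]
          have hp1 : p.1 = 0 := by
            rw [hp2] at h'
            have h3 : p.1 ^ 2 = 0 := by linear_combination h'
            exact (pow_eq_zero_iff (two_ne_zero)).mp h3
          exact Prod.ext hp1 hp2
        · intro h
          rw [h]
          unfold Qf
          simp
      rw [h0, Finset.card_singleton]
    rw [hk] at hE ⊢
    rw [Nat.add_sub_cancel, hS0] at hE
    have h5 : k * (Sf τ 1).card = k * (k + 1 + 1) := by nlinarith
    exact Nat.eq_of_mul_eq_mul_left hk0 h5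

set_option maxHeartbeats 1000000 in
theorem torus_data [Fintype F] (h2 : (2 : F) = 0) (τ : F) (hτ : τ ≠ 0) :
    ∃ A n : SL2, (∀ g : SL2, g * compSL τ = compSL τ * g → g ∈ Subgroup.zpowers A) ∧
      n * A * n⁻¹ = A⁻¹ ∧ n * n = 1 ∧
      (orderOf A = Fintype.card F - 1 ∨ orderOf A = Fintype.card F + 1) := by
  obtain ⟨T, hT⟩ : ∃ T : Subgroup SL2, T = Subgroup.centralizer ({compSL τ} : Set SL2) :=
    ⟨_, rfl⟩
  have hmemT : ∀ g : SL2, g ∈ T ↔ g * compSL τ = compSL τ * g := by
    intro g
    rw [hT]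
    exact Subgroup.mem_centralizer_singleton_iff
  have hdet : ∀ g : SL2, (g : M2) 0 0 * (g : M2) 1 1 - (g : M2) 0 1 * (g : M2) 1 0 = 1 := by
    intro g
    have := g.2
    rw [Matrix.det_fin_two] at this
    exact this
  have hent : ∀ g : SL2, g ∈ T → (g : M2) 0 1 = -(g : M2) 1 0 ∧
      (g : M2) 1 1 = (g : M2) 0 0 + τ * (g : M2) 1 0 := by
    intro g hg
    rw [hmemT] at hg
    have hm : (g : M2) * (compSL τ : M2) = (compSL τ : M2) * (g : M2) := by
      have := congrArg (fun x : SL2 => (x : M2)) hg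
      simpa only [Matrix.SpecialLinearGroup.coe_mul] using this
    rw [coe_compSL] at hm
    have h00 : (g : M2) 0 1 = -(g : M2) 1 0 := by
      have := congrFun (congrFun hm 0) 0
      simpa [comp, Matrix.mul_apply, Fin.sum_univ_two] using this
    have h01 : -(g : M2) 0 0 + (g : M2) 0 1 * τ = -(g : M2) 1 1 := by
      have := congrFun (congrFun hm 0) 1
      simpa [comp, Matrix.mul_apply, Fin.sum_univ_two] using this
    refine ⟨h00, ?_⟩
    linear_combination h01 - τ * h00
  have hcardT : Nat.card T = Nat.card {p : F × F // Qf τ p = 1} := by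
    apply Nat.card_congr
    refine Equiv.ofBijective (fun g : T =>
      (⟨(((g : SL2) : M2) 0 0, ((g : SL2) : M2) 1 0), ?_⟩ : {p : F × F // Qf τ p = 1}))
      ⟨?_, ?_⟩
    · obtain ⟨e1, e2⟩ := hent g g.2
      have hd := hdet (g : SL2)
      rw [e1, e2] at hd
      show ((g : SL2) : M2) 0 0 ^ 2 + τ * ((g : SL2) : M2) 0 0 * ((g : SL2) : M2) 1 0 +
        ((g : SL2) : M2) 1 0 ^ 2 = 1
      linear_combination hd
    · intro g g' h
      have h1 : ((g : SL2) : M2) 0 0 = ((g' : SL2) : M2) 0 0 :=
        congrArg (fun p : {p : F × F // Qf τ p = 1} => p.1.1) h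
      have h2' : ((g : SL2) : M2) 1 0 = ((g' : SL2) : M2) 1 0 :=
        congrArg (fun p : {p : F × F // Qf τ p = 1} => p.1.2) h
      obtain ⟨e1, e2⟩ := hent g g.2
      obtain ⟨e1', e2'⟩ := hent g' g'.2
      apply Subtype.ext
      apply Subtype.ext
      ext i j
      fin_cases i <;> fin_cases j
      · exact h1
      · show ((g : SL2) : M2) 0 1 = ((g' : SL2) : M2) 0 1
        rw [e1, e1', h2']
      · exact h2'
      · show ((g : SL2) : M2) 1 1 = ((g' : SL2) : M2) 1 1
        rw [e2, e2', h1, h2']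
    · rintro ⟨⟨x, y⟩, hp⟩
      have hp' : x ^ 2 + τ * x * y + y ^ 2 = 1 := hp
      refine ⟨⟨mk2 x (-y) y (x + τ * y) (by linear_combination hp'), ?_⟩, ?_⟩
      · rw [hmemT]
        apply Subtype.ext
        rw [Matrix.SpecialLinearGroup.coe_mul, Matrix.SpecialLinearGroup.coe_mul, mk2_coe,
          coe_compSL]
        unfold comp
        rw [Matrix.mul_fin_two, Matrix.mul_fin_two]
        ext i j
        fin_cases i <;> fin_cases j <;> simp <;> ring
      · rfl
  have hcyc : IsCyclic T := by
    have hdeg : (Polynomial.C (1 : AlgebraicClosure F) * Polynomial.X ^ 2 +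
        Polynomial.C (-(algebraMap F (AlgebraicClosure F) τ)) * Polynomial.X +
        Polynomial.C (1 : AlgebraicClosure F)).degree ≠ 0 := by
      rw [Polynomial.degree_quadratic one_ne_zero]
      exact two_ne_zero
    obtain ⟨μ, hμ⟩ := IsAlgClosed.exists_root _ hdeg
    have hμ' : μ ^ 2 - algebraMap F (AlgebraicClosure F) τ * μ + 1 = 0 := by
      have h := hμ
      simp only [Polynomial.IsRoot.def, Polynomial.eval_add, Polynomial.eval_mul,
        Polynomial.eval_pow, Polynomial.eval_C, Polynomial.eval_X] at h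
      linear_combination h
    have h2L : (2 : AlgebraicClosure F) = 0 := by
      have h3 := congrArg (algebraMap F (AlgebraicClosure F)) h2
      rw [map_ofNat, map_zero] at h3
      exact h3
    let f : T →* AlgebraicClosure F :=
      { toFun := fun g => algebraMap F (AlgebraicClosure F) (((g : SL2) : M2) 0 0) +
          algebraMap F (AlgebraicClosure F) (((g : SL2) : M2) 1 0) * μ
        map_one' := by
          show algebraMap F (AlgebraicClosure F) (((1 : SL2) : M2) 0 0) +
            algebraMap F (AlgebraicClosure F) (((1 : SL2) : M2) 1 0) * μ = 1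
          simp
        map_mul' := by
          intro g g'
          obtain ⟨e1, e2⟩ := hent g g.2
          have h00 : (((g * g' : T) : SL2) : M2) 0 0 =
              ((g : SL2) : M2) 0 0 * ((g' : SL2) : M2) 0 0 -
                ((g : SL2) : M2) 1 0 * ((g' : SL2) : M2) 1 0 := by
            rw [Subgroup.coe_mul, Matrix.SpecialLinearGroup.coe_mul, Matrix.mul_apply,
              Fin.sum_univ_two, e1]
            ring
          have h10 : (((g * g' : T) : SL2) : M2) 1 0 =
              ((g : SL2) : M2) 1 0 * ((g' : SL2) : M2) 0 0 +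
                (((g : SL2) : M2) 0 0 + τ * ((g : SL2) : M2) 1 0) * ((g' : SL2) : M2) 1 0 := by
            rw [Subgroup.coe_mul, Matrix.SpecialLinearGroup.coe_mul, Matrix.mul_apply,
              Fin.sum_univ_two, e2]
          show algebraMap F (AlgebraicClosure F) ((((g * g' : T) : SL2) : M2) 0 0) +
            algebraMap F (AlgebraicClosure F) ((((g * g' : T) : SL2) : M2) 1 0) * μ =
            (algebraMap F (AlgebraicClosure F) (((g : SL2) : M2) 0 0) +
              algebraMap F (AlgebraicClosure F) (((g : SL2) : M2) 1 0) * μ) *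
            (algebraMap F (AlgebraicClosure F) (((g' : SL2) : M2) 0 0) +
              algebraMap F (AlgebraicClosure F) (((g' : SL2) : M2) 1 0) * μ)
          rw [h00, h10]
          simp only [map_add, map_sub, map_mul]
          linear_combination (-(algebraMap F (AlgebraicClosure F) (((g : SL2) : M2) 1 0)) *
            algebraMap F (AlgebraicClosure F) (((g' : SL2) : M2) 1 0)) * hμ' }
    have hfinj : Function.Injective f := by
      rw [injective_iff_map_eq_one]
      intro g hg
      have hg' : algebraMap F (AlgebraicClosure F) (((g : SL2) : M2) 0 0) +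
          algebraMap F (AlgebraicClosure F) (((g : SL2) : M2) 1 0) * μ = 1 := hg
      obtain ⟨e1, e2⟩ := hent g g.2
      have hd := hdet (g : SL2)
      rw [e1, e2] at hd
      have hdL := congrArg (algebraMap F (AlgebraicClosure F)) hd
      simp only [map_add, map_sub, map_mul, map_neg, map_one] at hdL
      have hprod : (algebraMap F (AlgebraicClosure F) (((g : SL2) : M2) 0 0) +
          algebraMap F (AlgebraicClosure F) (((g : SL2) : M2) 1 0) * μ) *
          (algebraMap F (AlgebraicClosure F) (((g : SL2) : M2) 0 0) +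
            algebraMap F (AlgebraicClosure F) (((g : SL2) : M2) 1 0) *
              (algebraMap F (AlgebraicClosure F) τ - μ)) = 1 := by
        linear_combination hdL -
          (algebraMap F (AlgebraicClosure F) (((g : SL2) : M2) 1 0)) ^ 2 * hμ'
      rw [hg', one_mul] at hprod
      have hy : algebraMap F (AlgebraicClosure F) (((g : SL2) : M2) 1 0) *
          algebraMap F (AlgebraicClosure F) τ = 0 := by
        linear_combination hprod - hg' +
          algebraMap F (AlgebraicClosure F) (((g : SL2) : M2) 1 0) * μ * h2L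
      have hinjL : Function.Injective (algebraMap F (AlgebraicClosure F)) :=
        (algebraMap F (AlgebraicClosure F)).injective
      have h10 : ((g : SL2) : M2) 1 0 = 0 := by
        have h3 : algebraMap F (AlgebraicClosure F) (((g : SL2) : M2) 1 0 * τ) =
            algebraMap F (AlgebraicClosure F) 0 := by
          rw [map_mul, map_zero]
          exact hy
        rcases mul_eq_zero.mp (hinjL h3) with h | h
        · exact h
        · exact absurd h hτ
      have h00 : ((g : SL2) : M2) 0 0 = 1 := by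
        apply hinjL
        rw [h10, map_zero, zero_mul, add_zero] at hg'
        rw [hg', map_one]
      apply Subtype.ext
      apply Subtype.ext
      ext i j
      fin_cases i <;> fin_cases j <;> simp [h00, h10, e1, e2]
    exact isCyclic_of_subgroup_isDomain f hfinj
  haveI := hcyc
  obtain ⟨A', hA'⟩ := IsCyclic.exists_generator (α := T)
  have hordA : orderOf (A' : SL2) = Nat.card T := by
    rw [Subgroup.orderOf_coe]
    exact orderOf_eq_card_of_forall_mem_zpowers hA'
  have hn : (0 : F) * 0 - 1 * 1 = 1 := by linear_combination (-1 : F) * h2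
  refine ⟨(A' : SL2), mk2 0 1 1 0 hn, ?_, ?_, ?_, ?_⟩
  · intro g hg
    have hgT : g ∈ T := (hmemT g).mpr hg
    obtain ⟨k, hk⟩ := Subgroup.mem_zpowers_iff.mp (hA' ⟨g, hgT⟩)
    rw [Subgroup.mem_zpowers_iff]
    refine ⟨k, ?_⟩
    have := congrArg (fun x : T => (x : SL2)) hk
    simpa using this
  · obtain ⟨e1, e2⟩ := hent (A' : SL2) A'.2
    apply conj_eq
    ext i j
    fin_cases i <;> fin_cases j <;>
      simp [Matrix.SpecialLinearGroup.coe_inv, Matrix.adjugate_fin_two, mk2_coe,
        Matrix.mul_apply, Fin.sum_univ_two, e1]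
  · apply Subtype.ext
    rw [Matrix.SpecialLinearGroup.coe_mul, mk2_coe, Matrix.mul_fin_two]
    ext i j
    fin_cases i <;> fin_cases j <;> simp
  · rw [hordA, hcardT]
    exact conic_count h2 τ hτ

theorem dih_of_norm [Fintype F] [CharP F 2] (h4 : 4 ≤ Fintype.card F)
    (M : Subgroup SL2) (hM : IsCoatom M) (w A n : SL2) (hw : w ∈ M)
    (hτ : (w : M2).trace ≠ 0)
    (hnorm : ∀ m ∈ M, (m * w * m⁻¹) * w = w * (m * w * m⁻¹))
    (hcent : ∀ g : SL2, g * w = w * g → g ∈ Subgroup.zpowers A)
    (hinv : n * A * n⁻¹ = A⁻¹) (hn2 : n * n = 1)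
    (hord : orderOf A ≤ Fintype.card F + 1) :
    Nonempty (M ≃* DihedralGroup (orderOf A)) := by
  have h2 : (2 : F) = 0 := CharTwo.two_eq_zero
  have hwA : w ∈ Subgroup.zpowers A := hcent w rfl
  obtain ⟨k, hk⟩ := Subgroup.mem_zpowers_iff.mp hwA
  have htr0 : ∀ x : SL2, x * x = 1 → (x : M2).trace = 0 := by
    intro x hx
    rw [unip_tr 2 x (by rw [pow_two]; exact hx), h2]
  have hww : w * w ≠ 1 := fun h => hτ (htr0 w h)
  have hAA : A * A ≠ 1 := by
    intro h
    apply hww
    have hA' : A⁻¹ = A := inv_eq_of_mul_eq_one_left h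
    have h3 : w⁻¹ = w := by
      rw [← hk, ← inv_zpow, hA']
    calc w * w = w⁻¹ * w := by rw [h3]
      _ = 1 := inv_mul_cancel w
  have hnw : n * w * n⁻¹ = w⁻¹ := by
    rw [← hk]
    have h3 : n * A ^ k * n⁻¹ = (n * A * n⁻¹) ^ k := by rw [conj_zpow]
    rw [h3, hinv, inv_zpow]
  have hnw' : n * w⁻¹ * n⁻¹ = w := by
    calc n * w⁻¹ * n⁻¹ = (n * w * n⁻¹)⁻¹ := by group
      _ = w := by rw [hnw, inv_inv]
  obtain ⟨D, hD⟩ : ∃ D : Subgroup SL2, D = Subgroup.closure ({n, n * A} : Set SL2) := ⟨_, rfl⟩
  have hnD : n ∈ D := by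
    rw [hD]
    exact Subgroup.subset_closure (Set.mem_insert _ _)
  have hnAD : n * A ∈ D := by
    rw [hD]
    exact Subgroup.subset_closure (Set.mem_insert_of_mem _ rfl)
  have hAD : A ∈ D := by
    have h3 : A = n * (n * A) := by rw [← mul_assoc, hn2, one_mul]
    rw [h3]
    exact D.mul_mem hnD hnAD
  have hzD : Subgroup.zpowers A ≤ D := by
    rw [Subgroup.zpowers_le]
    exact hAD
  have hMD : M ≤ D := by
    intro m hm
    rcases conj_mem_pair2 h2 w (m * w * m⁻¹) hτ (hnorm m hm) (trace_conj m w) with h | h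
    · apply hzD
      apply hcent
      calc m * w = m * w * m⁻¹ * m := by group
        _ = w * m := by rw [h]
    · have hnm : (n * m) * w = w * (n * m) := by
        calc (n * m) * w = n * (m * w * m⁻¹) * m := by group
          _ = n * w⁻¹ * m := by rw [h]
          _ = (n * w⁻¹ * n⁻¹) * (n * m) := by group
          _ = w * (n * m) := by rw [hnw']
      have h1 := hzD (hcent _ hnm)
      have h3 : m = n * (n * m) := by rw [← mul_assoc, hn2, one_mul]
      rw [h3]
      exact D.mul_mem hnD h1
  have hninv : n⁻¹ = n := inv_eq_of_mul_eq_one_left hn2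
  have hnA2 : (n * A) * (n * A) = 1 := by
    calc (n * A) * (n * A) = (n * A * n⁻¹) * A := by rw [hninv]; group
      _ = 1 := by rw [hinv, inv_mul_cancel]
  have hn1 : n ≠ 1 := by
    intro h
    rw [h] at hinv
    exact hAA (mul_eq_one_iff_eq_inv.mpr (by simpa using hinv))
  have hnA1 : n * A ≠ 1 := by
    intro h
    have hA : A = n⁻¹ := eq_inv_of_mul_eq_one_right h
    apply hAA
    calc A * A = n⁻¹ * n⁻¹ := by rw [hA]
      _ = (n * n)⁻¹ := by group
      _ = 1 := by rw [hn2, inv_one]
  have hne : n ≠ n * A := by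
    intro h
    have hA1 : A = 1 := by
      have h3 := congrArg (fun x => n⁻¹ * x) h
      simpa using h3.symm
    apply hAA
    rw [hA1, one_mul]
  have hxy : n * (n * A) = A := by rw [← mul_assoc, hn2, one_mul]
  obtain ⟨e⟩ := Cfsg.Agent.Helper4.closure_pair_mulEquiv_dihedral n (n * A) hn2 hnA2 hn1 hnA1 hne
  rw [hxy, ← hD] at e
  have hDtop : D ≠ ⊤ := by
    intro h
    have hc : Nat.card D = 2 * orderOf A := by
      rw [Nat.card_congr e.toEquiv, DihedralGroup.nat_card]
    rw [h, Subgroup.card_top, card_SL2] at hc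
    have h5 : Fintype.card F + 1 ≤ Fintype.card F ^ 2 - 1 := by
      have h6 : Fintype.card F * 4 ≤ Fintype.card F ^ 2 := by nlinarith
      omega
    have h6 : 4 * (Fintype.card F + 1) ≤ Fintype.card F * (Fintype.card F ^ 2 - 1) :=
      Nat.mul_le_mul h4 h5
    omega
  have hMD' : M = D := by
    by_contra hne'
    exact hDtop (hM.2 D (lt_of_le_of_ne hMD hne'))
  rw [hMD']
  exact ⟨e⟩

theorem dih_main [Fintype F] [CharP F 2] (h4 : 4 ≤ Fintype.card F)
    (M : Subgroup SL2) (hM : IsCoatom M) (w : SL2) (hw : w ∈ M) (hτw : (w : M2).trace ≠ 0)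
    (hnorm : ∀ m ∈ M, (m * w * m⁻¹) * w = w * (m * w * m⁻¹)) :
    Nonempty (M ≃* DihedralGroup (Fintype.card F - 1)) ∨
      Nonempty (M ≃* DihedralGroup (Fintype.card F + 1)) := by
  have h2 : (2 : F) = 0 := CharTwo.two_eq_zero
  have hw1 : w ≠ 1 := by
    intro h
    apply hτw
    rw [h, Matrix.SpecialLinearGroup.coe_one, Matrix.trace_one, Fintype.card_fin]
    exact_mod_cast h2
  have hns : NS (w : M2) := NS_of_char_two h2 w hw1
  obtain ⟨P, hP, hPc⟩ := exists_conj_compSL w hns
  obtain ⟨τ, hτdef⟩ : ∃ τ : F, τ = (w : M2).trace := ⟨_, rfl⟩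
  have hτ : τ ≠ 0 := by
    rw [hτdef]
    exact hτw
  rw [← hτdef] at hPc
  obtain ⟨s, hs⟩ := sq_surj h2 (P.det)⁻¹
  have hdet : (s • P).det = 1 := by
    rw [Matrix.det_smul, Fintype.card_fin, hs, inv_mul_cancel₀ hP]
  obtain ⟨g, hg⟩ : ∃ g : SL2, (g : M2) = s • P := ⟨⟨s • P, hdet⟩, rfl⟩
  have hgw : w * g = g * compSL τ := by
    apply Subtype.ext
    rw [Matrix.SpecialLinearGroup.coe_mul, Matrix.SpecialLinearGroup.coe_mul, hg,
      Matrix.mul_smul, hPc, Matrix.smul_mul]
  obtain ⟨A, n, hcent, hinv, hn2, hord⟩ := torus_data h2 τ hτ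
  have hcent' : ∀ h : SL2, h * w = w * h → h ∈ Subgroup.zpowers (g * A * g⁻¹) := by
    intro h hh
    have e2 : compSL τ = g⁻¹ * w * g := by
      calc compSL τ = g⁻¹ * (g * compSL τ) := by group
        _ = g⁻¹ * (w * g) := by rw [hgw]
        _ = g⁻¹ * w * g := by group
    have hc : (g⁻¹ * h * g) * compSL τ = compSL τ * (g⁻¹ * h * g) := by
      rw [e2]
      calc g⁻¹ * h * g * (g⁻¹ * w * g) = g⁻¹ * (h * w) * g := by group
        _ = g⁻¹ * (w * h) * g := by rw [hh]
        _ = g⁻¹ * w * g * (g⁻¹ * h * g) := by group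
    obtain ⟨k, hk⟩ := Subgroup.mem_zpowers_iff.mp (hcent _ hc)
    rw [Subgroup.mem_zpowers_iff]
    refine ⟨k, ?_⟩
    rw [conj_zpow, hk]
    group
  have hinv' : (g * n * g⁻¹) * (g * A * g⁻¹) * (g * n * g⁻¹)⁻¹ = (g * A * g⁻¹)⁻¹ := by
    calc (g * n * g⁻¹) * (g * A * g⁻¹) * (g * n * g⁻¹)⁻¹ = g * (n * A * n⁻¹) * g⁻¹ := by group
      _ = (g * A * g⁻¹)⁻¹ := by rw [hinv]; group
  have hn2' : (g * n * g⁻¹) * (g * n * g⁻¹) = 1 := by
    calc (g * n * g⁻¹) * (g * n * g⁻¹) = g * (n * n) * g⁻¹ := by group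
      _ = 1 := by rw [hn2]; group
  have hordeq : orderOf (g * A * g⁻¹) = orderOf A := by
    have h3 := MulEquiv.orderOf_eq (MulAut.conj g) A
    rwa [MulAut.conj_apply] at h3
  rcases hord with ho | ho
  · left
    have h3 := dih_of_norm h4 M hM w (g * A * g⁻¹) (g * n * g⁻¹) hw hτw hnorm hcent' hinv' hn2'
      (by rw [hordeq, ho]; omega)
    rw [hordeq, ho] at h3
    exact h3
  · right
    have h3 := dih_of_norm h4 M hM w (g * A * g⁻¹) (g * n * g⁻¹) hw hτw hnorm hcent' hinv' hn2'
      (by rw [hordeq, ho])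
    rw [hordeq, ho] at h3
    exact h3

end Cfsg.Agent.Helper14.HA
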