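import Mathlib
import Cfsg.Agent.Helper14.HA

set_option autoImplicit false

namespace Cfsg.Agent.Helper14.HB

open Classical

open Cfsg.Agent.Helper14.Mat2 Cfsg.Agent.Helper14.SL2Odd Cfsg.Agent.Helper14.PSL2
  Cfsg.Agent.Helper14.SL2Conj Cfsg.Agent.Helper14.Torus Cfsg.Agent.Helper14.TorusB
  Cfsg.Agent.Helper14.TorusC Cfsg.Agent.Helper14.TorusD Cfsg.Agent.Helper14.TorusE
  Cfsg.Agent.Helper14.SL2T Cfsg.Agent.Helper14.SubA Cfsg.Agent.Helper14.SubD
  Cfsg.Agent.Helper14.CE3 Cfsg.Agent.Helper14.A4Sub Cfsg.Agent.Helper14.EvA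
  Cfsg.Agent.Helper14.DA Cfsg.Agent.Helper14.DB Cfsg.Agent.Helper14.DC
  Cfsg.Agent.Helper14.DF
  Cfsg.Agent.Helper14.DI Cfsg.Agent.Helper14.GA Cfsg.Agent.Helper14.GB Cfsg.Agent.Helper14.GC
  Cfsg.Agent.Helper14.GD Cfsg.Agent.Helper14.GE Cfsg.Agent.Helper14.GF Cfsg.Agent.Helper14.HA

section ar

theorem cls_third (k cw C n : ℕ) (h3 : 3 ≤ cw) (h : k * (cw - 1) = C * n) (hn : n ≤ 2 * cw) :
    k ≤ 3 * C := by
  obtain ⟨c, rfl⟩ : ∃ c, cw = c + 3 := ⟨cw - 3, by omega⟩
  have e : c + 3 - 1 = c + 2 := by omega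
  rw [e] at h
  by_contra hcon
  push Not at hcon
  have h1 : (3 * C + 1) * n ≤ k * n := Nat.mul_le_mul_right n (by omega)
  have h2 : k * n ≤ k * (2 * (c + 3)) := Nat.mul_le_mul_left k hn
  have h3' : k * (2 * (c + 3)) ≤ 3 * (k * (c + 2)) := by nlinarith [Nat.zero_le (k * c)]
  rw [h] at h3'
  have h4 : n = 0 := by nlinarith
  rw [h4, mul_zero] at h
  have h5 : k = 0 := by
    rcases Nat.mul_eq_zero.mp h with h5 | h5
    · exact h5
    · omega
  omega

theorem ar_P4 (m' N δ c k Cw : ℕ) (hm : 1 ≤ m') (hN : 2 * m' + 3 ≤ N) (hδ : δ ≤ 2 * m' + 1)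
    (hδ1 : 1 ≤ δ) (hk : k = (2 * (m' + 1)) * δ * N) (hc1 : 1 ≤ c)
    (hc : k * (c - 1) = Cw * (2 * c))
    (h2Cw : 2 * Cw + N * (2 * (m' + 1)) + 2 = k + 2 * N) : N = 2 * m' + 3 ∧ δ = 2 * m' + 1 := by
  obtain ⟨c', rfl⟩ : ∃ c', c = c' + 1 := ⟨c - 1, by omega⟩
  rw [Nat.add_sub_cancel] at hc
  have e2 : (2 * Cw + N * (2 * (m' + 1)) + 2) * (c' + 1) = (k + 2 * N) * (c' + 1) := by
    rw [h2Cw]
  have key : (c' + 1) * (N * m' + 1) = N * ((m' + 1) * δ) := by
    subst hk
    nlinarith [e2, hc]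
  have hcop : Nat.Coprime (N * m' + 1) N := by
    have h1 : Nat.gcd (N * m' + 1) N ∣ N := Nat.gcd_dvd_right _ _
    have h2 : Nat.gcd (N * m' + 1) N ∣ N * m' + 1 := Nat.gcd_dvd_left _ _
    have h3 : Nat.gcd (N * m' + 1) N ∣ 1 :=
      (Nat.dvd_add_right (dvd_mul_of_dvd_left h1 m')).mp h2
    exact Nat.dvd_one.mp h3
  have hdvd : (N * m' + 1) ∣ N * ((m' + 1) * δ) := ⟨c' + 1, by rw [← key]; ring⟩
  have hdvd2 : (N * m' + 1) ∣ (m' + 1) * δ := hcop.dvd_of_dvd_mul_left hdvd
  have hle : N * m' + 1 ≤ (m' + 1) * δ := Nat.le_of_dvd (Nat.mul_pos (by omega) (by omega)) hdvd2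
  have h1 : (m' + 1) * δ ≤ (m' + 1) * (2 * m' + 1) := Nat.mul_le_mul_left _ hδ
  have h2 : (2 * m' + 3) * m' ≤ N * m' := Nat.mul_le_mul_right _ hN
  have h3 : N * m' = (2 * m' + 3) * m' := by nlinarith
  have hN' : N = 2 * m' + 3 := Nat.eq_of_mul_eq_mul_right (by omega) h3
  have h4 : (m' + 1) * δ = (m' + 1) * (2 * m' + 1) := by nlinarith
  exact ⟨hN', Nat.eq_of_mul_eq_mul_left (by omega) h4⟩

end ar

section sums

variable {K : Type*} [Group K] [Fintype K]

theorem single_data {z : K} (x : K) (hx : Good z x) :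
    (∀ t ∈ ({x} : Finset K), Good z t) ∧
      (∀ t ∈ ({x} : Finset K), ∀ t' ∈ ({x} : Finset K), t ≠ t' → ¬ Rel t t') := by
  constructor
  · intro t ht
    rw [Finset.mem_singleton] at ht
    rw [ht]
    exact hx
  · intro t ht t' ht' hne
    rw [Finset.mem_singleton] at ht ht'
    exact absurd (ht.trans ht'.symm) hne

theorem sum1 {z : K} (H : Hyp0 z) (x : K) (hx : Good z x) :
    (∃ w, Good z w ∧ ¬ Rel x w) ∨ (cls z x).card + (zfin z).card = Fintype.card K := by
  by_cases hex : ∃ w, Good z w ∧ ¬ Rel x w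
  · exact Or.inl hex
  · right
    push Not at hex
    obtain ⟨hG, hpw⟩ := single_data (z := z) x hx
    have hall : ∀ w : K, Good z w → ∃ t ∈ ({x} : Finset K), Rel t w :=
      fun w hw => ⟨x, Finset.mem_singleton_self _, hex w hw⟩
    have hsum := sum_eq_z H _ hG hpw hall
    rwa [Finset.sum_singleton] at hsum

theorem sum2 {z : K} (H : Hyp0 z) (x y : K) (hx : Good z x) (hy : Good z y)
    (hxy : ¬ Rel x y) :
    (cls z x).card + (cls z y).card + (zfin z).card ≤ Fintype.card K ∧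
    ((∃ w, Good z w ∧ ¬ Rel x w ∧ ¬ Rel y w) ∨
      (cls z x).card + (cls z y).card + (zfin z).card = Fintype.card K) := by
  obtain ⟨hG, hpw⟩ := single_data (z := z) x hx
  have hm : ∀ t ∈ ({x} : Finset K), ¬ Rel t y := by
    intro t ht
    rw [Finset.mem_singleton] at ht
    rw [ht]
    exact hxy
  obtain ⟨hyS, hG2, hpw2⟩ := pw_insert _ y hy hG hpw hm
  constructor
  · have hsum := sum_le_z H _ hG2 hpw2
    rw [Finset.sum_insert hyS, Finset.sum_singleton] at hsum
    omega
  · by_cases hex : ∃ w, Good z w ∧ ¬ Rel x w ∧ ¬ Rel y w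
    · exact Or.inl hex
    · right
      push Not at hex
      have hall : ∀ w : K, Good z w → ∃ t ∈ insert y ({x} : Finset K), Rel t w := by
        intro w hw
        by_cases h1 : Rel x w
        · exact ⟨x, Finset.mem_insert_of_mem (Finset.mem_singleton_self _), h1⟩
        · exact ⟨y, Finset.mem_insert_self _ _, hex w hw h1⟩
      have hsum := sum_eq_z H _ hG2 hpw2 hall
      rw [Finset.sum_insert hyS, Finset.sum_singleton] at hsum
      omega

theorem sum3 {z : K} (H : Hyp0 z) (x y w : K) (hx : Good z x) (hy : Good z y) (hw : Good z w)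
    (hxy : ¬ Rel x y) (hxw : ¬ Rel x w) (hyw : ¬ Rel y w) :
    (cls z x).card + (cls z y).card + (cls z w).card + (zfin z).card ≤ Fintype.card K ∧
    ((∃ w', Good z w' ∧ ¬ Rel x w' ∧ ¬ Rel y w' ∧ ¬ Rel w w') ∨
      (cls z x).card + (cls z y).card + (cls z w).card + (zfin z).card = Fintype.card K) := by
  obtain ⟨hG, hpw⟩ := single_data (z := z) x hx
  have hm : ∀ t ∈ ({x} : Finset K), ¬ Rel t y := by
    intro t ht
    rw [Finset.mem_singleton] at ht
    rw [ht]
    exact hxy
  obtain ⟨hyS, hG2, hpw2⟩ := pw_insert _ y hy hG hpw hm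
  have hm2 : ∀ t ∈ insert y ({x} : Finset K), ¬ Rel t w := by
    intro t ht
    rcases Finset.mem_insert.mp ht with h | h
    · rw [h]
      exact hyw
    · rw [Finset.mem_singleton] at h
      rw [h]
      exact hxw
  obtain ⟨hwS, hG3, hpw3⟩ := pw_insert _ w hw hG2 hpw2 hm2
  constructor
  · have hsum := sum_le_z H _ hG3 hpw3
    rw [Finset.sum_insert hwS, Finset.sum_insert hyS, Finset.sum_singleton] at hsum
    omega
  · by_cases hex : ∃ w', Good z w' ∧ ¬ Rel x w' ∧ ¬ Rel y w' ∧ ¬ Rel w w'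
    · exact Or.inl hex
    · right
      push Not at hex
      have hall : ∀ u : K, Good z u → ∃ t ∈ insert w (insert y ({x} : Finset K)), Rel t u := by
        intro u hu
        by_cases h1 : Rel x u
        · exact ⟨x, Finset.mem_insert_of_mem (Finset.mem_insert_of_mem
            (Finset.mem_singleton_self _)), h1⟩
        · by_cases h2 : Rel y u
          · exact ⟨y, Finset.mem_insert_of_mem (Finset.mem_insert_self _ _), h2⟩
          · exact ⟨w, Finset.mem_insert_self _ _, hex u hu h1 h2⟩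
      have hsum := sum_eq_z H _ hG3 hpw3 hall
      rw [Finset.sum_insert hwS, Finset.sum_insert hyS, Finset.sum_singleton] at hsum
      omega

theorem sum4 {z : K} (H : Hyp0 z) (x y w w' : K) (hx : Good z x) (hy : Good z y)
    (hw : Good z w) (hw' : Good z w')
    (hxy : ¬ Rel x y) (hxw : ¬ Rel x w) (hyw : ¬ Rel y w)
    (hxw' : ¬ Rel x w') (hyw' : ¬ Rel y w') (hww' : ¬ Rel w w') :
    (cls z x).card + (cls z y).card + (cls z w).card + (cls z w').card + (zfin z).card ≤
      Fintype.card K := by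
  obtain ⟨hG, hpw⟩ := single_data (z := z) x hx
  have hm : ∀ t ∈ ({x} : Finset K), ¬ Rel t y := by
    intro t ht
    rw [Finset.mem_singleton] at ht
    rw [ht]
    exact hxy
  obtain ⟨hyS, hG2, hpw2⟩ := pw_insert _ y hy hG hpw hm
  have hm2 : ∀ t ∈ insert y ({x} : Finset K), ¬ Rel t w := by
    intro t ht
    rcases Finset.mem_insert.mp ht with h | h
    · rw [h]
      exact hyw
    · rw [Finset.mem_singleton] at h
      rw [h]
      exact hxw
  obtain ⟨hwS, hG3, hpw3⟩ := pw_insert _ w hw hG2 hpw2 hm2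
  have hm3 : ∀ t ∈ insert w (insert y ({x} : Finset K)), ¬ Rel t w' := by
    intro t ht
    rcases Finset.mem_insert.mp ht with h | h
    · rw [h]
      exact hww'
    · rcases Finset.mem_insert.mp h with h | h
      · rw [h]
        exact hyw'
      · rw [Finset.mem_singleton] at h
        rw [h]
        exact hxw'
  obtain ⟨hwS', hG4, hpw4⟩ := pw_insert _ w' hw' hG3 hpw3 hm3
  have hsum := sum_le_z H _ hG4 hpw4
  rw [Finset.sum_insert hwS', Finset.sum_insert hwS, Finset.sum_insert hyS,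
    Finset.sum_singleton] at hsum
  omega

end sums

variable {F : Type*} [Field F]

local notation "SL2" => Matrix.SpecialLinearGroup (Fin 2) F
local notation "M2" => Matrix (Fin 2) (Fin 2) F

/-- the target property -/
def Target [Fintype F] (M : Subgroup SL2) : Prop :=
  Nat.card M = Fintype.card F * (Fintype.card F - 1) ∨
  Nonempty (M ≃* DihedralGroup (Fintype.card F - 1)) ∨
  Nonempty (M ≃* DihedralGroup (Fintype.card F + 1)) ∨
  (∃ (F₀ : Type) (_ : Field F₀) (_ : Fintype F₀) (r : ℕ), r.Prime ∧ Fintype.card F₀ ≠ 2 ∧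
      Fintype.card F = Fintype.card F₀ ^ r ∧
      Nonempty (M ≃* Matrix.SpecialLinearGroup (Fin 2) F₀))

theorem target_conj [Fintype F] (M : Subgroup SL2) (g : SL2)
    (h : Target (M.map (MulAut.conj g).toMonoidHom)) : Target M := by
  have e : M ≃* M.map (MulAut.conj g).toMonoidHom :=
    M.equivMapOfInjective _ (MulAut.conj g).injective
  rcases h with h | h | h | ⟨F₀, i1, i2, r, hr, h2, hc, h⟩
  · left
    rw [Nat.card_congr e.toEquiv]
    exact h
  · obtain ⟨e1⟩ := h
    right; left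
    exact ⟨e.trans e1⟩
  · obtain ⟨e1⟩ := h
    right; right; left
    exact ⟨e.trans e1⟩
  · obtain ⟨e1⟩ := h
    right; right; right
    exact ⟨F₀, i1, i2, r, hr, h2, hc, ⟨e.trans e1⟩⟩

theorem coatom_conj (M : Subgroup SL2) (g : SL2) (hM : IsCoatom M) :
    IsCoatom (M.map (MulAut.conj g).toMonoidHom) := by
  have h := (OrderIso.isCoatom_iff (MulEquiv.mapSubgroup (MulAut.conj g)) M).mpr hM
  exact h

theorem mem_conj (M : Subgroup SL2) (g m : SL2) (hm : m ∈ M) :
    g * m * g⁻¹ ∈ M.map (MulAut.conj g).toMonoidHom :=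
  ⟨m, hm, rfl⟩

theorem borel_case [Fintype F] (M : Subgroup SL2) (hM : IsCoatom M)
    (hup : ∀ m ∈ M, (m : M2) 1 0 = 0) :
    Nat.card M = Fintype.card F * (Fintype.card F - 1) := by
  obtain ⟨B, hB⟩ : ∃ B : Subgroup SL2, ∀ g : SL2, g ∈ B ↔ (g : M2) 1 0 = 0 := by
    refine ⟨{ carrier := {g | (g : M2) 1 0 = 0}
              mul_mem' := fun {a b} ha hb => upper_mul_10 a b ha hb
              one_mem' := by
                show ((1 : SL2) : M2) 1 0 = 0
                simp
              inv_mem' := fun {a} ha => upper_inv_10 a ha }, fun g => Iff.rfl⟩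
  have hMB : M ≤ B := fun m hm => (hB m).mpr (hup m hm)
  have hBtop : B ≠ ⊤ := by
    intro h
    have h1 : ye (1 : F) ∈ B := by
      rw [h]
      trivial
    rw [hB, ye_coe] at h1
    simp at h1
  have hEq : M = B := by
    by_contra hne
    exact hBtop (hM.2 B (lt_of_le_of_ne hMB hne))
  have hcard : Nat.card M = Nat.card {b : SL2 // (b : M2) 1 0 = 0} := by
    rw [hEq]
    exact Nat.card_congr (Equiv.subtypeEquivRight hB)
  have hle := upper_sub_card (F := F)
  have hqpos : 0 < Fintype.card F := Fintype.card_pos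
  have hge : Fintype.card F * (Fintype.card F - 1) ≤
      Nat.card {b : SL2 // (b : M2) 1 0 = 0} := by
    have h1 := pt_bound (⊤ : Subgroup SL2)
    rw [Subgroup.card_top, card_SL2] at h1
    have h2 : Nat.card (borM (⊤ : Subgroup SL2)) ≤ Nat.card {b : SL2 // (b : M2) 1 0 = 0} := by
      apply Nat.card_le_card_of_injective (fun n : borM (⊤ : Subgroup SL2) =>
        (⟨((n : (⊤ : Subgroup SL2)) : SL2), (mem_borM _ _).mp n.2⟩ :
          {b : SL2 // (b : M2) 1 0 = 0}))
      intro x y hxy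
      apply Subtype.ext
      apply Subtype.ext
      exact congrArg (fun b : {b : SL2 // (b : M2) 1 0 = 0} => (b : SL2)) hxy
    have h3 : Fintype.card F ^ 2 - 1 = (Fintype.card F + 1) * (Fintype.card F - 1) := by
      obtain ⟨k, hk⟩ : ∃ k, Fintype.card F = k + 1 := ⟨Fintype.card F - 1, by omega⟩
      rw [hk, Nat.add_sub_cancel]
      have h5 : (k + 1) ^ 2 = (k + 1 + 1) * k + 1 := by ring
      rw [h5, Nat.add_sub_cancel]
    rw [h3] at h1
    have h4 : (Fintype.card F + 1) * (Fintype.card F * (Fintype.card F - 1)) ≤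
        (Fintype.card F + 1) * Nat.card (borM (⊤ : Subgroup SL2)) := by
      calc (Fintype.card F + 1) * (Fintype.card F * (Fintype.card F - 1))
          = Fintype.card F * ((Fintype.card F + 1) * (Fintype.card F - 1)) := by ring
        _ ≤ _ := h1
    exact le_trans (Nat.le_of_mul_le_mul_left h4 (by omega)) h2
  omega

theorem coset_entries (g b : SL2) (v : F) (hb : (b : M2) 1 0 = 0) :
    ((xe v * g * b : SL2) : M2) 1 0 = (g : M2) 1 0 * (b : M2) 0 0 ∧
    ((xe v * g * b : SL2) : M2) 0 0 = ((g : M2) 0 0 + v * (g : M2) 1 0) * (b : M2) 0 0 := by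
  constructor
  · rw [Matrix.SpecialLinearGroup.coe_mul, Matrix.mul_apply, Fin.sum_univ_two, hb, mul_zero,
      add_zero, Matrix.SpecialLinearGroup.coe_mul, Matrix.mul_apply, Fin.sum_univ_two, xe_10,
      xe_11]
    ring
  · rw [Matrix.SpecialLinearGroup.coe_mul, Matrix.mul_apply, Fin.sum_univ_two, hb, mul_zero,
      add_zero, Matrix.SpecialLinearGroup.coe_mul, Matrix.mul_apply, Fin.sum_univ_two, xe_00,
      xe_01]
    ring

theorem coset_card [Fintype F] (M : Subgroup SL2) (g : SL2) (hg : g ∈ M)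
    (hg10 : (g : M2) 1 0 ≠ 0) :
    ∃ Φ : Option {v : F // xe v ∈ M} × borM M → M, Function.Injective Φ ∧
      (∀ (v : {v : F // xe v ∈ M}) (b : borM M),
        ((Φ (some v, b) : M) : SL2) = xe (v : F) * g * ((b : M) : SL2)) ∧
      (∀ b : borM M, Φ (none, b) = (b : M)) := by
  refine ⟨fun x => match x.1 with
    | none => (x.2 : M)
    | some v => ⟨xe (v : F) * g * ((x.2 : M) : SL2),
        M.mul_mem (M.mul_mem v.2 hg) (x.2 : M).2⟩, ?_, fun v b => rfl, fun b => rfl⟩
  rintro ⟨o, b⟩ ⟨o', b'⟩ h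
  have hb := (mem_borM M _).mp b.2
  have hb' := (mem_borM M _).mp b'.2
  have hb00 := left_ne_zero_of_mul_eq_one (upper_diag _ hb)
  have hb'00 := left_ne_zero_of_mul_eq_one (upper_diag _ hb')
  cases o with
  | none =>
    cases o' with
    | none =>
      have h1 : (b : M) = (b' : M) := h
      rw [Subtype.ext h1]
    | some v' =>
      exfalso
      have h1 : ((b : M) : SL2) = xe (v' : F) * g * ((b' : M) : SL2) :=
        congrArg (fun m : M => (m : SL2)) h
      have h2 := (coset_entries g ((b' : M) : SL2) (v' : F) hb').1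
      rw [← h1, hb] at h2
      exact mul_ne_zero hg10 hb'00 h2.symm
  | some v =>
    cases o' with
    | none =>
      exfalso
      have h1 : xe (v : F) * g * ((b : M) : SL2) = ((b' : M) : SL2) :=
        congrArg (fun m : M => (m : SL2)) h
      have h2 := (coset_entries g ((b : M) : SL2) (v : F) hb).1
      rw [h1, hb'] at h2
      exact mul_ne_zero hg10 hb00 h2.symm
    | some v' =>
      have h1 : xe (v : F) * g * ((b : M) : SL2) = xe (v' : F) * g * ((b' : M) : SL2) :=
        congrArg (fun m : M => (m : SL2)) h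
      obtain ⟨e1, e2⟩ := coset_entries g ((b : M) : SL2) (v : F) hb
      obtain ⟨e1', e2'⟩ := coset_entries g ((b' : M) : SL2) (v' : F) hb'
      rw [h1] at e1 e2
      have hbb : (((b : M) : SL2) : M2) 0 0 = (((b' : M) : SL2) : M2) 0 0 :=
        mul_left_cancel₀ hg10 (e1.symm.trans e1')
      have hvv : (v : F) = (v' : F) := by
        have h3 : ((g : M2) 0 0 + (v : F) * (g : M2) 1 0) * (((b : M) : SL2) : M2) 0 0 =
            ((g : M2) 0 0 + (v' : F) * (g : M2) 1 0) * (((b : M) : SL2) : M2) 0 0 := by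
          rw [← e2, e2', hbb]
        have h4 := mul_right_cancel₀ hb00 h3
        have h5 : (v : F) * (g : M2) 1 0 = (v' : F) * (g : M2) 1 0 := add_left_cancel h4
        exact mul_right_cancel₀ hg10 h5
      have hv : v = v' := Subtype.ext hvv
      subst hv
      have hbe : ((b : M) : SL2) = ((b' : M) : SL2) := mul_left_cancel h1
      have h6 : b = b' := Subtype.ext (Subtype.ext hbe)
      rw [h6]

theorem index_ge [Fintype F] (M : Subgroup SL2) (g : SL2) (hg : g ∈ M)
    (hg10 : (g : M2) 1 0 ≠ 0) :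
    (Nat.card {v : F // xe v ∈ M} + 1) * Nat.card (borM M) ≤ Nat.card M := by
  obtain ⟨Φ, hΦ, -, -⟩ := coset_card M g hg hg10
  have h := Nat.card_le_card_of_injective Φ hΦ
  rwa [Nat.card_prod, Finite.card_option] at h

theorem cls_raw [Fintype F] [CharP F 2] (M : Subgroup SL2) [Fintype M] (hneg : negOne ∈ M)
    (w : M) (hw : Good (⟨negOne, hneg⟩ : M) w) (htr : ((w : SL2) : M2).trace ≠ 0) :
    3 ≤ Nat.card (Subgroup.centralizer {w}) ∧
    (Nat.card (Subgroup.normalizer ((Subgroup.centralizer {w} : Subgroup M) : Set M)) =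
        Nat.card (Subgroup.centralizer {w}) ∨
      Nat.card (Subgroup.normalizer ((Subgroup.centralizer {w} : Subgroup M) : Set M)) =
        2 * Nat.card (Subgroup.centralizer {w})) ∧
    Fintype.card M * (Nat.card (Subgroup.centralizer {w}) - 1) =
      (cls (⟨negOne, hneg⟩ : M) w).card *
        Nat.card (Subgroup.normalizer ((Subgroup.centralizer {w} : Subgroup M) : Set M)) := by
  have h2 : (2 : F) = 0 := CharTwo.two_eq_zero
  have H := hyp0n M hneg
  have hw2 : w * w ≠ 1 := by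
    intro h
    apply htr
    have h' : (w : SL2) * (w : SL2) = 1 := congrArg Subtype.val h
    rw [unip_tr 2 (w : SL2) (by rw [pow_two]; exact h'), h2]
  have h3 := three_le_cent w hw.1 hw2
  have hdc := double_count_z H hw
  rw [zcard_one h2 M hneg] at hdc
  have hle := norm_card_le H hw (a2_of2 h2 M w htr)
  have hdvd : Nat.card (Subgroup.centralizer {w}) ∣
      Nat.card (Subgroup.normalizer ((Subgroup.centralizer {w} : Subgroup M) : Set M)) :=
    Subgroup.card_dvd_of_le Subgroup.le_normalizer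
  have hpos : 0 < Nat.card (Subgroup.normalizer
      ((Subgroup.centralizer {w} : Subgroup M) : Set M)) := Nat.card_pos
  refine ⟨h3, ?_, hdc⟩
  obtain ⟨j, hj⟩ := hdvd
  have hj0 : j ≠ 0 := by
    rintro rfl
    rw [mul_zero] at hj
    omega
  have hj2 : j ≤ 2 := by
    by_contra hcon
    push Not at hcon
    have h5 := Nat.mul_le_mul_left (Nat.card (Subgroup.centralizer {w})) (Nat.succ_le_of_lt hcon)
    rw [← hj] at h5
    omega
  rcases (by omega : j = 1 ∨ j = 2) with rfl | rfl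
  · left
    rw [hj, mul_one]
  · right
    rw [hj, mul_comm]

theorem norm_top (M : Subgroup SL2) [Fintype M] (hneg : negOne ∈ M) (w : M)
    (hw : Good (⟨negOne, hneg⟩ : M) w)
    (hc : Nat.card (Subgroup.normalizer ((Subgroup.centralizer {w} : Subgroup M) : Set M)) =
      Fintype.card M) :
    ∀ m ∈ M, (m * (w : SL2) * m⁻¹) * (w : SL2) = (w : SL2) * (m * (w : SL2) * m⁻¹) := by
  have H := hyp0n M hneg
  have htop : Subgroup.normalizer ((Subgroup.centralizer {w} : Subgroup M) : Set M) = ⊤ :=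
    Subgroup.eq_top_of_card_eq _ (by rw [hc, Nat.card_eq_fintype_card])
  intro m hm
  have hmem : (⟨m, hm⟩ : M) ∈
      Subgroup.normalizer ((Subgroup.centralizer {w} : Subgroup M) : Set M) := by
    rw [htop]
    trivial
  have hcomm := (mem_norm_iff H hw _).mp hmem
  exact congrArg Subtype.val hcomm.eq

theorem cls_setup [Fintype F] [CharP F 2] (M : Subgroup SL2) [Fintype M] (hneg : negOne ∈ M)
    (v0 : F) (hv0 : v0 ≠ 0) (h1 : xe v0 ∈ M) (g : SL2) (hg : g ∈ M)
    (hg10 : (g : M2) 1 0 ≠ 0) :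
    ∃ N : ℕ, Fintype.card M = Nat.card (borM M) * N ∧
      Nat.card {v : F // xe v ∈ M} + 1 ≤ N ∧
      (cls (⟨negOne, hneg⟩ : M) (⟨xe v0, h1⟩ : M)).card + N =
        N * Nat.card {v : F // xe v ∈ M} ∧
      Nat.card (borM M) ≤
        Nat.card {v : F // xe v ∈ M} * (Nat.card {v : F // xe v ∈ M} - 1) ∧
      2 ≤ Nat.card {v : F // xe v ∈ M} ∧ 2 ∣ Nat.card {v : F // xe v ∈ M} ∧
      0 < Nat.card (borM M) ∧ Nat.card {v : F // xe v ∈ M} ∣ Nat.card (borM M) := by
  have h2 : (2 : F) = 0 := CharTwo.two_eq_zero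
  have hz := zcard_one h2 M hneg
  obtain ⟨hgx, hchi, hdc1⟩ := class1u M hneg v0 hv0 h1
  rw [hz, one_mul, ← card_borM_eq M] at hdc1
  have hidx := index_ge M g hg hg10
  rw [Nat.card_eq_fintype_card (α := M)] at hidx
  obtain ⟨N, hN⟩ := Subgroup.card_subgroup_dvd_card (borM M)
  rw [Nat.card_eq_fintype_card (α := M)] at hN
  have hβpos : 0 < Nat.card (borM M) := Nat.card_pos
  have horb := beta_orbit M v0 hv0 h1
  rw [card_cent_x1u M hneg v0 hv0 h1, hz, one_mul] at horb
  have hP2 : 2 ≤ Nat.card {v : F // xe v ∈ M} := by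
    haveI : Nontrivial {v : F // xe v ∈ M} :=
      ⟨⟨⟨0, by rw [xe_zero]; exact M.one_mem⟩, ⟨v0, h1⟩,
        fun h => hv0 (congrArg Subtype.val h).symm⟩⟩
    exact Finite.one_lt_card
  have hPe : 2 ∣ Nat.card {v : F // xe v ∈ M} := by
    obtain ⟨n, -, hn⟩ := FiniteField.card F 2
    have hd := P_dvd M
    rw [hn] at hd
    obtain ⟨j, -, hj⟩ := (Nat.dvd_prime_pow Nat.prime_two).mp hd
    rw [hj] at hP2 ⊢
    have hj0 : j ≠ 0 := by
      rintro rfl
      simp at hP2
    exact dvd_pow_self 2 hj0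
  have hPβ : Nat.card {v : F // xe v ∈ M} ∣ Nat.card (borM M) := by
    rw [card_borM M, le_antisymm (ker_le M) (ker_ge M)]
    exact dvd_mul_right _ _
  refine ⟨N, hN, ?_, ?_, horb, hP2, hPe, hβpos, hPβ⟩
  · rw [hN, mul_comm (Nat.card {v : F // xe v ∈ M} + 1)] at hidx
    exact Nat.le_of_mul_le_mul_left hidx hβpos
  · rw [hN] at hdc1
    obtain ⟨p, hp⟩ : ∃ p, Nat.card {v : F // xe v ∈ M} = p + 1 :=
      ⟨Nat.card {v : F // xe v ∈ M} - 1, by omega⟩
    rw [hp] at hdc1 ⊢
    rw [Nat.add_sub_cancel] at hdc1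
    have h5 : (cls (⟨negOne, hneg⟩ : M) (⟨xe v0, h1⟩ : M)).card * Nat.card (borM M) =
        (N * p) * Nat.card (borM M) := by
      rw [← hdc1]
      ring
    rw [Nat.eq_of_mul_eq_mul_right hβpos h5]
    ring

end Cfsg.Agent.Helper14.HB
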