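import Mathlib
import Cfsg.Agent.Helper14.HB

set_option autoImplicit false

namespace Cfsg.Agent.Helper14.HC

open Classical

open Cfsg.Agent.Helper14.Mat2 Cfsg.Agent.Helper14.SL2Odd Cfsg.Agent.Helper14.PSL2
  Cfsg.Agent.Helper14.SL2Conj Cfsg.Agent.Helper14.Torus Cfsg.Agent.Helper14.TorusB
  Cfsg.Agent.Helper14.TorusC Cfsg.Agent.Helper14.TorusD Cfsg.Agent.Helper14.TorusE
  Cfsg.Agent.Helper14.SL2T Cfsg.Agent.Helper14.SubA Cfsg.Agent.Helper14.SubD
  Cfsg.Agent.Helper14.CE3 Cfsg.Agent.Helper14.A4Sub Cfsg.Agent.Helper14.EvA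
  Cfsg.Agent.Helper14.DA Cfsg.Agent.Helper14.DB Cfsg.Agent.Helper14.DC
  Cfsg.Agent.Helper14.DF
  Cfsg.Agent.Helper14.DI Cfsg.Agent.Helper14.GA Cfsg.Agent.Helper14.GB Cfsg.Agent.Helper14.GC
  Cfsg.Agent.Helper14.GD Cfsg.Agent.Helper14.GE Cfsg.Agent.Helper14.GF Cfsg.Agent.Helper14.HA
  Cfsg.Agent.Helper14.HB

variable {F : Type*} [Field F]

local notation "SL2" => Matrix.SpecialLinearGroup (Fin 2) F
local notation "M2" => Matrix (Fin 2) (Fin 2) F

theorem cls_num [Fintype F] [CharP F 2] (M : Subgroup SL2) [Fintype M] (hneg : negOne ∈ M)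
    (w : M) (hw : Good (⟨negOne, hneg⟩ : M) w) (htr : ((w : SL2) : M2).trace ≠ 0) :
    ∃ cw nw : ℕ, cw = Nat.card (Subgroup.centralizer {w}) ∧ 3 ≤ cw ∧
      (nw = cw ∨ nw = 2 * cw) ∧
      Fintype.card M * (cw - 1) = (cls (⟨negOne, hneg⟩ : M) w).card * nw ∧
      Fintype.card M ≤ 3 * (cls (⟨negOne, hneg⟩ : M) w).card ∧
      (nw = cw → Fintype.card M ≤ 2 * (cls (⟨negOne, hneg⟩ : M) w).card) ∧
      (nw = Fintype.card M → ∀ m ∈ M,
        (m * (w : SL2) * m⁻¹) * (w : SL2) = (w : SL2) * (m * (w : SL2) * m⁻¹)) := by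
  obtain ⟨h3, hn, hdc⟩ := cls_raw M hneg w hw htr
  refine ⟨_, _, rfl, h3, hn, hdc, ?_, ?_, ?_⟩
  · have hn2 : Nat.card (Subgroup.normalizer ((Subgroup.centralizer {w} : Subgroup M) : Set M)) ≤
        2 * Nat.card (Subgroup.centralizer {w}) := by
      rcases hn with h | h <;> omega
    exact cls_third _ _ _ _ h3 hdc hn2
  · intro h
    rw [h] at hdc
    exact cls_half _ _ 1 _ (by omega) (by omega) hdc
  · intro h
    exact norm_top M hneg w hw h

set_option maxHeartbeats 2000000 in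
theorem class_eq2 [Fintype F] [CharP F 2] (M : Subgroup SL2) (v0 : F) (hv0 : v0 ≠ 0)
    (h1 : xe v0 ∈ M) (g : SL2) (hg : g ∈ M) (hg10 : (g : M2) 1 0 ≠ 0) :
    (∃ w ∈ M, (w : M2).trace ≠ 0 ∧ ∀ m ∈ M, (m * w * m⁻¹) * w = w * (m * w * m⁻¹)) ∨
    (4 ≤ Nat.card {v : F // xe v ∈ M} ∧
      Nat.card M = (Nat.card {v : F // xe v ∈ M} + 1) * Nat.card (borM M) ∧
      Nat.card (borM M) =
        Nat.card {v : F // xe v ∈ M} * (Nat.card {v : F // xe v ∈ M} - 1)) := by
  haveI : Fintype M := Fintype.ofFinite M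
  have h2 : (2 : F) = 0 := CharTwo.two_eq_zero
  have hneg : negOne ∈ M := by
    rw [negOne_eq_one h2]
    exact M.one_mem
  have H := hyp0n M hneg
  have hz := zcard_one h2 M hneg
  obtain ⟨N, hkN, hNP, hC1, hβle, hP2, hPe, hβpos, hPβ⟩ :=
    cls_setup M hneg v0 hv0 h1 g hg hg10
  obtain ⟨hgx, hchix, -⟩ := class1u M hneg v0 hv0 h1
  have hx1sq : (⟨xe v0, h1⟩ : M) * ⟨xe v0, h1⟩ = 1 := by
    apply Subtype.ext
    show xe v0 * xe v0 = 1
    rw [xe_add, (by linear_combination v0 * h2 : v0 + v0 = 0), xe_zero]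
  have hinv : ∀ w : M, Good (⟨negOne, hneg⟩ : M) w → ¬ Rel (⟨xe v0, h1⟩ : M) w →
      ((w : SL2) : M2).trace ≠ 0 := by
    intro w hw hr htr
    apply hr
    have hsq := sq_of_tr_zero h2 (w : SL2) htr
    exact invol_rel (hyp0_of h2 M) _ w hgx.1 hx1sq hw.1 (Subtype.ext hsq)
  obtain ⟨P, hPdef⟩ : ∃ P, P = Nat.card {v : F // xe v ∈ M} := ⟨_, rfl⟩
  obtain ⟨β, hβdef⟩ : ∃ β, β = Nat.card (borM M) := ⟨_, rfl⟩
  obtain ⟨k, hkdef⟩ : ∃ k, k = Fintype.card M := ⟨_, rfl⟩
  obtain ⟨C1, hC1def⟩ : ∃ C1, C1 = (cls (⟨negOne, hneg⟩ : M) (⟨xe v0, h1⟩ : M)).card :=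
    ⟨_, rfl⟩
  rw [Nat.card_eq_fintype_card (α := M)]
  rw [← hPdef] at hNP hC1 hβle hP2 hPe hPβ ⊢
  rw [← hβdef] at hkN hβle hβpos hPβ ⊢
  rw [← hkdef] at hkN ⊢
  rw [← hC1def] at hC1
  have hNP2 : N * 2 ≤ N * P := Nat.mul_le_mul_left N hP2
  obtain ⟨b, hb10, hbalt⟩ := beta_bound M
  rcases hbalt with ⟨hb00, hβcb⟩ | ⟨-, hβP⟩
  · right
    have hbd := upper_diag (b : SL2) hb10
    have hbne : ((b : SL2) : M2) 0 0 ≠ ((b : SL2) : M2) 1 1 := by
      intro h
      apply hb00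
      rw [← h] at hbd
      rw [pow_two]
      exact hbd
    have hb1 : b ≠ 1 := by
      intro h
      apply hb00
      rw [h]
      simp
    have hgb : Good (⟨negOne, hneg⟩ : M) b := by
      refine ⟨hb1, ?_⟩
      intro h
      apply hb1
      rw [h]
      exact Subtype.ext (negOne_eq_one h2)
    have htrb : ((b : SL2) : M2).trace ≠ 0 := by
      intro h
      apply hbne
      rw [Matrix.trace_fin_two] at h
      linear_combination h - ((b : SL2) : M2) 1 1 * h2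
    have hchib : SLc.chi (b : SL2) ≠ 0 := by
      intro h
      apply htrb
      have h3 : ((b : SL2) : M2).trace ^ 2 = 0 := by
        unfold SLc.chi at h
        linear_combination h + 2 * h2
      exact (pow_eq_zero_iff (two_ne_zero)).mp h3
    obtain ⟨hrxb, -⟩ := rel_zero_n M hneg _ b hgx hgb hchix hchib
    have hge := beta_ge_cent M b hb10 hbne
    obtain ⟨cb, nb, hcbdef, hcb3, hnb, hdcb, hk3b, hk2b, -⟩ := cls_num M hneg b hgb htrb
    rw [← hcbdef, ← hPdef, ← hβdef] at hge hβcb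
    have hβeq : β = P * cb := le_antisymm hβcb hge
    obtain ⟨Cb, hCbdef⟩ : ∃ Cb, Cb = (cls (⟨negOne, hneg⟩ : M) b).card := ⟨_, rfl⟩
    rw [← hCbdef, ← hkdef] at hdcb hk3b hk2b
    have hk' : k = P * cb * N := by rw [hkN, hβeq]
    have hcbP : cb ≤ P - 1 := by
      rw [hβeq] at hβle
      exact Nat.le_of_mul_le_mul_left hβle (by omega)
    have hk6 : 3 * (N * P) ≤ k := by
      rw [hk']
      have h5 : (N * P) * 3 ≤ (N * P) * cb := Nat.mul_le_mul_left _ hcb3
      calc 3 * (N * P) = (N * P) * 3 := by ring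
        _ ≤ (N * P) * cb := h5
        _ = P * cb * N := by ring
    obtain ⟨hle2, halt2⟩ := sum2 H _ b hgx hgb hrxb
    rw [hz, ← hC1def, ← hCbdef, ← hkdef] at hle2 halt2
    obtain ⟨c, hc⟩ : ∃ c, cb = c + 1 := ⟨cb - 1, by omega⟩
    rcases hnb with hnb | hnb
    · exfalso
      rw [hnb] at hdcb
      rw [hc, Nat.add_sub_cancel] at hdcb
      have h5 : Cb * (c + 1) = (N * P * c) * (c + 1) := by
        rw [← hdcb, hk', hc]
        ring
      have h6 : Cb = N * P * c := Nat.eq_of_mul_eq_mul_right (by omega) h5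
      have h7 : Cb + N * P = k := by
        rw [h6, hk', hc]
        ring
      rcases halt2 with ⟨w, hw, hr1, hr2⟩ | hs
      · have htrw := hinv w hw hr1
        obtain ⟨cw, nw, hcwdef, hcw3, hnw, hdcw, hk3w, hk2w, -⟩ := cls_num M hneg w hw htrw
        obtain ⟨hle3, -⟩ := sum3 H _ b w hgx hgb hw hrxb hr1 hr2
        rw [hz, ← hC1def, ← hCbdef, ← hkdef] at hle3
        rw [← hkdef] at hk3w
        omega
      · omega
    · rw [hnb] at hdcb
      have hdcb' := hdcb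
      rw [hc, Nat.add_sub_cancel] at hdcb'
      have h5 : (2 * Cb) * (c + 1) = (N * P * c) * (c + 1) := by
        have h6 : (2 * Cb) * (c + 1) = k * c := by
          rw [hdcb']
          ring
        rw [h6, hk', hc]
        ring
      have h6 : 2 * Cb = N * P * c := Nat.eq_of_mul_eq_mul_right (by omega) h5
      have h7 : 2 * Cb + N * P = k := by
        rw [h6, hk', hc]
        ring
      rcases halt2 with ⟨w, hw, hr1, hr2⟩ | hs
      swap
      · exfalso
        omega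
      have htrw := hinv w hw hr1
      obtain ⟨cw, nw, hcwdef, hcw3, hnw, hdcw, hk3w, hk2w, -⟩ := cls_num M hneg w hw htrw
      obtain ⟨Cw, hCwdef⟩ : ∃ Cw, Cw = (cls (⟨negOne, hneg⟩ : M) w).card := ⟨_, rfl⟩
      rw [← hCwdef, ← hkdef] at hdcw hk3w hk2w
      obtain ⟨hle3, halt3⟩ := sum3 H _ b w hgx hgb hw hrxb hr1 hr2
      rw [hz, ← hC1def, ← hCbdef, ← hCwdef, ← hkdef] at hle3 halt3
      rcases hnw with hnw | hnw
      · exfalso
        have h8 := hk2w hnw
        omega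
      rcases halt3 with ⟨w', hw', hr1', hr2', hr3'⟩ | hs3
      · exfalso
        have htrw' := hinv w' hw' hr1'
        obtain ⟨cw', nw', -, -, -, -, hk3w', -, -⟩ := cls_num M hneg w' hw' htrw'
        have hle4 := sum4 H _ b w w' hgx hgb hw hw' hrxb hr1 hr2 hr1' hr2' hr3'
        rw [hz, ← hC1def, ← hCbdef, ← hCwdef, ← hkdef] at hle4
        rw [← hkdef] at hk3w'
        omega
      · rw [hnw] at hdcw
        obtain ⟨m, hm⟩ := hPe
        have hP4 : 4 ≤ P := by omega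
        obtain ⟨m', hm'⟩ : ∃ m', m = m' + 1 := ⟨m - 1, by omega⟩
        have hPm : P = 2 * (m' + 1) := by rw [hm, hm']
        have h2Cw : 2 * Cw + N * (2 * (m' + 1)) + 2 = k + 2 * N := by
          rw [← hPm]
          omega
        obtain ⟨hNeq, hcbeq⟩ := ar_P4 m' N cb cw k Cw (by omega) (by omega) (by omega)
          (by omega) (by rw [hk', hPm]) (by omega) hdcw h2Cw
        refine ⟨hP4, ?_, ?_⟩
        · rw [hkN, hNeq, hPm]
          ring
        · rw [hβeq, hcbeq, hPm]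
          congr 1
  · have hβP' := hβP h2
    rw [← hβdef, ← hPdef] at hβP'
    have hβeq : β = P := le_antisymm hβP' (Nat.le_of_dvd hβpos hPβ)
    have hk' : k = N * P := by rw [hkN, hβeq, mul_comm]
    rcases sum1 H _ hgx with ⟨w, hw, hr1⟩ | hs
    swap
    · exfalso
      rw [hz, ← hC1def, ← hkdef] at hs
      omega
    have htrw := hinv w hw hr1
    obtain ⟨cw, nw, hcwdef, hcw3, hnw, hdcw, hk3w, hk2w, htopw⟩ := cls_num M hneg w hw htrw
    obtain ⟨Cw, hCwdef⟩ : ∃ Cw, Cw = (cls (⟨negOne, hneg⟩ : M) w).card := ⟨_, rfl⟩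
    rw [← hCwdef, ← hkdef] at hdcw hk3w hk2w
    rw [← hkdef] at htopw
    obtain ⟨hle2, halt2⟩ := sum2 H _ w hgx hw hr1
    rw [hz, ← hC1def, ← hCwdef, ← hkdef] at hle2 halt2
    have hP : P = 2 := by
      by_contra hne
      have h5 : N * 3 ≤ N * P := Nat.mul_le_mul_left N (by omega)
      omega
    rw [hP] at hk' hC1
    rcases hnw with hnw | hnw
    · exfalso
      have h8 := hk2w hnw
      omega
    rcases halt2 with ⟨w', hw', hr1', hr2'⟩ | hs2
    · exfalso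
      have htrw' := hinv w' hw' hr1'
      obtain ⟨cw', nw', -, -, -, -, hk3w', -, -⟩ := cls_num M hneg w' hw' htrw'
      obtain ⟨hle3, -⟩ := sum3 H _ w w' hgx hw hw' hr1 hr1' hr2'
      rw [hz, ← hC1def, ← hCwdef, ← hkdef] at hle3
      rw [← hkdef] at hk3w'
      omega
    · left
      refine ⟨(w : SL2), w.2, htrw, htopw ?_⟩
      rw [hnw] at hdcw ⊢
      obtain ⟨c, hc⟩ : ∃ c, cw = c + 1 := ⟨cw - 1, by omega⟩
      rw [hc, Nat.add_sub_cancel] at hdcw
      have hN1 : N = Cw + 1 := by omega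
      rw [hk', hN1] at hdcw
      have h5 : c = Cw := by nlinarith
      rw [hc, h5, hk', hN1]
      ring

theorem odd_case [Fintype F] [CharP F 2] (M : Subgroup SL2) (hMne : M ≠ ⊥)
    (hodd : ¬ 2 ∣ Nat.card M) :
    ∃ w ∈ M, (w : M2).trace ≠ 0 ∧ ∀ m ∈ M, (m * w * m⁻¹) * w = w * (m * w * m⁻¹) := by
  haveI : Fintype M := Fintype.ofFinite M
  have h2 : (2 : F) = 0 := CharTwo.two_eq_zero
  have hneg : negOne ∈ M := by
    rw [negOne_eq_one h2]
    exact M.one_mem
  have H := hyp0n M hneg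
  have hz := zcard_one h2 M hneg
  have hoddF : ¬ 2 ∣ Fintype.card M := by rwa [← Nat.card_eq_fintype_card]
  obtain ⟨w, hw1⟩ := (Subgroup.ne_bot_iff_exists_ne_one).mp hMne
  have hgw : Good (⟨negOne, hneg⟩ : M) w := by
    refine ⟨hw1, ?_⟩
    intro h
    apply hw1
    rw [h]
    exact Subtype.ext (negOne_eq_one h2)
  have htr : ((w : SL2) : M2).trace ≠ 0 := by
    intro h
    have hsq := sq_of_tr_zero h2 (w : SL2) h
    have ho : orderOf w = 2 := orderOf_eq_prime (by rw [pow_two]; exact Subtype.ext hsq) hw1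
    apply hodd
    have hd := orderOf_dvd_natCard w
    rw [ho] at hd
    exact hd
  obtain ⟨hcw2, hdcw⟩ := cls_data_odd h2 M hneg hoddF w hgw
  have hkw := cls_half _ _ 1 _ (by omega) (by omega) hdcw
  rcases sum1 H w hgw with ⟨w', hw', hr⟩ | hs
  · exfalso
    obtain ⟨hcw2', hdcw'⟩ := cls_data_odd h2 M hneg hoddF w' hw'
    have hkw' := cls_half _ _ 1 _ (by omega) (by omega) hdcw'
    obtain ⟨hle2, -⟩ := sum2 H w w' hgw hw' hr
    rw [hz] at hle2
    omega
  · rw [hz] at hs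
    have hck := ar_one _ _ _ hcw2 hdcw hs
    have htop : Subgroup.centralizer {w} = (⊤ : Subgroup M) :=
      Subgroup.eq_top_of_card_eq _ (by rw [hck, Nat.card_eq_fintype_card])
    refine ⟨(w : SL2), w.2, htr, ?_⟩
    intro m hm
    have hmem : (⟨m, hm⟩ : M) ∈ Subgroup.centralizer {w} := by
      rw [htop]
      trivial
    rw [Subgroup.mem_centralizer_singleton_iff] at hmem
    have hmw : m * (w : SL2) = (w : SL2) * m := congrArg Subtype.val hmem
    have h5 : m * (w : SL2) * m⁻¹ = (w : SL2) := by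
      rw [hmw]
      group
    rw [h5]

end Cfsg.Agent.Helper14.HC
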