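import Mathlib
import Cfsg.Agent.Helper14.HC

set_option autoImplicit false

namespace Cfsg.Agent.Helper14.HD

open Classical

open Cfsg.Agent.Helper14.Mat2 Cfsg.Agent.Helper14.SL2Odd Cfsg.Agent.Helper14.PSL2
  Cfsg.Agent.Helper14.SL2Conj Cfsg.Agent.Helper14.Torus Cfsg.Agent.Helper14.TorusB
  Cfsg.Agent.Helper14.TorusC Cfsg.Agent.Helper14.TorusD Cfsg.Agent.Helper14.TorusE
  Cfsg.Agent.Helper14.SL2T Cfsg.Agent.Helper14.SubA Cfsg.Agent.Helper14.SubD
  Cfsg.Agent.Helper14.SubP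
  Cfsg.Agent.Helper14.CE3 Cfsg.Agent.Helper14.A4Sub Cfsg.Agent.Helper14.EvA
  Cfsg.Agent.Helper14.DA Cfsg.Agent.Helper14.DB Cfsg.Agent.Helper14.DC
  Cfsg.Agent.Helper14.DF
  Cfsg.Agent.Helper14.DI Cfsg.Agent.Helper14.GA Cfsg.Agent.Helper14.GB Cfsg.Agent.Helper14.GC
  Cfsg.Agent.Helper14.GD Cfsg.Agent.Helper14.GE Cfsg.Agent.Helper14.GF Cfsg.Agent.Helper14.HA
  Cfsg.Agent.Helper14.HB Cfsg.Agent.Helper14.HC

variable {F : Type*} [Field F]

local notation "SL2" => Matrix.SpecialLinearGroup (Fin 2) F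
local notation "M2" => Matrix (Fin 2) (Fin 2) F

theorem mul_ent (a b : SL2) (i j : Fin 2) :
    ((a * b : SL2) : M2) i j = (a : M2) i 0 * (b : M2) 0 j + (a : M2) i 1 * (b : M2) 1 j := by
  rw [Matrix.SpecialLinearGroup.coe_mul, Matrix.mul_apply, Fin.sum_univ_two]

theorem det_ent (a : SL2) : (a : M2) 0 0 * (a : M2) 1 1 - (a : M2) 0 1 * (a : M2) 1 0 = 1 := by
  have h := a.2
  rw [Matrix.det_fin_two] at h
  exact h

theorem inv_ent (a : SL2) : ((a⁻¹ : SL2) : M2) 0 0 = (a : M2) 1 1 ∧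
    ((a⁻¹ : SL2) : M2) 0 1 = -(a : M2) 0 1 ∧
    ((a⁻¹ : SL2) : M2) 1 0 = -(a : M2) 1 0 ∧ ((a⁻¹ : SL2) : M2) 1 1 = (a : M2) 0 0 := by
  rw [Matrix.SpecialLinearGroup.coe_inv, Matrix.adjugate_fin_two]
  exact ⟨rfl, rfl, rfl, rfl⟩

theorem ext4 (a b : SL2) (h00 : (a : M2) 0 0 = (b : M2) 0 0) (h01 : (a : M2) 0 1 = (b : M2) 0 1)
    (h10 : (a : M2) 1 0 = (b : M2) 1 0) (h11 : (a : M2) 1 1 = (b : M2) 1 1) : a = b := by
  apply Subtype.ext
  ext i j
  fin_cases i <;> fin_cases j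
  · exact h00
  · exact h01
  · exact h10
  · exact h11

theorem P_even [Fintype F] [CharP F 2] (M : Subgroup SL2)
    (hP2 : 2 ≤ Nat.card {v : F // xe v ∈ M}) :
    ∃ j, Nat.card {v : F // xe v ∈ M} = 2 * j := by
  obtain ⟨n, -, hn⟩ := FiniteField.card F 2
  have hd := P_dvd M
  rw [hn] at hd
  obtain ⟨j, -, hj⟩ := (Nat.dvd_prime_pow Nat.prime_two).mp hd
  rw [hj] at hP2 ⊢
  have hj0 : j ≠ 0 := by
    rintro rfl
    simp at hP2
  exact dvd_pow_self 2 hj0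

theorem claimO [Fintype F] [CharP F 2] (M : Subgroup SL2) (h1 : xe (1 : F) ∈ M)
    (hr : Nat.card (d00 M).range + 1 = Nat.card {v : F // xe v ∈ M}) :
    ∀ x : F, xe x ∈ M → x ≠ 0 → ∃ b ∈ M, (b : M2) 1 0 = 0 ∧ (b : M2) 0 0 ^ 2 = x := by
  have h2 : (2 : F) = 0 := CharTwo.two_eq_zero
  have hmem : ∀ u : (d00 M).range, xe ((((u : Fˣ) : F)) ^ 2) ∈ M := by
    rintro ⟨u, n, rfl⟩
    have h10 := (mem_borM M _).mp n.2
    have h5 := conj_upper ((n : M) : SL2) h10 1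
    rw [mul_one] at h5
    show xe ((((d00 M n : Fˣ) : F)) ^ 2) ∈ M
    rw [d00_val, ← h5]
    exact M.mul_mem (M.mul_mem (n : M).2 h1) (M.inv_mem (n : M).2)
  obtain ⟨Ψ, hΨn, hΨs⟩ : ∃ Ψ : Option (d00 M).range → {v : F // xe v ∈ M},
      (Ψ none = ⟨0, by rw [xe_zero]; exact M.one_mem⟩) ∧
        ∀ u : (d00 M).range, Ψ (some u) = ⟨(((u : Fˣ) : F)) ^ 2, hmem u⟩ :=
    ⟨fun o => match o with
      | none => ⟨0, by rw [xe_zero]; exact M.one_mem⟩
      | some u => ⟨(((u : Fˣ) : F)) ^ 2, hmem u⟩, rfl, fun u => rfl⟩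
  have hinj : Function.Injective Ψ := by
    intro o o' h
    cases o with
    | none =>
      cases o' with
      | none => rfl
      | some u' =>
        exfalso
        rw [hΨn, hΨs] at h
        have h5 : (0 : F) = (((u' : Fˣ) : F)) ^ 2 := congrArg Subtype.val h
        exact (pow_ne_zero 2 (Units.ne_zero (u' : Fˣ))) h5.symm
    | some u =>
      cases o' with
      | none =>
        exfalso
        rw [hΨn, hΨs] at h
        have h5 : (((u : Fˣ) : F)) ^ 2 = 0 := congrArg Subtype.val h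
        exact (pow_ne_zero 2 (Units.ne_zero (u : Fˣ))) h5
      | some u' =>
        rw [hΨs, hΨs] at h
        have h5 : (((u : Fˣ) : F)) ^ 2 = (((u' : Fˣ) : F)) ^ 2 := congrArg Subtype.val h
        have h6 : (((u : Fˣ) : F) - ((u' : Fˣ) : F)) ^ 2 = 0 := by
          linear_combination h5 +
            ((((u' : Fˣ) : F)) ^ 2 - ((u : Fˣ) : F) * ((u' : Fˣ) : F)) * h2
        have h7 : ((u : Fˣ) : F) = ((u' : Fˣ) : F) :=
          sub_eq_zero.mp ((pow_eq_zero_iff (two_ne_zero)).mp h6)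
        rw [Subtype.ext (Units.ext h7)]
  have hbij := hinj.bijective_of_nat_card_le (by rw [Finite.card_option, hr])
  intro x hx hx0
  obtain ⟨o, ho⟩ := hbij.2 ⟨x, hx⟩
  cases o with
  | none =>
    exfalso
    rw [hΨn] at ho
    exact hx0 (congrArg Subtype.val ho).symm
  | some u =>
    rw [hΨs] at ho
    have h5 : (((u : Fˣ) : F)) ^ 2 = x := congrArg Subtype.val ho
    obtain ⟨n, hn⟩ := u.2
    refine ⟨((n : M) : SL2), (n : M).2, (mem_borM M _).mp n.2, ?_⟩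
    rw [← h5, ← hn]
    rfl

theorem K_field [Fintype F] [CharP F 2] (M : Subgroup SL2) (h1 : xe (1 : F) ∈ M)
    (hO : ∀ x : F, xe x ∈ M → x ≠ 0 → ∃ b ∈ M, (b : M2) 1 0 = 0 ∧ (b : M2) 0 0 ^ 2 = x) :
    ∃ K : Subfield F, ∀ x : F, x ∈ K ↔ xe x ∈ M := by
  refine ⟨{ carrier := {x | xe x ∈ M}
            mul_mem' := ?_
            one_mem' := h1
            add_mem' := ?_
            zero_mem' := ?_
            neg_mem' := ?_
            inv_mem' := ?_ }, fun x => Iff.rfl⟩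
  · intro a b ha hb
    show xe (a * b) ∈ M
    have ha' : xe a ∈ M := ha
    have hb' : xe b ∈ M := hb
    by_cases ha0 : a = 0
    · rw [ha0, zero_mul, xe_zero]
      exact M.one_mem
    · obtain ⟨n, hn, hn10, hn00⟩ := hO a ha' ha0
      rw [← hn00, ← conj_upper n hn10 b]
      exact M.mul_mem (M.mul_mem hn hb') (M.inv_mem hn)
  · intro a b ha hb
    show xe (a + b) ∈ M
    rw [← xe_add]
    exact M.mul_mem ha hb
  · show xe (0 : F) ∈ M
    rw [xe_zero]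
    exact M.one_mem
  · intro x hx
    show xe (-x) ∈ M
    rw [CharTwo.neg_eq]
    exact hx
  · intro x hx
    show xe (x⁻¹) ∈ M
    have hx' : xe x ∈ M := hx
    by_cases hx0 : x = 0
    · rw [hx0, inv_zero, xe_zero]
      exact M.one_mem
    · obtain ⟨n, hn, hn10, hn00⟩ := hO x hx' hx0
      have hd := upper_diag n hn10
      have hi10 := upper_inv_10 n hn10
      have hi00 := (inv_ent n).1
      have h5 := conj_upper (n⁻¹) hi10 1
      rw [hi00, mul_one] at h5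
      have h6 : (n : M2) 1 1 ^ 2 = x⁻¹ := by
        apply eq_inv_of_mul_eq_one_left
        rw [← hn00]
        linear_combination ((n : M2) 0 0 * (n : M2) 1 1 + 1) * hd
      rw [← h6, ← h5]
      exact M.mul_mem (M.mul_mem (M.inv_mem hn) h1) (M.inv_mem (M.inv_mem hn))

theorem decomp [Fintype F] (M : Subgroup SL2) (g : SL2) (hg : g ∈ M) (hg10 : (g : M2) 1 0 ≠ 0)
    (hk : Nat.card M = (Nat.card {v : F // xe v ∈ M} + 1) * Nat.card (borM M)) :
    ∀ m ∈ M, (m : M2) 1 0 ≠ 0 → ∃ v : F, xe v ∈ M ∧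
      (m : M2) 0 0 * (g : M2) 1 0 = ((g : M2) 0 0 + v * (g : M2) 1 0) * (m : M2) 1 0 := by
  obtain ⟨Φ, hΦ, hΦs, hΦn⟩ := coset_card M g hg hg10
  have hbij := hΦ.bijective_of_nat_card_le (by rw [Nat.card_prod, Finite.card_option, hk])
  intro m hm hm10
  obtain ⟨⟨o, b⟩, hob⟩ := hbij.2 ⟨m, hm⟩
  have hb := (mem_borM M _).mp b.2
  cases o with
  | none =>
    exfalso
    rw [hΦn] at hob
    apply hm10
    have h5 : ((b : M) : SL2) = m := congrArg Subtype.val hob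
    rw [← h5]
    exact hb
  | some v =>
    have h5 : xe (v : F) * g * ((b : M) : SL2) = m := by
      rw [← hΦs v b, hob]
    obtain ⟨e1, e2⟩ := coset_entries g ((b : M) : SL2) (v : F) hb
    rw [h5] at e1 e2
    refine ⟨(v : F), v.2, ?_⟩
    rw [e1, e2]
    ring

set_option maxHeartbeats 2000000 in
theorem struct_main [Fintype F] [CharP F 2] (M : Subgroup SL2) (h1 : xe (1 : F) ∈ M)
    (d0 : SL2) (hd0 : d0 ∈ M) (hd10 : (d0 : M2) 1 0 = 0) (hd01 : (d0 : M2) 0 1 = 0)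
    (hd00 : (d0 : M2) 0 0 ^ 2 ≠ 1)
    (g : SL2) (hg : g ∈ M) (hg10 : (g : M2) 1 0 ≠ 0)
    (hP4 : 4 ≤ Nat.card {v : F // xe v ∈ M})
    (hk : Nat.card M = (Nat.card {v : F // xe v ∈ M} + 1) * Nat.card (borM M))
    (hβ : Nat.card (borM M) =
      Nat.card {v : F // xe v ∈ M} * (Nat.card {v : F // xe v ∈ M} - 1)) :
    ∃ K : Subfield F, Nat.card K = Nat.card {v : F // xe v ∈ M} ∧
      ∀ m : SL2, m ∈ M ↔ ∀ i j, (m : M2) i j ∈ K := by
  have h2 : (2 : F) = 0 := CharTwo.two_eq_zero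
  have hdec := decomp M g hg hg10 hk
  obtain ⟨j, hj⟩ := P_even M (by omega)
  obtain ⟨P, hPdef⟩ : ∃ P, P = Nat.card {v : F // xe v ∈ M} := ⟨_, rfl⟩
  rw [← hPdef] at hP4 hk hβ hj ⊢
  have hrange : Nat.card (d00 M).range = P - 1 := by
    have h5 := card_borM M
    rw [hβ, le_antisymm (ker_le M) (ker_ge M), ← hPdef] at h5
    exact (Nat.eq_of_mul_eq_mul_left (by omega) h5).symm
  have hO := claimO M h1 (by rw [hrange, ← hPdef]; omega)
  obtain ⟨K, hK⟩ := K_field M h1 hO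
  have hKcard : Nat.card K = P := by
    rw [hPdef]
    exact Nat.card_congr (Equiv.subtypeEquivRight hK)
  have hpow : ∀ b : SL2, b ∈ M → (b : M2) 1 0 = 0 → (b : M2) 0 0 ^ (P - 1) = 1 := by
    intro b hb hb10
    have h5 : (⟨d00 M ⟨⟨b, hb⟩, hb10⟩, ⟨_, rfl⟩⟩ : (d00 M).range) ^ Nat.card (d00 M).range = 1 :=
      pow_card_eq_one'
    rw [hrange] at h5
    have h6 := congrArg (fun x : (d00 M).range => ((x : Fˣ) : F)) h5
    simp only [Subgroup.coe_pow, Units.val_pow_eq_pow_val, Subgroup.coe_one, Units.val_one] at h6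
    exact h6
  have hKpow : ∀ x ∈ K, x ^ P = x := by
    intro x hx
    by_cases hx0 : x = 0
    · rw [hx0, zero_pow (by omega)]
    · obtain ⟨n, hn, hn10, hn00⟩ := hO x ((hK x).mp hx) hx0
      have h5 := hpow n hn hn10
      have h6 : x ^ (P - 1) = 1 := by
        rw [← hn00, ← pow_mul, mul_comm, pow_mul, h5, one_pow]
      calc x ^ P = x ^ (P - 1 + 1) := by rw [Nat.sub_add_cancel (by omega)]
        _ = x := by rw [pow_succ, h6, one_mul]
  have hsqK : ∀ c : F, c ^ 2 ∈ K → c ∈ K := by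
    intro c hc
    have h6 : ((c ^ 2) ^ j) ^ 2 = c ^ 2 := by
      rw [← pow_mul, mul_comm, ← hj]
      exact hKpow _ hc
    have h5 : ((c ^ 2) ^ j - c) ^ 2 = 0 := by
      linear_combination h6 + (c ^ 2 - (c ^ 2) ^ j * c) * h2
    have h7 : (c ^ 2) ^ j = c := sub_eq_zero.mp ((pow_eq_zero_iff (two_ne_zero)).mp h5)
    rw [← h7]
    exact pow_mem hc j
  have hup00 : ∀ b : SL2, b ∈ M → (b : M2) 1 0 = 0 → (b : M2) 0 0 ∈ K := by
    intro b hb hb10
    apply hsqK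
    rw [hK]
    have h5 := conj_upper b hb10 1
    rw [mul_one] at h5
    rw [← h5]
    exact M.mul_mem (M.mul_mem hb h1) (M.inv_mem hb)
  have hdd := upper_diag d0 hd10
  have h1a : 1 - (d0 : M2) 0 0 ^ 2 ≠ 0 := sub_ne_zero.mpr (Ne.symm hd00)
  have h1aK : 1 - (d0 : M2) 0 0 ^ 2 ∈ K :=
    sub_mem (one_mem K) (pow_mem (hup00 d0 hd0 hd10) 2)
  have hup01 : ∀ b : SL2, b ∈ M → (b : M2) 1 0 = 0 → (b : M2) 0 1 ∈ K := by
    intro b hb hb10
    have hbd := upper_diag b hb10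
    have hb00K := hup00 b hb hb10
    have hb00ne : (b : M2) 0 0 ≠ 0 := left_ne_zero_of_mul_eq_one hbd
    have hmat : xe ((b : M2) 0 0 * (b : M2) 0 1 * (1 - (d0 : M2) 0 0 ^ 2)) * (d0 * b) =
        b * d0 := by
      apply ext4
      · simp only [mul_ent, xe_00, xe_01, xe_10, xe_11, hb10, hd10, hd01] <;> ring
      · simp only [mul_ent, xe_00, xe_01, xe_10, xe_11, hb10, hd10, hd01] <;>
          linear_combination (b : M2) 0 1 * (d0 : M2) 1 1 * (1 - (d0 : M2) 0 0 ^ 2) * hbd -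
            (b : M2) 0 1 * (d0 : M2) 0 0 * hdd
      · simp only [mul_ent, xe_00, xe_01, xe_10, xe_11, hb10, hd10, hd01] <;> ring
      · simp only [mul_ent, xe_00, xe_01, xe_10, xe_11, hb10, hd10, hd01] <;> ring
    have hmem : xe ((b : M2) 0 0 * (b : M2) 0 1 * (1 - (d0 : M2) 0 0 ^ 2)) ∈ M := by
      have h5 : xe ((b : M2) 0 0 * (b : M2) 0 1 * (1 - (d0 : M2) 0 0 ^ 2)) =
          (b * d0) * (d0 * b)⁻¹ := eq_mul_inv_of_mul_eq hmat
      rw [h5]
      exact M.mul_mem (M.mul_mem hb hd0) (M.inv_mem (M.mul_mem hd0 hb))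
    have h6 : (b : M2) 0 0 * (b : M2) 0 1 * (1 - (d0 : M2) 0 0 ^ 2) ∈ K := (hK _).mpr hmem
    have h7 : (b : M2) 0 1 = ((b : M2) 0 0 * (b : M2) 0 1 * (1 - (d0 : M2) 0 0 ^ 2)) *
        ((b : M2) 0 0)⁻¹ * (1 - (d0 : M2) 0 0 ^ 2)⁻¹ := by
      symm
      calc ((b : M2) 0 0 * (b : M2) 0 1 * (1 - (d0 : M2) 0 0 ^ 2)) *
            ((b : M2) 0 0)⁻¹ * (1 - (d0 : M2) 0 0 ^ 2)⁻¹
          = (b : M2) 0 1 * ((b : M2) 0 0 * ((b : M2) 0 0)⁻¹) *
              ((1 - (d0 : M2) 0 0 ^ 2) * (1 - (d0 : M2) 0 0 ^ 2)⁻¹) := by ring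
        _ = (b : M2) 0 1 := by
          rw [mul_inv_cancel₀ hb00ne, mul_inv_cancel₀ h1a, mul_one, mul_one]
    rw [h7]
    exact mul_mem (mul_mem h6 (inv_mem hb00K)) (inv_mem h1aK)
  have hF7 : ∀ m ∈ M, (m : M2) 1 0 ≠ 0 → ∃ v ∈ K,
      (m : M2) 0 0 * (g : M2) 1 0 = ((g : M2) 0 0 + v * (g : M2) 1 0) * (m : M2) 1 0 := by
    intro m hm hm10
    obtain ⟨v, hv, he⟩ := hdec m hm hm10
    exact ⟨v, (hK v).mpr hv, he⟩
  obtain ⟨α, hαK, hα⟩ : ∃ α ∈ K, (g : M2) 0 0 = α * (g : M2) 1 0 := by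
    have hd11 : (d0 : M2) 1 1 ≠ 0 := right_ne_zero_of_mul_eq_one hdd
    have h10 : ((d0 * g : SL2) : M2) 1 0 = (d0 : M2) 1 1 * (g : M2) 1 0 := by
      rw [mul_ent, hd10]
      ring
    have h00 : ((d0 * g : SL2) : M2) 0 0 = (d0 : M2) 0 0 * (g : M2) 0 0 := by
      rw [mul_ent, hd01]
      ring
    obtain ⟨v, hvK, he⟩ := hF7 (d0 * g) (M.mul_mem hd0 hg)
      (by rw [h10]; exact mul_ne_zero hd11 hg10)
    rw [h10, h00] at he
    have h6 : (d0 : M2) 0 0 * (g : M2) 0 0 =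
        ((g : M2) 0 0 + v * (g : M2) 1 0) * (d0 : M2) 1 1 := by
      apply mul_right_cancel₀ hg10
      linear_combination he
    have h5 : ((d0 : M2) 0 0 ^ 2 - 1) * (g : M2) 0 0 = v * (g : M2) 1 0 := by
      linear_combination (d0 : M2) 0 0 * h6 + ((g : M2) 0 0 + v * (g : M2) 1 0) * hdd
    refine ⟨v * (1 - (d0 : M2) 0 0 ^ 2)⁻¹ * (-1), ?_, ?_⟩
    · exact mul_mem (mul_mem hvK (inv_mem h1aK)) (neg_mem (one_mem K))
    · calc (g : M2) 0 0 = ((1 - (d0 : M2) 0 0 ^ 2) * (1 - (d0 : M2) 0 0 ^ 2)⁻¹) * (g : M2) 0 0 := by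
            rw [mul_inv_cancel₀ h1a, one_mul]
        _ = v * (1 - (d0 : M2) 0 0 ^ 2)⁻¹ * (-1) * (g : M2) 1 0 := by
            linear_combination (-(1 - (d0 : M2) 0 0 ^ 2)⁻¹) * h5
  have hF8 : ∀ m ∈ M, (m : M2) 1 0 ≠ 0 → ∃ t ∈ K, (m : M2) 0 0 = t * (m : M2) 1 0 := by
    intro m hm hm10
    obtain ⟨v, hvK, he⟩ := hF7 m hm hm10
    refine ⟨α + v, add_mem hαK hvK, ?_⟩
    apply mul_right_cancel₀ hg10
    rw [he, hα]
    ring
  have hF9 : ∀ m ∈ M, (m : M2) 1 0 ≠ 0 → ∃ t ∈ K, (m : M2) 1 1 = t * (m : M2) 1 0 := by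
    intro m hm hm10
    obtain ⟨i00, -, i10, -⟩ := inv_ent m
    obtain ⟨t, htK, he⟩ := hF8 m⁻¹ (M.inv_mem hm) (by rw [i10]; exact neg_ne_zero.mpr hm10)
    rw [i00, i10] at he
    exact ⟨-t, neg_mem htK, by rw [he]; ring⟩
  have hF10 : ∀ m ∈ M, (m : M2) 1 0 ≠ 0 → (m : M2) 1 0 ∈ K := by
    intro m hm hm10
    obtain ⟨t, htK, ht⟩ := hF8 m hm hm10
    obtain ⟨s, hsK, hs⟩ := hF9 m hm hm10
    obtain ⟨n, hn⟩ : ∃ n : SL2, n = xe (-t) * m * xe (-s) := ⟨_, rfl⟩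
    have hnM : n ∈ M := by
      rw [hn]
      exact M.mul_mem (M.mul_mem ((hK _).mp (neg_mem htK)) hm) ((hK _).mp (neg_mem hsK))
    have hn00 : (n : M2) 0 0 = 0 := by
      rw [hn]
      simp only [mul_ent, xe_00, xe_01, xe_10, xe_11] <;> linear_combination ht
    have hn10 : (n : M2) 1 0 = (m : M2) 1 0 := by
      rw [hn]
      simp only [mul_ent, xe_00, xe_01, xe_10, xe_11] <;> ring
    have hy := conj_xe n 1
    obtain ⟨y, hydef⟩ : ∃ y : SL2, y = n * xe 1 * n⁻¹ := ⟨_, rfl⟩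
    rw [← hydef] at hy
    have hyM : y ∈ M := by
      rw [hydef]
      exact M.mul_mem (M.mul_mem hnM h1) (M.inv_mem hnM)
    have hy00 : (y : M2) 0 0 = 1 := by
      rw [hy]
      show 1 - (n : M2) 0 0 * (n : M2) 1 0 * 1 = 1
      rw [hn00]
      ring
    have hy10 : (y : M2) 1 0 = -((m : M2) 1 0 ^ 2) := by
      rw [hy]
      show -((n : M2) 1 0 ^ 2 * 1) = -((m : M2) 1 0 ^ 2)
      rw [hn10]
      ring
    obtain ⟨t', ht'K, ht'⟩ := hF8 y hyM
      (by rw [hy10]; exact neg_ne_zero.mpr (pow_ne_zero 2 hm10))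
    rw [hy00, hy10] at ht'
    apply hsqK
    have ht'0 : t' ≠ 0 := by
      intro h
      rw [h, zero_mul] at ht'
      exact one_ne_zero ht'
    have h6 : t' * (m : M2) 1 0 ^ 2 = -1 := by linear_combination ht'
    have h5 : (m : M2) 1 0 ^ 2 = -(t'⁻¹) := by
      calc (m : M2) 1 0 ^ 2 = t'⁻¹ * (t' * (m : M2) 1 0 ^ 2) := by
            rw [← mul_assoc, inv_mul_cancel₀ ht'0, one_mul]
        _ = -(t'⁻¹) := by
            rw [h6]
            ring
    rw [h5]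
    exact neg_mem (inv_mem ht'K)
  have hent : ∀ m ∈ M, ∀ i j, (m : M2) i j ∈ K := by
    intro m hm
    have hdet := det_ent m
    by_cases hm10 : (m : M2) 1 0 = 0
    · have h00 := hup00 m hm hm10
      have h01 := hup01 m hm hm10
      have hmd := upper_diag m hm10
      have h11 : (m : M2) 1 1 ∈ K := by
        have h5 : (m : M2) 1 1 = ((m : M2) 0 0)⁻¹ := eq_inv_of_mul_eq_one_right hmd
        rw [h5]
        exact inv_mem h00
      intro i j
      fin_cases i <;> fin_cases j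
      · exact h00
      · exact h01
      · show (m : M2) 1 0 ∈ K
        rw [hm10]
        exact zero_mem K
      · exact h11
    · have h10 := hF10 m hm hm10
      obtain ⟨t, htK, ht⟩ := hF8 m hm hm10
      obtain ⟨s, hsK, hs⟩ := hF9 m hm hm10
      have h00 : (m : M2) 0 0 ∈ K := by
        rw [ht]
        exact mul_mem htK h10
      have h11 : (m : M2) 1 1 ∈ K := by
        rw [hs]
        exact mul_mem hsK h10
      have h01 : (m : M2) 0 1 ∈ K := by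
        have h5 : (m : M2) 0 1 = ((m : M2) 0 0 * (m : M2) 1 1 - 1) * ((m : M2) 1 0)⁻¹ := by
          rw [eq_mul_inv_iff_mul_eq₀ hm10]
          linear_combination -hdet
        rw [h5]
        exact mul_mem (sub_mem (mul_mem h00 h11) (one_mem K)) (inv_mem h10)
      intro i j
      fin_cases i <;> fin_cases j
      · exact h00
      · exact h01
      · exact h10
      · exact h11
  haveI : Fintype K := Fintype.ofFinite K
  have hRle : M ≤ (Matrix.SpecialLinearGroup.map K.subtype :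
      Matrix.SpecialLinearGroup (Fin 2) K →* SL2).range := by
    intro m hm
    apply mem_range_map
    intro i j
    exact ⟨⟨(m : M2) i j, hent m hm i j⟩, rfl⟩
  have hRcard : Nat.card (Matrix.SpecialLinearGroup.map K.subtype :
      Matrix.SpecialLinearGroup (Fin 2) K →* SL2).range ≤ Nat.card M := by
    rw [← Nat.card_congr (MonoidHom.ofInjective (map_inj K.subtype)).toEquiv, card_SL2,
      ← Nat.card_eq_fintype_card, hKcard, hk, hβ]
    obtain ⟨p, hp⟩ : ∃ p, P = p + 1 := ⟨P - 1, by omega⟩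
    rw [hp, Nat.add_sub_cancel]
    have h5 : (p + 1) ^ 2 = p * p + 2 * p + 1 := by ring
    rw [h5, Nat.add_sub_cancel]
    apply le_of_eq
    ring
  have hEq := Subgroup.eq_of_le_of_card_ge hRle hRcard
  refine ⟨K, hKcard, fun m => ⟨fun hm => hent m hm, fun h => ?_⟩⟩
  rw [hEq]
  apply mem_range_map
  intro i j
  exact ⟨⟨(m : M2) i j, h i j⟩, rfl⟩

end Cfsg.Agent.Helper14.HD
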