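import Mathlib
import Cfsg.Agent.Helper14.HD

set_option autoImplicit false

namespace Cfsg.Agent.Helper14.HE

open Classical

open Cfsg.Agent.Helper14.Mat2 Cfsg.Agent.Helper14.SL2Odd Cfsg.Agent.Helper14.PSL2
  Cfsg.Agent.Helper14.SL2Conj Cfsg.Agent.Helper14.Torus Cfsg.Agent.Helper14.TorusB
  Cfsg.Agent.Helper14.TorusC Cfsg.Agent.Helper14.TorusD Cfsg.Agent.Helper14.TorusE
  Cfsg.Agent.Helper14.SL2T Cfsg.Agent.Helper14.SubA Cfsg.Agent.Helper14.SubD
  Cfsg.Agent.Helper14.SubP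
  Cfsg.Agent.Helper14.CE3 Cfsg.Agent.Helper14.A4Sub Cfsg.Agent.Helper14.EvA
  Cfsg.Agent.Helper14.DA Cfsg.Agent.Helper14.DB Cfsg.Agent.Helper14.DC
  Cfsg.Agent.Helper14.DF
  Cfsg.Agent.Helper14.DI Cfsg.Agent.Helper14.GA Cfsg.Agent.Helper14.GB Cfsg.Agent.Helper14.GC
  Cfsg.Agent.Helper14.GD Cfsg.Agent.Helper14.GE Cfsg.Agent.Helper14.GF Cfsg.Agent.Helper14.HA
  Cfsg.Agent.Helper14.HB Cfsg.Agent.Helper14.HC Cfsg.Agent.Helper14.HD

variable {F : Type*} [Field F]

local notation "SL2" => Matrix.SpecialLinearGroup (Fin 2) F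
local notation "M2" => Matrix (Fin 2) (Fin 2) F

theorem coatom_ne_bot [Fintype F] [CharP F 2] (h4 : 4 ≤ Fintype.card F) (M : Subgroup SL2)
    (hM : IsCoatom M) : M ≠ ⊥ := by
  have h2 : (2 : F) = 0 := CharTwo.two_eq_zero
  intro h
  have hx1 : xe (1 : F) ≠ 1 := by
    intro h'
    have h5 := congrArg (fun x : SL2 => (x : M2) 0 1) h'
    simp only [xe_01] at h5
    simp at h5
  have hlt : M < Subgroup.zpowers (xe (1 : F)) := by
    rw [h, bot_lt_iff_ne_bot]
    intro h'
    exact hx1 (Subgroup.zpowers_eq_bot.mp h')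
  have htop := hM.2 _ hlt
  have hc : Nat.card (Subgroup.zpowers (xe (1 : F))) = 2 := by
    rw [Nat.card_zpowers]
    apply orderOf_eq_prime
    · rw [pow_two, xe_add, (by linear_combination h2 : (1 : F) + 1 = 0), xe_zero]
    · exact hx1
  rw [htop, Subgroup.card_top, card_SL2] at hc
  have h5 : 1 ≤ Fintype.card F ^ 2 - 1 := by
    have h6 : 16 ≤ Fintype.card F ^ 2 := by nlinarith
    omega
  have h6 := Nat.mul_le_mul h4 h5
  omega

set_option maxHeartbeats 2000000 in
theorem sub_final [Fintype F] [CharP F 2] (h4 : 4 ≤ Fintype.card F) (M : Subgroup SL2)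
    (hM : IsCoatom M) (K : Subfield F) (hK4 : 4 ≤ Nat.card K)
    (hMK : ∀ m : SL2, m ∈ M ↔ ∀ i j, (m : M2) i j ∈ K) :
    ∃ (F₀ : Type) (_ : Field F₀) (_ : Fintype F₀) (r : ℕ), r.Prime ∧ Fintype.card F₀ ≠ 2 ∧
      Fintype.card F = Fintype.card F₀ ^ r ∧
      Nonempty (M ≃* Matrix.SpecialLinearGroup (Fin 2) F₀) := by
  have h2 : (2 : F) = 0 := CharTwo.two_eq_zero
  haveI : Fintype K := Fintype.ofFinite K
  obtain ⟨P, hPdef⟩ : ∃ P, P = Fintype.card K := ⟨_, rfl⟩
  have hP4 : 4 ≤ P := by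
    rw [hPdef, ← Nat.card_eq_fintype_card]
    exact hK4
  obtain ⟨r, hrdef⟩ : ∃ r, r = Module.finrank K F := ⟨_, rfl⟩
  have hcard : Fintype.card F = P ^ r := by
    rw [hPdef, hrdef]
    exact Module.card_eq_pow_finrank (K := K) (V := F)
  have hr0 : r ≠ 0 := by
    intro h
    rw [h, pow_zero] at hcard
    omega
  obtain ⟨s, hs⟩ : ∃ s, P = 2 ^ s := by
    obtain ⟨f, -, hf⟩ := FiniteField.card F 2
    have hd : P ∣ 2 ^ (f : ℕ) := by
      rw [← hf, hcard]
      exact dvd_pow_self P hr0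
    obtain ⟨s, -, hs⟩ := (Nat.dvd_prime_pow Nat.prime_two).mp hd
    exact ⟨s, hs⟩
  have hs0 : s ≠ 0 := by
    intro h
    rw [h, pow_zero] at hs
    omega
  have hKpow : ∀ x ∈ K, x ^ P = x := by
    intro x hx
    have h5 := congrArg (fun y : K => (y : F)) (FiniteField.pow_card (⟨x, hx⟩ : K))
    rw [hPdef]
    simpa using h5
  haveI : Fintype (GaloisField 2 s) := Fintype.ofFinite _
  have hc0 : Fintype.card (GaloisField 2 s) = P := by
    rw [← Nat.card_eq_fintype_card, GaloisField.card 2 s hs0, hs]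
  obtain ⟨e⟩ : Nonempty (GaloisField 2 s ≃+* K) :=
    ⟨FiniteField.ringEquivOfCardEq (by rw [hc0, hPdef])⟩
  obtain ⟨ι₀, hι₀⟩ : ∃ ι₀ : GaloisField 2 s →+* F, ∀ y, ι₀ y = ((e y : K) : F) :=
    ⟨K.subtype.comp e.toRingHom, fun y => rfl⟩
  have hrange : ∀ x : F, x ∈ Set.range ι₀ ↔ x ∈ K := by
    intro x
    constructor
    · rintro ⟨y, rfl⟩
      rw [hι₀]
      exact (e y).2
    · intro hx
      refine ⟨e.symm ⟨x, hx⟩, ?_⟩
      rw [hι₀, e.apply_symm_apply]
  have hEq : M = (Matrix.SpecialLinearGroup.map ι₀ :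
      Matrix.SpecialLinearGroup (Fin 2) (GaloisField 2 s) →* SL2).range := by
    ext m
    rw [hMK]
    constructor
    · intro h
      exact mem_range_map ι₀ m (fun i j => (hrange _).mpr (h i j))
    · intro h i j
      exact (hrange _).mp (entries_of_mem_range ι₀ m h i j)
  refine ⟨GaloisField 2 s, inferInstance, inferInstance, r, ?_, by rw [hc0]; omega,
    by rw [hc0]; exact hcard,
    ⟨(MulEquiv.subgroupCongr hEq).trans (MonoidHom.ofInjective (map_inj ι₀)).symm⟩⟩
  by_contra hnp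
  have hr1 : r ≠ 1 := by
    intro hr1
    rw [hr1, pow_one] at hcard
    have hb := (Subtype.val_injective (p := fun x : F => x ∈ K)).bijective_of_nat_card_le
      (by rw [Nat.card_eq_fintype_card, Nat.card_eq_fintype_card, hcard, hPdef])
    apply hM.1
    rw [eq_top_iff]
    intro m _
    rw [hMK]
    intro i j
    obtain ⟨y, hy⟩ := hb.2 ((m : M2) i j)
    rw [← hy]
    exact y.2
  obtain ⟨a, had, ha2, har⟩ := Nat.exists_dvd_of_not_prime2 (by omega) hnp
  obtain ⟨b', hb'⟩ := had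
  obtain ⟨n, hn⟩ : ∃ n, n = P ^ a := ⟨_, rfl⟩
  have hn2 : n = 2 ^ (s * a) := by rw [hn, hs, pow_mul]
  have hnq : n < Fintype.card F := by
    rw [hn, hcard]
    exact Nat.pow_lt_pow_right (by omega) har
  have hPn : P < n := by
    rw [hn]
    calc P = P ^ 1 := (pow_one P).symm
      _ < P ^ a := Nat.pow_lt_pow_right (by omega) (by omega)
  have hdq : n - 1 ∣ Fintype.card F - 1 := by
    rw [hcard, hb', pow_mul, ← hn]
    exact Nat.sub_one_dvd_pow_sub_one n b'
  obtain ⟨K', hK'⟩ : ∃ K' : Subfield F, ∀ x : F, x ∈ K' ↔ x ^ n = x := by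
    refine ⟨{ carrier := {x | x ^ n = x}
              mul_mem' := ?_
              one_mem' := one_pow n
              add_mem' := ?_
              zero_mem' := zero_pow (by omega)
              neg_mem' := ?_
              inv_mem' := ?_ }, fun x => Iff.rfl⟩
    · intro x y hx hy
      show (x * y) ^ n = x * y
      have hx' : x ^ n = x := hx
      have hy' : y ^ n = y := hy
      rw [mul_pow, hx', hy']
    · intro x y hx hy
      show (x + y) ^ n = x + y
      have hx' : x ^ n = x := hx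
      have hy' : y ^ n = y := hy
      rw [hn2, add_pow_char_pow, ← hn2, hx', hy']
    · intro x hx
      show (-x) ^ n = -x
      rw [CharTwo.neg_eq]
      exact hx
    · intro x hx
      show (x⁻¹) ^ n = x⁻¹
      have hx' : x ^ n = x := hx
      rw [inv_pow, hx']
  have hiter : ∀ (x : F), x ^ P = x → ∀ t : ℕ, x ^ (P ^ t) = x := by
    intro x hx t
    induction t with
    | zero => rw [pow_zero, pow_one]
    | succ t ih => rw [pow_succ, pow_mul, ih, hx]
  have hKK' : ∀ x ∈ K, x ∈ K' := by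
    intro x hx
    rw [hK', hn]
    exact hiter x (hKpow x hx) a
  obtain ⟨ζ, hζ⟩ := IsCyclic.exists_generator (α := Fˣ)
  have hordζ : orderOf ζ = Fintype.card F - 1 := by
    rw [orderOf_eq_card_of_forall_mem_zpowers hζ, Nat.card_units, Nat.card_eq_fintype_card]
  have hcancel : ∀ (u : Fˣ) (t : ℕ), 1 ≤ t → ((u : Fˣ) : F) ^ t = (u : F) → u ^ (t - 1) = 1 := by
    intro u t ht h
    have hu : u ^ t = u := Units.ext (by rw [Units.val_pow_eq_pow_val]; exact h)
    have h6 : u ^ (t - 1) * u = 1 * u := by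
      rw [← pow_succ, Nat.sub_add_cancel ht, one_mul]
      exact hu
    exact mul_right_cancel h6
  obtain ⟨M', hM'⟩ : ∃ M' : Subgroup SL2, M' = (Matrix.SpecialLinearGroup.map K'.subtype :
      Matrix.SpecialLinearGroup (Fin 2) K' →* SL2).range := ⟨_, rfl⟩
  have hMM' : M ≤ M' := by
    intro m hm
    rw [hM']
    apply mem_range_map
    intro i j
    exact ⟨⟨(m : M2) i j, hKK' _ ((hMK m).mp hm i j)⟩, rfl⟩
  have hM'top : M' ≠ ⊤ := by
    intro h
    have h5 : xe ((ζ : Fˣ) : F) ∈ M' := by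
      rw [h]
      trivial
    rw [hM'] at h5
    obtain ⟨y, hy⟩ := entries_of_mem_range K'.subtype _ h5 0 1
    rw [xe_01] at hy
    have h6 : ((ζ : Fˣ) : F) ∈ K' := by
      rw [← hy]
      exact y.2
    rw [hK'] at h6
    have hu1 := hcancel ζ n (by omega) h6
    have hdvd := orderOf_dvd_of_pow_eq_one hu1
    rw [hordζ] at hdvd
    have h7 := Nat.le_of_dvd (by omega) hdvd
    omega
  have hM'M : M' ≠ M := by
    intro h
    obtain ⟨u, hu⟩ : ∃ u : Fˣ, u = ζ ^ ((Fintype.card F - 1) / (n - 1)) := ⟨_, rfl⟩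
    have hun : u ^ (n - 1) = 1 := by
      rw [hu, ← pow_mul, Nat.div_mul_cancel hdq, ← hordζ, pow_orderOf_eq_one]
    have huK' : ((u : Fˣ) : F) ∈ K' := by
      rw [hK']
      calc ((u : Fˣ) : F) ^ n = ((u : Fˣ) : F) ^ (n - 1 + 1) := by
            rw [Nat.sub_add_cancel (by omega)]
        _ = ((u : Fˣ) : F) ^ (n - 1) * (u : F) := pow_succ _ _
        _ = (u : F) := by
            rw [← Units.val_pow_eq_pow_val, hun, Units.val_one, one_mul]
    have hxM' : xe ((u : Fˣ) : F) ∈ M' := by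
      rw [hM']
      apply mem_range_map
      intro i j
      fin_cases i <;> fin_cases j
      · exact ⟨⟨1, one_mem K'⟩, rfl⟩
      · exact ⟨⟨(u : F), huK'⟩, rfl⟩
      · exact ⟨⟨0, zero_mem K'⟩, rfl⟩
      · exact ⟨⟨1, one_mem K'⟩, rfl⟩
    rw [h, hMK] at hxM'
    have h5 := hxM' 0 1
    rw [xe_01] at h5
    have h6 := hcancel u P (by omega) (hKpow _ h5)
    rw [hu, ← pow_mul] at h6
    have hdvd := orderOf_dvd_of_pow_eq_one h6
    rw [hordζ] at hdvd
    have he : Fintype.card F - 1 = (Fintype.card F - 1) / (n - 1) * (n - 1) :=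
      (Nat.div_mul_cancel hdq).symm
    have hepos : 0 < (Fintype.card F - 1) / (n - 1) := by
      rcases Nat.eq_zero_or_pos ((Fintype.card F - 1) / (n - 1)) with h0 | h0
      · rw [h0, zero_mul] at he
        omega
      · exact h0
    have h7 : n - 1 ∣ P - 1 := by
      apply Nat.dvd_of_mul_dvd_mul_left hepos
      rw [Nat.div_mul_cancel hdq]
      exact hdvd
    have h8 := Nat.le_of_dvd (by omega) h7
    omega
  exact hM'top (hM.2 M' (lt_of_le_of_ne hMM' (Ne.symm hM'M)))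

end Cfsg.Agent.Helper14.HE
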