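import Mathlib
import Cfsg.Agent.Helper14.HE

set_option autoImplicit false

namespace Cfsg.Agent.Helper14.HF

open Classical

open Cfsg.Agent.Helper14.Mat2 Cfsg.Agent.Helper14.SL2Odd Cfsg.Agent.Helper14.PSL2
  Cfsg.Agent.Helper14.SL2Conj Cfsg.Agent.Helper14.Torus Cfsg.Agent.Helper14.TorusB
  Cfsg.Agent.Helper14.TorusC Cfsg.Agent.Helper14.TorusD Cfsg.Agent.Helper14.TorusE
  Cfsg.Agent.Helper14.SL2T Cfsg.Agent.Helper14.SubA Cfsg.Agent.Helper14.SubD
  Cfsg.Agent.Helper14.SubP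
  Cfsg.Agent.Helper14.CE3 Cfsg.Agent.Helper14.A4Sub Cfsg.Agent.Helper14.EvA
  Cfsg.Agent.Helper14.DA Cfsg.Agent.Helper14.DB Cfsg.Agent.Helper14.DC
  Cfsg.Agent.Helper14.DF
  Cfsg.Agent.Helper14.DI Cfsg.Agent.Helper14.GA Cfsg.Agent.Helper14.GB Cfsg.Agent.Helper14.GC
  Cfsg.Agent.Helper14.GD Cfsg.Agent.Helper14.GE Cfsg.Agent.Helper14.GF Cfsg.Agent.Helper14.HA
  Cfsg.Agent.Helper14.HB Cfsg.Agent.Helper14.HC Cfsg.Agent.Helper14.HD Cfsg.Agent.Helper14.HE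

theorem two_of_card (F₀ : Type*) [Field F₀] [Fintype F₀] (r n : ℕ) (hr : r ≠ 0)
    (h : Fintype.card F₀ ^ r = 2 ^ n) : (2 : F₀) = 0 := by
  obtain ⟨p, hp⟩ := CharP.exists F₀
  haveI := hp
  have hpp : p.Prime := CharP.char_is_prime F₀ p
  haveI : Fact p.Prime := ⟨hpp⟩
  obtain ⟨m, -, hm⟩ := FiniteField.card F₀ p
  rw [hm] at h
  have h5 : p ∣ 2 ^ n := by
    rw [← h]
    exact dvd_pow (dvd_pow_self p m.ne_zero) hr
  have hp2 : p = 2 := (Nat.prime_dvd_prime_iff_eq hpp Nat.prime_two).mp (hpp.dvd_of_dvd_pow h5)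
  subst hp2
  exact CharTwo.two_eq_zero

theorem sl_psl (F₀ : Type*) [Field F₀] (h2 : (2 : F₀) = 0) :
    Nonempty (Matrix.SpecialLinearGroup (Fin 2) F₀ ≃*
      Matrix.ProjectiveSpecialLinearGroup (Fin 2) F₀) := by
  have hinj : Function.Injective
      (QuotientGroup.mk' (Subgroup.center (Matrix.SpecialLinearGroup (Fin 2) F₀))) := by
    rw [injective_iff_map_eq_one]
    intro g hg
    rw [QuotientGroup.mk'_apply, QuotientGroup.eq_one_iff] at hg
    exact center_eq_one_char_two h2 g hg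
  exact ⟨MulEquiv.ofBijective (QuotientGroup.mk' _) ⟨hinj, QuotientGroup.mk'_surjective _⟩⟩

variable {F : Type*} [Field F]

local notation "SL2" => Matrix.SpecialLinearGroup (Fin 2) F
local notation "M2" => Matrix (Fin 2) (Fin 2) F

set_option maxHeartbeats 2000000 in
theorem main_sl2 [Fintype F] [CharP F 2] (h4 : 4 ≤ Fintype.card F) (M : Subgroup SL2)
    (hM : IsCoatom M) : Target M := by
  have h2 : (2 : F) = 0 := CharTwo.two_eq_zero
  haveI : Fintype M := Fintype.ofFinite M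
  have hdih : ∀ (M' : Subgroup SL2), IsCoatom M' →
      (∃ w ∈ M', (w : M2).trace ≠ 0 ∧
        ∀ m ∈ M', (m * w * m⁻¹) * w = w * (m * w * m⁻¹)) → Target M' := by
    rintro M' hM' ⟨w, hw, htr, hn⟩
    rcases dih_main h4 M' hM' w hw htr hn with h | h
    · exact Or.inr (Or.inl h)
    · exact Or.inr (Or.inr (Or.inl h))
  by_cases hodd : 2 ∣ Nat.card M
  swap
  · exact hdih M hM (odd_case M (coatom_ne_bot h4 M hM) hodd)
  obtain ⟨u, hu⟩ := exists_prime_orderOf_dvd_card 2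
    (by rwa [← Nat.card_eq_fintype_card] : 2 ∣ Fintype.card M)
  have hu1 : (u : SL2) ≠ 1 := by
    intro h
    have h5 : u = 1 := Subtype.ext h
    rw [h5, orderOf_one] at hu
    omega
  have hu2 : (u : SL2) ^ 2 = 1 := by
    have h5 := pow_orderOf_eq_one u
    rw [hu] at h5
    exact congrArg Subtype.val h5
  have htr : ((u : SL2) : M2).trace = 2 := unip_tr 2 (u : SL2) hu2
  obtain ⟨g1, v0, hv0, hconj⟩ := conj_unip (u : SL2) hu1 htr
  obtain ⟨t, ht⟩ := sq_surj h2 v0⁻¹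
  have ht0 : t ≠ 0 := by
    intro h
    rw [h] at ht
    have h5 : v0⁻¹ = 0 := by
      rw [← ht]
      ring
    exact inv_ne_zero hv0 h5
  obtain ⟨g2, hg2⟩ : ∃ g2 : SL2, g2 = mk2 t 0 0 t⁻¹ (by rw [mul_inv_cancel₀ ht0]; ring) :=
    ⟨_, rfl⟩
  have hg2_10 : (g2 : M2) 1 0 = 0 := by
    rw [hg2]
    rfl
  have hg2_00 : (g2 : M2) 0 0 = t := by
    rw [hg2]
    rfl
  have hx1 : (g2 * g1) * (u : SL2) * (g2 * g1)⁻¹ = xe 1 := by
    calc (g2 * g1) * (u : SL2) * (g2 * g1)⁻¹ = g2 * (g1 * (u : SL2) * g1⁻¹) * g2⁻¹ := by group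
      _ = g2 * xe v0 * g2⁻¹ := by rw [hconj]
      _ = xe ((g2 : M2) 0 0 ^ 2 * v0) := conj_upper g2 hg2_10 v0
      _ = xe 1 := by rw [hg2_00, ht, inv_mul_cancel₀ hv0]
  apply target_conj M (g2 * g1)
  obtain ⟨M1, hM1def⟩ : ∃ M1 : Subgroup SL2,
      M1 = M.map (MulAut.conj (g2 * g1)).toMonoidHom := ⟨_, rfl⟩
  rw [← hM1def]
  have hM1 : IsCoatom M1 := by
    rw [hM1def]
    exact coatom_conj M _ hM
  have h1 : xe (1 : F) ∈ M1 := by
    rw [hM1def, ← hx1]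
    exact mem_conj M _ _ u.2
  by_cases hup : ∀ m ∈ M1, (m : M2) 1 0 = 0
  · exact Or.inl (borel_case M1 hM1 hup)
  push Not at hup
  obtain ⟨g, hg, hg10⟩ := hup
  by_cases hdiag : ∃ b ∈ M1, (b : M2) 1 0 = 0 ∧ (b : M2) 0 0 ^ 2 ≠ 1
  · obtain ⟨b, hb, hb10, hb00⟩ := hdiag
    have hbd := upper_diag b hb10
    have hbne : (b : M2) 0 0 - (b : M2) 1 1 ≠ 0 := by
      intro h
      apply hb00
      have h5 : (b : M2) 0 0 = (b : M2) 1 1 := sub_eq_zero.mp h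
      rw [← h5] at hbd
      rw [pow_two]
      exact hbd
    obtain ⟨t1, ht1⟩ : ∃ t1 : F, t1 * ((b : M2) 0 0 - (b : M2) 1 1) = (b : M2) 0 1 :=
      ⟨(b : M2) 0 1 * ((b : M2) 0 0 - (b : M2) 1 1)⁻¹,
        by rw [mul_assoc, inv_mul_cancel₀ hbne, mul_one]⟩
    obtain ⟨i00, i01, i10, i11⟩ := inv_ent (xe t1)
    rw [xe_11] at i00
    rw [xe_01] at i01
    rw [xe_10] at i10
    rw [xe_00] at i11
    apply target_conj M1 (xe t1)
    obtain ⟨M2', hM2def⟩ : ∃ M2' : Subgroup SL2,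
        M2' = M1.map (MulAut.conj (xe t1)).toMonoidHom := ⟨_, rfl⟩
    rw [← hM2def]
    have hM2 : IsCoatom M2' := by
      rw [hM2def]
      exact coatom_conj M1 _ hM1
    have h1' : xe (1 : F) ∈ M2' := by
      have h5 : xe t1 * xe 1 * (xe t1)⁻¹ = xe 1 := by
        rw [xe_add, add_comm, ← xe_add]
        group
      rw [hM2def, ← h5]
      exact mem_conj M1 _ _ h1
    obtain ⟨d0, hd0def⟩ : ∃ d0 : SL2, d0 = xe t1 * b * (xe t1)⁻¹ := ⟨_, rfl⟩
    have hd0 : d0 ∈ M2' := by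
      rw [hM2def, hd0def]
      exact mem_conj M1 _ _ hb
    have hd10 : (d0 : M2) 1 0 = 0 := by
      rw [hd0def]
      simp only [mul_ent, i00, i01, i10, i11, xe_00, xe_01, xe_10, xe_11, hb10] <;> ring
    have hd01 : (d0 : M2) 0 1 = 0 := by
      rw [hd0def]
      simp only [mul_ent, i00, i01, i10, i11, xe_00, xe_01, xe_10, xe_11, hb10] <;>
        linear_combination -ht1
    have hd00 : (d0 : M2) 0 0 ^ 2 ≠ 1 := by
      have h5 : (d0 : M2) 0 0 = (b : M2) 0 0 := by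
        rw [hd0def]
        simp only [mul_ent, i00, i01, i10, i11, xe_00, xe_01, xe_10, xe_11, hb10] <;> ring
      rw [h5]
      exact hb00
    obtain ⟨g', hg'def⟩ : ∃ g' : SL2, g' = xe t1 * g * (xe t1)⁻¹ := ⟨_, rfl⟩
    have hg' : g' ∈ M2' := by
      rw [hM2def, hg'def]
      exact mem_conj M1 _ _ hg
    have hg'10 : (g' : M2) 1 0 ≠ 0 := by
      have h5 : (g' : M2) 1 0 = (g : M2) 1 0 := by
        rw [hg'def]
        simp only [mul_ent, i00, i01, i10, i11, xe_00, xe_01, xe_10, xe_11] <;> ring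
      rw [h5]
      exact hg10
    rcases class_eq2 M2' 1 one_ne_zero h1' g' hg' hg'10 with hw | ⟨hP4, hk, hβ⟩
    · exact hdih M2' hM2 hw
    · obtain ⟨K, hKc, hMK⟩ :=
        struct_main M2' h1' d0 hd0 hd10 hd01 hd00 g' hg' hg'10 hP4 hk hβ
      exact Or.inr (Or.inr (Or.inr (sub_final h4 M2' hM2 K (by rw [hKc]; exact hP4) hMK)))
  · push Not at hdiag
    rcases class_eq2 M1 1 one_ne_zero h1 g hg hg10 with hw | ⟨hP4, hk, hβ⟩
    · exact hdih M1 hM1 hw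
    · exfalso
      obtain ⟨b, hb10, hbalt⟩ := beta_bound M1
      rcases hbalt with ⟨hb00, -⟩ | ⟨-, hβP⟩
      · exact hb00 (hdiag (b : SL2) b.2 hb10)
      · have h5 := hβP h2
        rw [hβ] at h5
        have h6 : Nat.card {v : F // xe v ∈ M1} * 3 ≤
            Nat.card {v : F // xe v ∈ M1} * (Nat.card {v : F // xe v ∈ M1} - 1) :=
          Nat.mul_le_mul_left _ (by omega)
        omega

theorem psl_result {F : Type*} [Field F] [Fintype F]
    (heven : Even (Fintype.card F)) (h4 : 4 ≤ Fintype.card F)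
    (M : Subgroup (Matrix.ProjectiveSpecialLinearGroup (Fin 2) F)) (hM : IsCoatom M) :
    Nat.card M = Fintype.card F * (Fintype.card F - 1) ∨
    Nonempty (M ≃* DihedralGroup (Fintype.card F - 1)) ∨
    Nonempty (M ≃* DihedralGroup (Fintype.card F + 1)) ∨
    (∃ (F₀ : Type) (_ : Field F₀) (_ : Fintype F₀) (r : ℕ), r.Prime ∧ Fintype.card F₀ ≠ 2 ∧
        Fintype.card F = Fintype.card F₀ ^ r ∧
        Nonempty (M ≃* Matrix.ProjectiveSpecialLinearGroup (Fin 2) F₀)) := by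
  obtain ⟨p, hp⟩ := CharP.exists F
  haveI := hp
  have hpp : p.Prime := CharP.char_is_prime F p
  haveI : Fact p.Prime := ⟨hpp⟩
  obtain ⟨n, -, hn⟩ := FiniteField.card F p
  have hp2 : p = 2 := by
    have h2q : 2 ∣ Fintype.card F := even_iff_two_dvd.mp heven
    rw [hn] at h2q
    exact ((Nat.prime_dvd_prime_iff_eq Nat.prime_two hpp).mp
      (Nat.prime_two.dvd_of_dvd_pow h2q)).symm
  subst hp2
  have h2 : (2 : F) = 0 := CharTwo.two_eq_zero
  obtain ⟨e⟩ := sl_psl F h2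
  obtain ⟨Mt, hMt⟩ : ∃ Mt : Subgroup (Matrix.SpecialLinearGroup (Fin 2) F),
      Mt = M.comap e.toMonoidHom := ⟨_, rfl⟩
  have hMtc : IsCoatom Mt := by
    rw [hMt]
    exact (OrderIso.isCoatom_iff (MulEquiv.comapSubgroup e) M).mpr hM
  have hmap : Mt.map e.toMonoidHom = M := by
    rw [hMt]
    exact Subgroup.map_comap_eq_self_of_surjective e.surjective M
  have eM : Mt ≃* M :=
    (Mt.equivMapOfInjective _ e.injective).trans (MulEquiv.subgroupCongr hmap)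
  rcases main_sl2 h4 Mt hMtc with h | h | h | ⟨F₀, i1, i2, r, hr, hne, hc, h⟩
  · left
    rw [← Nat.card_congr eM.toEquiv]
    exact h
  · obtain ⟨e1⟩ := h
    exact Or.inr (Or.inl ⟨eM.symm.trans e1⟩)
  · obtain ⟨e1⟩ := h
    exact Or.inr (Or.inr (Or.inl ⟨eM.symm.trans e1⟩))
  · obtain ⟨e1⟩ := h
    have h2' : (2 : F₀) = 0 := two_of_card F₀ r (n : ℕ) hr.ne_zero (by rw [← hc, hn])
    obtain ⟨e2⟩ := sl_psl F₀ h2'
    exact Or.inr (Or.inr (Or.inr ⟨F₀, i1, i2, r, hr, hne, hc, ⟨(eM.symm.trans e1).trans e2⟩⟩))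

end Cfsg.Agent.Helper14.HF
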